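import Cfsg.Agent.Cit.OmB3.LinChart
import Cfsg.Agent.Nodes.RKindsBC

/-!
# The field `non` of `ChartLe.Fr` for charts of type `A₃` and `C₂`
-/

set_option autoImplicit false
set_option linter.unusedSectionVars false
set_option linter.unusedVariables false
set_option linter.dupNamespace false
set_option linter.unusedSimpArgs false

namespace Cfsg.Agent.Cit.OmB3.ChartNon

open CoxeterSystem Cfsg.Agent.ChevalleyStructure.CoxeterGeom Cfsg.Agent.Tits.Roots Cfsg.Agent.Nodes
  Cfsg.Agent.Nodes.BNOf Cfsg.Agent.Nodes.Chart Cfsg.Agent.Nodes.RGDLib Cfsg.Agent.Nodes.Reps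
  Cfsg.Agent.Nodes.RootsA Cfsg.Agent.Nodes.Coroot Cfsg.Agent.Nodes.TyStd
open Cfsg.Agent.LieRecognition.BNCox (cA cA_apply)
open Cfsg.Agent.Cit.LemmaATwo Cfsg.Agent.Cit.OmB3.LinChart

section ortho

variable {I W : Type*} [Fintype I] [DecidableEq I] [Group W] [Fintype W] {M : CoxeterMatrix I}
  {cs : CoxeterSystem M W} {A : I → I → ℤ} {h : IsCartan M A}

theorem ne_of_form {r s : I → ℤ} (hr : IsRoot cs h r) (h0 : form cs h r s = 0) : s ≠ r ∧ s ≠ -r := by
  have h1 := form_pos cs h hr.ne_zero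
  constructor
  · rintro rfl; omega
  · rintro rfl
    rw [form_neg_right] at h0
    omega

end ortho

variable {G : Type*} [Group G] {Om : Set (Subgroup G)} {p : ℕ} {D : Subgroup G}

/-- Transport of orthogonality between two descriptions of the same root groups. -/
theorem form_zero_iff [Finite G] (c : Chart Om p D) {n : ℕ} (e : c.I ≃ Fin n) {W' : Type} [Group W'] [Fintype W']
    {M' : CoxeterMatrix (Fin n)} {cs' : CoxeterSystem M' W'} {A' : Fin n → Fin n → ℤ} {h' : IsCartan M' A'}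
    {R' : Set (Fin n → ℤ)} (hroot : ∀ x, IsRoot c.cs c.h (fun i => x (e i)) ↔ IsRoot cs' h' x)
    (hR : ∀ x ∈ R', (fun i => x (e i)) ∈ c.R)
    (C : Cls cs' h' p c.T (fun j => c.n (e.symm j)) (fun x => c.X (fun i => x (e i)))
        R' (fun x => c.Z (fun i => x (e i))) (fun x => c.z (fun i => x (e i)))) {x y : Fin n → ℤ}
    (hy : IsRoot cs' h' y) (hx : x ∈ R') :
    form c.cs c.h (fun i => y (e i)) (fun i => x (e i)) = 0 ↔ cpr cs' h' y x = 0 := by
  have inj : ∀ u v : Fin n → ℤ, ((fun i => u (e i)) : c.I → ℤ) = (fun i => v (e i)) → u = v := by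
    intro u v huv
    funext j
    have h2 := congrFun huv (e.symm j)
    simpa using h2
  have hp := form_pos c.cs c.h (c.cls.root _ (hR x hx)).ne_zero
  have hp' := form_pos cs' h' (C.root x hx).ne_zero
  rw [cpr_zero_iff cs' h' _ (C.root x hx)]
  by_cases h1 : y = x
  · subst h1
    constructor
    · intro h2; omega
    · intro h2; omega
  by_cases h2 : y = -x
  · subst h2
    have e1 : ((fun i => (-x) (e i)) : c.I → ℤ) = -(fun i => x (e i)) := rfl
    rw [e1, form_neg_left, form_neg_left]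
    constructor
    · intro h2; omega
    · intro h2; omega
  rw [← not_iff_not]
  have h3 := form_ne_zero_iff c.cls c.prime c.odd (hR x hx) ((hroot y).2 hy) (fun e1 => h1 (inj _ _ e1))
    (fun e1 => h2 (inj _ _ e1))
  have h4 := form_ne_zero_iff C c.prime c.odd hx hy h1 h2
  exact h3.trans h4.symm

theorem dec3 : ∀ a b c d i j : Fin 4, a ≠ b → c ≠ d → i ≠ j →
    ((if c = a then 1 else 0) - (if c = b then 1 else 0) - ((if d = a then 1 else 0) - (if d = b then 1 else 0)) : ℤ) = 0 →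
    ¬ (i = a ∧ j = b) → ¬ (i = b ∧ j = a) → ¬ (i = c ∧ j = d) → ¬ (i = d ∧ j = c) → ¬ (c = a ∧ d = b) →
    ¬ (c = b ∧ d = a) →
    ((if i = a then 1 else 0) - (if i = b then 1 else 0) - ((if j = a then 1 else 0) - (if j = b then 1 else 0)) : ℤ) ≠ 0 ∧
    ((if i = c then 1 else 0) - (if i = d then 1 else 0) - ((if j = c then 1 else 0) - (if j = d then 1 else 0)) : ℤ) ≠ 0 := by
  intro a b c d i j hab hcd hij h0 h1 h2 h3 h4 h5 h6
  have hca : c ≠ a := by
    intro e1
    rw [if_pos e1, if_neg (fun e2 => hab (e1.symm.trans e2)), if_neg (fun e2 => hcd (e1.trans e2.symm))] at h0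
    split_ifs at h0 <;> omega
  have hcb : c ≠ b := by
    intro e1
    rw [if_neg hca, if_pos e1] at h0
    split_ifs at h0 <;> omega
  have hda : d ≠ a := by
    intro e1
    rw [if_neg hca, if_neg hcb, if_pos e1, if_neg (fun e2 => hab (e1.symm.trans e2))] at h0
    omega
  have hdb : d ≠ b := by
    intro e1
    rw [if_neg hca, if_neg hcb, if_neg hda, if_pos e1] at h0
    omega
  have hall : ∀ x : Fin 4, x = a ∨ x = b ∨ x = c ∨ x = d := by
    intro x
    have ha := a.2; have hb := b.2; have hc := c.2; have hd := d.2; have hx := x.2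
    simp only [Fin.ext_iff, ne_eq] at hab hca hcb hda hdb hcd ⊢
    omega
  rcases hall i with rfl | rfl | rfl | rfl <;> rcases hall j with rfl | rfl | rfl | rfl <;>
    refine ⟨?_, ?_⟩ <;> split_ifs <;> simp_all

/-- **`non` for the charts of type `A₃`.** -/
theorem non_A3 [Finite G] (c : Chart Om p D) (hτ : c.IsTy (.A 3)) {r s : c.I → ℤ} (hr : r ∈ c.R) (hs : s ∈ c.R)
    (h0 : form c.cs c.h r s = 0) : ∀ y, IsRoot c.cs c.h y → y ≠ r → y ≠ -r → y ≠ s → y ≠ -s →
    form c.cs c.h y r ≠ 0 ∧ form c.cs c.h y s ≠ 0 := by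
  obtain ⟨hsr, hsr'⟩ := ne_of_form (c.cls.root r hr) h0
  obtain ⟨e, W', _, _, cs', A', h', hroot, hR, C⟩ := exists_std c hτ
  have inv : ∀ x : c.I → ℤ, (fun i => (fun j => x (e.symm j)) (e i)) = x := fun x => by funext i; simp
  have lift : ∀ x, IsRoot c.cs c.h x → ∃ a b : Fin 4, a ≠ b ∧ x = fun i => rtA a b (e i) := by
    intro x hx
    have h1 : IsRoot cs' h' (fun j => x (e.symm j)) := by
      rw [← hroot, inv]
      exact hx
    obtain ⟨a, b, hab, h2⟩ := exists_of_isRoot cs' _ h1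
    exact ⟨a, b, hab, by rw [← h2, inv]⟩
  have neg : ∀ a b : Fin 4, (fun i => rtA b a (e i)) = -(fun i => rtA a b (e i) : c.I → ℤ) := by
    intro a b
    funext i
    rw [← rtA_neg a b]
    rfl
  have F : ∀ {k l i j : Fin 4}, k ≠ l → i ≠ j → (form c.cs c.h (fun x => rtA i j (e x)) (fun x => rtA k l (e x)) = 0 ↔
      ((if i = k then 1 else 0) - (if i = l then 1 else 0) - ((if j = k then 1 else 0) - (if j = l then 1 else 0)) : ℤ) = 0) := by
    intro k l i j hkl hij
    have h1 := form_zero_iff c e hroot (fun x hx => hR x hx) C (isRoot_rtA cs' h' hij) (isRoot_rtA cs' h' hkl)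
    rw [h1, CommA.cpr_rtA cs' h' i j hkl]
  obtain ⟨a, b, hab, rfl⟩ := lift r (c.cls.root r hr)
  obtain ⟨c0, d, hcd, rfl⟩ := lift s (c.cls.root s hs)
  intro y hy h1 h2 h3 h4
  obtain ⟨i, j, hij, rfl⟩ := lift y hy
  have h5 : form c.cs c.h (fun x => rtA c0 d (e x)) (fun x => rtA a b (e x)) = 0 := by rw [form_comm]; exact h0
  rw [F hab hcd] at h5
  rw [← neg] at h2 h4 hsr'
  have key := dec3 a b c0 d i j hab hcd hij h5 (by rintro ⟨rfl, rfl⟩; exact h1 rfl)
    (by rintro ⟨rfl, rfl⟩; exact h2 rfl) (by rintro ⟨rfl, rfl⟩; exact h3 rfl) (by rintro ⟨rfl, rfl⟩; exact h4 rfl)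
    (by rintro ⟨rfl, rfl⟩; exact hsr rfl) (by rintro ⟨rfl, rfl⟩; exact hsr' rfl)
  exact ⟨fun h6 => key.1 ((F hab hij).1 h6), fun h6 => key.2 ((F hcd hij).1 h6)⟩

/-! ### Type `C₂` -/

section typeC

open Cfsg.Agent.Nodes.TypeC Cfsg.Agent.Nodes.TypeCForm Cfsg.Agent.Nodes.KindBC Cfsg.Agent.Nodes.RKindsBC

/-- standard coordinates of a chart of type `C n` -/
theorem exists_stdC (c : Chart Om p D) {n : ℕ} (hτ : c.IsTy (.C n)) :
    ∃ (e : c.I ≃ Fin n) (W' : Type) (_ : Group W') (_ : Fintype W') (cs' : CoxeterSystem (CoxeterMatrix.B n) W'),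
      (∀ x, IsRoot c.cs c.h (fun i => x (e i)) ↔ IsRoot cs' (TypeC.isCartan n) x) ∧
      (∀ x, IsRoot cs' (TypeC.isCartan n) x → ((fun i => x (e i)) ∈ c.R ↔ x ∈ RC n)) ∧
      Cls cs' (TypeC.isCartan n) p c.T (fun j => c.n (e.symm j)) (fun x => c.X (fun i => x (e i)))
        (RC n) (fun x => c.Z (fun i => x (e i))) (fun x => c.z (fun i => x (e i))) := by
  let cs' : CoxeterSystem (CoxeterMatrix.B n) (CoxeterMatrix.B n).Group := (CoxeterMatrix.B n).toCoxeterSystem
  have hf : Finite (CoxeterMatrix.B n).Group := finite_of_isTy c hτ cs'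
  let _ : Fintype (CoxeterMatrix.B n).Group := Fintype.ofFinite _
  obtain ⟨e, hA, hl⟩ := hτ
  have hM : ∀ i j, c.M i j = (Ty.C n).M (e i) (e j) := fun i j => c.M_apply hA i j
  have hsr : ∀ i, sr i ∈ c.R ↔ (sr (e i) : Fin n → ℤ) ∈ RC n := fun i => (hl i).trans sr_mem_RC.symm
  refine ⟨e, (CoxeterMatrix.B n).Group, inferInstance, inferInstance, cs', fun x => isRoot_comp_iff e hM hA cs' _, ?_,
    cls_reindex c.cls e hM hA cs' _ (fun r hr => root_RC cs' hr) (fun r hr w => act_RC cs' hr w) hsr⟩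
  intro x hx
  exact mem_R_iff (cs := c.cs) (h := c.h) e hM hA cs' _ c.cls.act (fun r hr w => act_RC cs' hr w) hsr hx

/-- **`non` for the charts of type `C₂`.** -/
theorem non_C2 [Finite G] (c : Chart Om p D) (hτ : c.IsTy (.C 2)) {r s : c.I → ℤ} (hr : r ∈ c.R) (hs : s ∈ c.R)
    (h0 : form c.cs c.h r s = 0) : ∀ y, IsRoot c.cs c.h y → y ≠ r → y ≠ -r → y ≠ s → y ≠ -s →
    form c.cs c.h y r ≠ 0 ∧ form c.cs c.h y s ≠ 0 := by
  obtain ⟨e, W', _, _, cs', hroot, hR, C⟩ := exists_stdC c hτ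
  have hR' : ∀ x ∈ RC 2, (fun i => x (e i)) ∈ c.R := fun x hx => (hR x (root_RC cs' hx)).2 hx
  have inv : ∀ x : c.I → ℤ, (fun i => (fun j => x (e.symm j)) (e i)) = x := fun x => by funext i; simp
  have lift : ∀ x, IsRoot c.cs c.h x → ∃ a b : Fin 2 × Bool, Ok a b ∧ x = fun i => rt a b (e i) := by
    intro x hx
    have h1 : IsRoot cs' (TypeC.isCartan 2) (fun j => x (e.symm j)) := by
      rw [← hroot, inv]
      exact hx
    obtain ⟨a, b, hab, h2⟩ := exists_rt h1
    exact ⟨a, b, hab, by rw [← h2, inv]⟩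
  have liftR : ∀ x ∈ c.R, ∃ a : Fin 2 × Bool, x = fun i => rt a a (e i) := by
    intro x hx
    have h1 : IsRoot cs' (TypeC.isCartan 2) (fun j => x (e.symm j)) := by
      rw [← hroot, inv]
      exact c.cls.root x hx
    have h2 : (fun j => x (e.symm j)) ∈ RC 2 := by
      rw [← hR _ h1, inv]
      exact hx
    obtain ⟨a, h3⟩ := mem_RC.1 h2
    exact ⟨a, by rw [← h3, inv]⟩
  have F : ∀ (k : Fin 2 × Bool) {i j : Fin 2 × Bool}, Ok i j →
      (form c.cs c.h (fun x => rt i j (e x)) (fun x => rt k k (e x)) = 0 ↔ wt i k.1 + wt j k.1 = 0) := by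
    intro k i j hij
    have h1 := form_zero_iff c e hroot hR' C (isRoot_rt cs' hij) (rt_mem_RC k)
    rw [h1, cpr_rt_self cs', ee_rt]
    rcases sn_eq_one_or k with h2 | h2 <;> rw [h2, Pi.add_apply] <;> constructor <;> intro h3 <;> omega
  obtain ⟨a, rfl⟩ := liftR r hr
  obtain ⟨b, rfl⟩ := liftR s hs
  rw [F b (Or.inr rfl)] at h0
  have hab : b.1 ≠ a.1 := by
    intro h1
    rw [wt_apply, if_pos h1] at h0
    split_ifs at h0 <;> omega
  intro y hy h1 h2 h3 h4
  obtain ⟨i, j, hij, rfl⟩ := lift y hy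
  have neg : ∀ a : Fin 2 × Bool, (fun x => rt (ng a) (ng a) (e x)) = -(fun x => rt a a (e x) : c.I → ℤ) := by
    intro a
    funext x
    rw [rt_ng]
    rfl
  have hcov : ∀ k : Fin 2, k = a.1 ∨ k = b.1 := by
    intro k
    have h5 := a.1.2; have h6 := b.1.2; have h7 := k.2
    simp only [Fin.ext_iff, ne_eq] at hab ⊢
    omega
  have hsg : ∀ u v : Fin 2 × Bool, u.1 = v.1 → u = v ∨ u = ng v := by
    rintro ⟨u, u'⟩ ⟨v, v'⟩ (rfl : u = v)
    cases u' <;> cases v' <;> simp [ng]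
  have hne : i.1 ≠ j.1 := by
    rcases hij with h5 | rfl
    · exact h5
    exfalso
    rcases hcov i.1 with h5 | h5
    · rcases hsg _ _ h5 with rfl | rfl
      · exact h1 rfl
      · exact h2 (neg _)
    · rcases hsg _ _ h5 with rfl | rfl
      · exact h3 rfl
      · exact h4 (neg _)
  have key : ∀ k : Fin 2 × Bool, wt i k.1 + wt j k.1 ≠ 0 := by
    intro k
    rw [wt_apply, wt_apply]
    have h5 : k.1 = i.1 ∨ k.1 = j.1 := by
      have h5 := i.1.2; have h6 := j.1.2; have h7 := k.1.2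
      simp only [Fin.ext_iff, ne_eq] at hne ⊢
      omega
    rcases h5 with h5 | h5
    · rw [if_pos h5, if_neg (fun e => hne (h5.symm.trans e))]
      split_ifs <;> omega
    · rw [if_pos h5, if_neg (fun e => hne (e.symm.trans h5))]
      split_ifs <;> omega
  exact ⟨fun h5 => key a ((F a hij).1 h5), fun h5 => key b ((F b hij).1 h5)⟩

end typeC

/-! ### The structure `Fr` -/

section fr

variable {F : Type*} [Field F] {S1 S2 : SLSys F G} {z : G}

theorem fr_of [Finite G] (c : Chart Om p D) (hτ : c.IsTy (.A 3) ∨ c.IsTy (.C 2)) {r s : c.I → ℤ} (hr : r ∈ c.R)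
    (hs : s ∈ c.R) (h0 : form c.cs c.h r s = 0) (zx : ∀ y ∈ c.R, c.Z y = c.X y) (a1 : S1.A = c.X r)
    (a1' : S1.A' = c.X (-r)) (a2 : S2.A = c.X s) (a2' : S2.A' = c.X (-s)) (hz : z = c.z r) :
    ChartLe.Fr c S1 S2 z r s where
  hr := hr
  hs := hs
  zx := zx
  a1 := a1
  a1' := a1'
  a2 := a2
  a2' := a2'
  hz := hz
  non := hτ.elim (fun h => non_A3 c h hr hs h0) (fun h => non_C2 c h hr hs h0)

end fr

end Cfsg.Agent.Cit.OmB3.ChartNon
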