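import Cfsg.Agent.Cit.OmB3.Mu
import Cfsg.Agent.Cit.Defs

/-!
# The third factor in the case `m = 4`

`Lin4`: an involution `u` commuting with the two `SL₂`'s whose fixed space on `M(+,+)` is anisotropic of order `q²` and
whose `(-1)`-space is the product of two isotropic groups `P`, `P'` (root groups of a linear group `SL₄(q)`), and a Weyl
element `n` of this group.  Then `Y = n C_{M(+,+)}(u) n⁻¹`, `Y' = n C_{M(-,-)}(u) n⁻¹` give the structure `Big`.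
-/

set_option autoImplicit false
set_option linter.unusedSectionVars false
set_option linter.unusedVariables false
set_option linter.dupNamespace false

namespace Cfsg.Agent.Cit.OmB3.NeOf

open scoped commutatorElement
open Module
open Cfsg.Agent.RootAmalgam (Onto Maps)
open Cfsg.Agent.Cit.LemmaATwo Cfsg.Agent.Cit.OmB3.Side Cfsg.Agent.Cit.OmB3.Siegel
  Cfsg.Agent.Cit.OmB3.Form Cfsg.Agent.Cit.OmB3.Big
open Cfsg.Agent.Cit.OmB3.Form.Four (MG)

variable {G : Type*} [Group G] {F : Type*} [Field F]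

/-- The input for `m = 4`. -/
structure Lin4 (S1 S2 : SLSys F G) (z u n : G) (P P' : Subgroup G) : Prop where
  u_mem : u ∈ CC S1 S2
  u_sq : u * u = 1
  card : Nat.card (MG S1 S2 z) = Nat.card F ^ 4
  cardE : Nat.card (MG S1 S2 z ⊓ Subgroup.centralizer {u} : Subgroup G) = Nat.card F ^ 2
  aniso : ∀ x ∈ MG S1 S2 z, u * x = x * u → x * ac S2.w x = ac S2.w x * x → x = 1
  P_ne : ∃ x ∈ P, x ≠ 1
  P_le : P ≤ MG S1 S2 z
  P'_le : P' ≤ MG S1 S2 z
  P_inv : ∀ x ∈ P, ac u x = x⁻¹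
  P'_inv : ∀ x ∈ P', ac u x = x⁻¹
  P_iso : ∀ x ∈ P, ∀ y ∈ P, x * ac S2.w y = ac S2.w y * x
  P'_iso : ∀ x ∈ P', ∀ y ∈ P', x * ac S2.w y = ac S2.w y * x
  cov : ∀ x ∈ MG S1 S2 z, ac u x = x⁻¹ → ∃ a ∈ P, ∃ b ∈ P', x = a * b
  nP : ∀ x ∈ P, ac n⁻¹ x ∈ MG S1 S2 z
  nP' : ∀ x ∈ P', ac n⁻¹ x ∈ MG S1.opp S2.opp z
  n1 : ∀ x ∈ S1.A, ac n⁻¹ x ∈ MG S1 S2.opp z ∧ ac u (ac n⁻¹ x) = (ac n⁻¹ x)⁻¹
  n1' : ∀ x ∈ S1.A', ac n⁻¹ x ∈ MG S1.opp S2 z ∧ ac u (ac n⁻¹ x) = (ac n⁻¹ x)⁻¹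
  n2 : ∀ x ∈ S2.A, ac n⁻¹ x ∈ MG S1.opp S2 z ∧ ac u (ac n⁻¹ x) = (ac n⁻¹ x)⁻¹
  n2' : ∀ x ∈ S2.A', ac n⁻¹ x ∈ MG S1 S2.opp z ∧ ac u (ac n⁻¹ x) = (ac n⁻¹ x)⁻¹
  m1 : ∀ x ∈ S1.A, ac n x ∈ MG S1 S2.opp z
  m1' : ∀ x ∈ S1.A', ac n x ∈ MG S1.opp S2 z

section basic

variable {S1 S2 : SLSys F G} {z u n : G} (D : Four S1 S2 z)

include D

/-- elements of `M(+,+)` fixed by `u` commute with elements of `M(+,-)` inverted by `u` -/
theorem commE (hu : u ∈ CC S1 S2) {e x : G} (he : e ∈ MG S1 S2 z) (heu : u * e = e * u)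
    (hx : x ∈ MG S1 S2.opp z) (hxu : ac u x = x⁻¹) : e * x = x * e := by
  have hP := D.pairing
  have h1 : ⁅e, x⁆ ∈ S1.A := hP.pair e he x hx
  have h3 : ac u ⁅e, x⁆ = ⁅e, x⁆ := by
    obtain ⟨t, ht⟩ := S1.mem_A.1 h1
    rw [← ht]
    exact ac_of_comm (hu.1 t).symm
  rw [ac_comm, ac_of_comm heu, hxu] at h3
  have h4 : ⁅e, x⁻¹⁆ * ⁅e, x⁆ = 1 := by
    rw [← hP.mul_right he (inv_mem hx) hx, inv_mul_cancel, commutatorElement_one_right]
  rw [h3] at h4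
  have hodd : Odd (orderOf ⁅e, x⁆) := D.s2.oddZ _ h1
  rw [← commutatorElement_eq_one_iff_mul_comm]
  obtain ⟨k, hk⟩ := hodd
  have h5 : ⁅e, x⁆ ^ (2 * k + 1) = 1 := by rw [← hk]; exact pow_orderOf_eq_one _
  rw [pow_succ, pow_mul, pow_two, h4, one_pow, one_mul] at h5
  exact h5

theorem commE' (hu : u ∈ CC S1 S2) {e x : G} (he : e ∈ MG S1 S2 z) (heu : u * e = e * u)
    (hx : x ∈ MG S1.opp S2 z) (hxu : ac u x = x⁻¹) : e * x = x * e := by
  rw [← Big.MG_swap] at he hx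
  exact commE D.swap (by rw [CC_swap]; exact hu) he heu hx hxu

/-- The elements of `M` have order dividing `p`. -/
theorem pow_eq {p : ℕ} [CharP F p] {x : G} (hx : x ∈ MG S1 S2 z) : x ^ p = 1 := by
  obtain ⟨v, rfl⟩ := D.s1.dil.exists_el hx
  have h1 : ∀ k : ℕ, D.s1.dil.el v ^ k = D.s1.dil.el ((k : F) • v) := by
    intro k
    induction k with
    | zero => rw [pow_zero, Nat.cast_zero, zero_smul]; rfl
    | succ k ih =>
      rw [pow_succ, ih, ← Dil.el_add, Nat.cast_succ, add_smul, one_smul]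
  rw [h1, CharP.cast_eq_zero, zero_smul]
  rfl

end basic

/-- `Y = n C_M(u) n⁻¹` -/
def YY (S1 S2 : SLSys F G) (z u n : G) : Subgroup G :=
  Cit.cj n (MG S1 S2 z ⊓ Subgroup.centralizer {u})

theorem mem_YY {S1 S2 : SLSys F G} {z u n x : G} :
    x ∈ YY S1 S2 z u n ↔ ac n⁻¹ x ∈ MG S1 S2 z ∧ u * ac n⁻¹ x = ac n⁻¹ x * u := by
  unfold YY
  rw [Cit.mem_cj, Subgroup.mem_inf, Subgroup.mem_centralizer_singleton_iff]
  have e : n⁻¹ * x * n = ac n⁻¹ x := by unfold ac; rw [inv_inv]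
  rw [e]
  constructor
  · rintro ⟨h1, h2⟩; exact ⟨h1, h2.symm⟩
  · rintro ⟨h1, h2⟩; exact ⟨h1, h2.symm⟩

namespace Lin4

variable {S1 S2 : SLSys F G} {z u n : G} {P P' : Subgroup G} (L : Lin4 S1 S2 z u n P P')
  (D : Four S1 S2 z)

include L D

theorem YY_le : YY S1 S2 z u n ≤ CC S1 S2 := by
  intro y hy
  obtain ⟨h1, h3⟩ := mem_YY.1 hy
  have key : ∀ x, ac n⁻¹ y * ac n⁻¹ x = ac n⁻¹ x * ac n⁻¹ y → x * y = y * x := by
    intro x hx
    exact (ac_comm_iff n⁻¹ x y).1 hx.symm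
  refine ⟨fun t => key _ ?_, fun t => key _ ?_, fun t => key _ ?_, fun t => key _ ?_⟩
  · obtain ⟨k1, k3⟩ := L.n1 _ (S1.xp_mem t)
    exact commE D L.u_mem h1 h3 k1 k3
  · obtain ⟨k1, k3⟩ := L.n1' _ (S1.xm_mem t)
    exact commE' D L.u_mem h1 h3 k1 k3
  · obtain ⟨k1, k3⟩ := L.n2 _ (S2.xp_mem t)
    exact commE' D L.u_mem h1 h3 k1 k3
  · obtain ⟨k1, k3⟩ := L.n2' _ (S2.xm_mem t)
    exact commE D L.u_mem h1 h3 k1 k3

theorem u_mem' : u ∈ CC S1.opp S2.opp := by rw [CC_opp1, CC_opp2]; exact L.u_mem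

theorem YY'_le : YY S1.opp S2.opp z u n ≤ CC S1 S2 := by
  intro y hy
  obtain ⟨h1, h3⟩ := mem_YY.1 hy
  have key : ∀ x, ac n⁻¹ y * ac n⁻¹ x = ac n⁻¹ x * ac n⁻¹ y → x * y = y * x := by
    intro x hx
    exact (ac_comm_iff n⁻¹ x y).1 hx.symm
  have D' := D.opp1.opp2
  have hu := L.u_mem' D
  refine ⟨fun t => key _ ?_, fun t => key _ ?_, fun t => key _ ?_, fun t => key _ ?_⟩
  · obtain ⟨k1, k3⟩ := L.n1 _ (S1.xp_mem t)
    exact commE' D' hu h1 h3 k1 k3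
  · obtain ⟨k1, k3⟩ := L.n1' _ (S1.xm_mem t)
    exact commE D' hu h1 h3 k1 k3
  · obtain ⟨k1, k3⟩ := L.n2 _ (S2.xp_mem t)
    exact commE D' hu h1 h3 k1 k3
  · obtain ⟨k1, k3⟩ := L.n2' _ (S2.xm_mem t)
    exact commE' D' hu h1 h3 k1 k3

theorem u_z : u * z = z * u := (z_CC D L.u_mem).symm

/-- faithful -/
theorem faithful {y : G} (hy : y ∈ YY S1 S2 z u n) (h : ∀ x ∈ MG S1 S2 z, ac y x = x) : y = 1 := by
  obtain ⟨h1, h3⟩ := mem_YY.1 hy
  have hc := L.YY_le D hy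
  have hw : S1.w * y = y * S1.w := w1_CC hc
  have k1 : ∀ x ∈ MG S1.opp S2 z, y * x = x * y := by
    intro x hx
    have h4 : ac S1.w⁻¹ x ∈ MG S1 S2 z := by rw [← Big.w1_mem D, ac_ac_inv]; exact hx
    have h5 := comm_of_ac (h _ h4)
    have h6 : ac S1.w y = y := ac_of_comm hw
    have h7 := congrArg (ac S1.w) h5
    rw [ac_mul, ac_mul, ac_ac_inv, h6] at h7
    exact h7
  have k2 : ∀ x ∈ S1.A', ac n⁻¹ y * x = x * ac n⁻¹ y := by
    intro x hx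
    have h4 := k1 _ (L.m1' x hx)
    have h5 := congrArg (ac n⁻¹) h4
    rw [ac_mul, ac_mul, ac_inv_ac] at h5
    exact h5
  have hM := D.mem.1 h1
  have he : ac n⁻¹ y = 1 := by
    apply inv_of_comm_inv hM.1 hM.2.2.2
    rw [← D.s1.hz]
    exact comm_h S1 (fun t => hM.2.1 _ (S1.xp_mem t)) (fun t => (k2 _ (S1.xm_mem t)).symm)
      (neg_ne_zero.2 one_ne_zero)
  exact ac_inj (g := n⁻¹) (he.trans (ac_one _).symm)

theorem faithful' {y : G} (hy : y ∈ YY S1.opp S2.opp z u n) (h : ∀ x ∈ MG S1 S2 z, ac y x = x) : y = 1 := by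
  obtain ⟨h1, h3⟩ := mem_YY.1 hy
  have hc := L.YY'_le D hy
  have hw : S2.w * y = y * S2.w := w2_CC hc
  have k1 : ∀ x ∈ MG S1 S2.opp z, y * x = x * y := by
    intro x hx
    have h4 : ac S2.w⁻¹ x ∈ MG S1 S2 z := by rw [← D.w2_mem, ac_ac_inv]; exact hx
    have h5 := comm_of_ac (h _ h4)
    have h6 : ac S2.w y = y := ac_of_comm hw
    have h7 := congrArg (ac S2.w) h5
    rw [ac_mul, ac_mul, ac_ac_inv, h6] at h7
    exact h7
  have k2 : ∀ x ∈ S1.A, ac n⁻¹ y * x = x * ac n⁻¹ y := by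
    intro x hx
    have h4 := k1 _ (L.m1 x hx)
    have h5 := congrArg (ac n⁻¹) h4
    rw [ac_mul, ac_mul, ac_inv_ac] at h5
    exact h5
  have hM := D.opp1.opp2.mem.1 h1
  have he : ac n⁻¹ y = 1 := by
    apply inv_of_comm_inv hM.1 hM.2.2.2
    rw [← D.s1.hz]
    exact comm_h S1 (fun t => (k2 _ (S1.xp_mem t)).symm) (fun t => hM.2.1 _ (S1.xm_mem t))
      (neg_ne_zero.2 one_ne_zero)
  exact ac_inj (g := n⁻¹) (he.trans (ac_one _).symm)

theorem card_YY : Nat.card (YY S1 S2 z u n) = Nat.card F ^ 2 := by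
  rw [YY, Cit.card_cj]; exact L.cardE

theorem card_YY' : Nat.card (YY S1.opp S2.opp z u n) = Nat.card F ^ 2 := by
  rw [YY, Cit.card_cj, ← L.cardE]
  have key : ∀ x, ac (S1.w * S2.w) x ∈ (MG S1.opp S2.opp z ⊓ Subgroup.centralizer {u} : Subgroup G) ↔
      x ∈ (MG S1 S2 z ⊓ Subgroup.centralizer {u} : Subgroup G) := by
    intro x
    rw [Subgroup.mem_inf, Subgroup.mem_inf, Subgroup.mem_centralizer_singleton_iff,
      Subgroup.mem_centralizer_singleton_iff]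
    have e1 : ac (S1.w * S2.w) x ∈ MG S1.opp S2.opp z ↔ x ∈ MG S1 S2 z := by
      rw [← ac_ac, Big.w1_mem D.opp2, D.w2_mem]
    have e2 : ac (S1.w * S2.w) u = u := by
      rw [← ac_ac, ac_of_comm (w2_CC L.u_mem), ac_of_comm (w1_CC L.u_mem)]
    have e3 := ac_comm_iff (S1.w * S2.w) x u
    rw [e2] at e3
    rw [e1, e3]
  symm
  apply Nat.card_congr
  refine ⟨fun x => ⟨ac (S1.w * S2.w) x, (key _).2 x.2⟩, fun x => ⟨ac (S1.w * S2.w)⁻¹ x, ?_⟩, ?_, ?_⟩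
  · rw [← key, ac_ac_inv]; exact x.2
  · intro x; exact Subtype.ext (ac_inv_ac _ _)
  · intro x; exact Subtype.ext (ac_ac_inv _ _)

theorem pow_YY {p : ℕ} [CharP F p] {y : G} (hy : y ∈ YY S1 S2 z u n) : y ^ p = 1 := by
  obtain ⟨h1, h3⟩ := mem_YY.1 hy
  have h4 := pow_eq D (p := p) h1
  have h5 : ac n⁻¹ (y ^ p) = (ac n⁻¹ y) ^ p := by
    unfold ac
    rw [conj_pow]
  apply ac_inj (g := n⁻¹)
  rw [h5, h4, ac_one]

theorem pow_YY' {p : ℕ} [CharP F p] {y : G} (hy : y ∈ YY S1.opp S2.opp z u n) : y ^ p = 1 := by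
  obtain ⟨h1, h3⟩ := mem_YY.1 hy
  have h4 := pow_eq D.opp1.opp2 (p := p) h1
  have h5 : ac n⁻¹ (y ^ p) = (ac n⁻¹ y) ^ p := by
    unfold ac
    rw [conj_pow]
  apply ac_inj (g := n⁻¹)
  rw [h5, h4, ac_one]

theorem fixP {y : G} (hy : y ∈ YY S1 S2 z u n) {x : G} (hx : x ∈ P) : ac y x = x := by
  apply ac_of_comm
  rw [← ac_comm_iff n⁻¹]
  exact D.two.comm (D.mem.1 (mem_YY.1 hy).1) (D.mem.1 (L.nP x hx))

theorem fixP' {y : G} (hy : y ∈ YY S1.opp S2.opp z u n) {x : G} (hx : x ∈ P') : ac y x = x := by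
  apply ac_of_comm
  rw [← ac_comm_iff n⁻¹]
  exact D.opp1.opp2.two.comm (D.opp1.opp2.mem.1 (mem_YY.1 hy).1) (D.opp1.opp2.mem.1 (L.nP' x hx))

section pair

variable [Finite G] [Finite F] (h2 : (2 : F) ≠ 0)

theorem exists_pair : ∃ f f' : D.V, Siegel.Hyp (D.beta h2) f f' ∧
    (∀ w ∈ V0 (D.beta h2) f f', D.beta h2 w w = 0 → w = 0) ∧
    (∀ y : CC S1 S2, (y : G) ∈ YY S1 S2 z u n → rho D y f = f) ∧
    (∀ y : CC S1 S2, (y : G) ∈ YY S1.opp S2.opp z u n → rho D y f' = f') := by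
  have hB := D.frm h2
  let U : Module.End F D.V := rho D ⟨u, L.u_mem⟩
  have hU : ∀ v, D.s1.dil.el (U v) = ac u (D.s1.dil.el v) := fun v => rfl
  have hUi : Isom (D.beta h2) U := rho_isom D h2 _
  have hUU : ∀ v, U (U v) = v := by
    intro v
    apply D.s1.dil.el_inj
    rw [hU, hU, ac_ac, L.u_sq]
    unfold ac; group
  have orth : ∀ v w, U v = v → U w = -w → D.beta h2 v w = 0 := by
    intro v w hv hw
    have h1 := hUi v w
    rw [hv, hw, map_neg] at h1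
    have h3 : 2 * D.beta h2 v w = 0 := by linear_combination -h1
    exact (mul_eq_zero.1 h3).resolve_left h2
  have neg_iff : ∀ v, ac u (D.s1.dil.el v) = (D.s1.dil.el v)⁻¹ → U v = -v := by
    intro v hv
    apply D.s1.dil.el_inj
    rw [hU, hv, Dil.el_neg]
  have iso : ∀ v w, D.s1.dil.el v ∈ P → D.s1.dil.el w ∈ P → D.beta h2 v w = 0 :=
    fun v w hv hw => (D.beta_eq_zero h2 v w).2 (L.P_iso _ hv _ hw)
  have iso' : ∀ v w, D.s1.dil.el v ∈ P' → D.s1.dil.el w ∈ P' → D.beta h2 v w = 0 :=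
    fun v w hv hw => (D.beta_eq_zero h2 v w).2 (L.P'_iso _ hv _ hw)
  obtain ⟨x, hxP, hx1⟩ := L.P_ne
  obtain ⟨f, hf⟩ := D.s1.dil.exists_el (L.P_le hxP)
  have hfP : D.s1.dil.el f ∈ P := by rw [hf]; exact hxP
  have hUf : U f = -f := neg_iff f (L.P_inv _ hfP)
  obtain ⟨y, hyP, hfy⟩ : ∃ y : D.V, D.s1.dil.el y ∈ P' ∧ D.beta h2 f y ≠ 0 := by
    by_contra hcon
    push Not at hcon
    apply hx1
    have hf0 : f = 0 := by
      apply hB.nd
      intro v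
      have e1 : D.beta h2 f (v + U v) = 0 := by
        rw [hB.symm]
        exact orth _ _ (by rw [map_add, hUU, add_comm]) hUf
      have e2 : D.beta h2 f (v - U v) = 0 := by
        have h3 : U (v - U v) = -(v - U v) := by rw [map_sub, hUU, neg_sub]
        have h4 : ac u (D.s1.dil.el (v - U v)) = (D.s1.dil.el (v - U v))⁻¹ := by
          rw [← hU, h3, Dil.el_neg]
        obtain ⟨a, ha, b, hb, hab⟩ := L.cov _ (Dil.el_mem _ _) h4
        obtain ⟨va, hva⟩ := D.s1.dil.exists_el (L.P_le ha)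
        obtain ⟨vb, hvb⟩ := D.s1.dil.exists_el (L.P'_le hb)
        have h5 : v - U v = va + vb := by
          apply D.s1.dil.el_inj
          rw [hab, Dil.el_add, hva, hvb]
        rw [h5, map_add, iso f va hfP (by rw [hva]; exact ha), hcon vb (by rw [hvb]; exact hb), add_zero]
      rw [map_add] at e1
      rw [map_sub] at e2
      have h6 : 2 * D.beta h2 f v = 0 := by linear_combination e1 + e2
      exact (mul_eq_zero.1 h6).resolve_left h2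
    rw [← hf, hf0, Dil.el_zero]
  have hUy : U y = -y := neg_iff y (L.P'_inv _ hyP)
  set c : F := (D.beta h2 f y)⁻¹ with hc
  have hH : Siegel.Hyp (D.beta h2) f (c • y) := by
    refine ⟨iso f f hfP hfP, ?_, ?_⟩
    · rw [map_smul, smul_eq_mul, hc, inv_mul_cancel₀ hfy]
    · rw [map_smul, map_smul, LinearMap.smul_apply, iso' y y hyP hyP, smul_zero, smul_zero]
  have hUy' : U (c • y) = -(c • y) := by rw [map_smul, hUy, smul_neg]
  have hfin : Finite D.V := inferInstance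
  -- the orthogonal space
  have hcardV : Nat.card D.V = Nat.card F ^ 4 := L.card
  have hcV0 : Nat.card (V0 (D.beta h2) f (c • y)) = Nat.card F ^ 2 := by
    have h1 := card_V0 hB hH
    rw [hcardV] at h1
    have hq : 0 < Nat.card F := Nat.card_pos
    have h3 : Nat.card F * (Nat.card F * Nat.card (V0 (D.beta h2) f (c • y))) =
        Nat.card F * (Nat.card F * Nat.card F ^ 2) := by rw [h1]; ring
    exact Nat.eq_of_mul_eq_mul_left hq (Nat.eq_of_mul_eq_mul_left hq h3)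
  have hcE : Nat.card {v : D.V | U v = v} = Nat.card F ^ 2 := by
    rw [← L.cardE]
    apply Nat.card_congr
    refine ⟨fun v => ⟨D.s1.dil.el v.1, Subgroup.mem_inf.2 ⟨Dil.el_mem _ _,
      Subgroup.mem_centralizer_singleton_iff.2 ?_⟩⟩, fun x => ⟨D.s1.dil.vec ⟨x.1, (Subgroup.mem_inf.1 x.2).1⟩, ?_⟩,
      fun v => ?_, fun x => ?_⟩
    · have h1 : U v.1 = v.1 := v.2
      have h3 := congrArg D.s1.dil.el h1
      rw [hU] at h3
      exact (comm_of_ac h3).symm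
    · apply D.s1.dil.el_inj
      rw [hU]
      exact ac_of_comm (Subgroup.mem_centralizer_singleton_iff.1 (Subgroup.mem_inf.1 x.2).2).symm
    · rfl
    · rfl
  have hsub : {v : D.V | U v = v} ⊆ (V0 (D.beta h2) f (c • y) : Set D.V) := by
    intro v hv
    exact ⟨orth _ _ hv hUf, orth _ _ hv hUy'⟩
  have heq : {v : D.V | U v = v} = (V0 (D.beta h2) f (c • y) : Set D.V) := by
    apply Set.eq_of_subset_of_ncard_le hsub
    rw [← Nat.card_coe_set_eq, ← Nat.card_coe_set_eq]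
    exact (hcV0.trans hcE.symm).le
  refine ⟨f, c • y, hH, ?_, ?_, ?_⟩
  · intro w hw hww
    have h1 : U w = w := by
      have h3 : w ∈ {v : D.V | U v = v} := by rw [heq]; exact hw
      exact h3
    have h3 := congrArg D.s1.dil.el h1
    rw [hU] at h3
    apply D.s1.dil.el_inj
    rw [Dil.el_zero]
    exact L.aniso _ (Dil.el_mem _ _) (comm_of_ac h3) ((D.beta_eq_zero h2 w w).1 hww)
  · intro y hy
    apply D.s1.dil.el_inj
    rw [el_rho]
    exact L.fixP D hy hfP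
  · intro g hg
    rw [map_smul]
    congr 1
    apply D.s1.dil.el_inj
    rw [el_rho]
    exact L.fixP' D hg hyP

end pair

section ne

variable [Finite G] [Finite F] {p : ℕ} [Fact p.Prime] [CharP F p] (h2 : (2 : F) ≠ 0)

include h2

theorem ne (p : ℕ) [Fact p.Prime] [CharP F p] {y y' : G} (hy : y ∈ YY S1 S2 z u n) (hy1 : y ≠ 1)
    (hy' : y' ∈ YY S1.opp S2.opp z u n)
    (hy1' : y' ≠ 1) : ∃ x ∈ MG S1 S2 z, ac (y * y') x ≠ ac (y' * y) x := by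
  by_contra hcon
  push Not at hcon
  obtain ⟨f, f', hH, han, h3, h4⟩ := L.exists_pair D h2
  have hB := D.frm h2
  have hH' := hH.symm hB
  have hfin : Finite D.V := inferInstance
  have hd : finrank F D.V ≤ 4 := by
    have h1 : Nat.card D.V = Nat.card F ^ finrank F D.V := Module.natCard_eq_pow_finrank
    have h5 : Nat.card D.V = Nat.card F ^ 4 := L.card
    rw [h1] at h5
    exact (Nat.pow_right_injective one_lt_card_F h5).le
  have pw : ∀ (g : CC S1 S2), (g : G) ^ p = 1 → (rho D g) ^ p ^ 1 = 1 := by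
    intro g hg
    have h5 : g ^ p = 1 := Subtype.ext hg
    rw [pow_one, ← map_pow, h5, map_one]
  set g : Module.End F D.V := rho D ⟨y, L.YY_le D hy⟩ with hg
  set g' : Module.End F D.V := rho D ⟨y', L.YY'_le D hy'⟩ with hg'
  have hS : IsSiegel (D.beta h2) f f' g := isSiegel (p := p) (k := 1) hB hH h2 hd (rho_isom D h2 _)
    (h3 _ hy) (pw _ (L.pow_YY D hy))
  have hS' : IsSiegel (D.beta h2) f' f g' := isSiegel (p := p) (k := 1) hB hH' h2 hd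
    (rho_isom D h2 _) (h4 _ hy') (pw _ (L.pow_YY' D hy'))
  have el_g : ∀ v, D.s1.dil.el (g v) = ac y (D.s1.dil.el v) := fun v => rfl
  have el_g' : ∀ v, D.s1.dil.el (g' v) = ac y' (D.s1.dil.el v) := fun v => rfl
  have hw0 : wv (D.beta h2) f f' g ≠ 0 := by
    intro h0
    apply hy1
    apply L.faithful D hy
    intro x hx
    obtain ⟨v, rfl⟩ := D.s1.dil.exists_el hx
    have h5 := hS.sub_apply hB hH h2 v
    rw [h0, smul_zero, map_zero, map_zero, mul_zero, mul_zero, add_zero, zero_smul,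
      sub_zero, sub_eq_zero] at h5
    rw [← el_g, h5]
  have hw0' : wv (D.beta h2) f' f g' ≠ 0 := by
    intro h0
    apply hy1'
    apply L.faithful' D hy'
    intro x hx
    obtain ⟨v, rfl⟩ := D.s1.dil.exists_el hx
    have h5 := hS'.sub_apply hB hH' h2 v
    rw [h0, smul_zero, map_zero, map_zero, mul_zero, mul_zero, add_zero, zero_smul,
      sub_zero, sub_eq_zero] at h5
    rw [← el_g', h5]
  have hwm := hS.wv_mem hB hH
  have hwm' : wv (D.beta h2) f' f g' ∈ V0 (D.beta h2) f f' := by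
    rw [← V0_swap hB hH]; exact hS'.wv_mem hB hH'
  have hq : D.beta h2 (wv (D.beta h2) f' f g') (wv (D.beta h2) f' f g') ≠ 0 := fun h =>
    hw0' (han _ hwm' h)
  have hcomm : ∀ v, g (g' v) = g' (g v) := by
    intro v
    apply D.s1.dil.el_inj
    rw [el_g, el_g', el_g', el_g, ac_ac, ac_ac]
    exact hcon _ (Dil.el_mem _ _)
  have e1 := hcomm f
  rw [hS.fix, hS'.apply_f' hB hH' h2] at e1
  rw [map_sub, map_add, map_smul, hS.fix, hS.apply_V0 hB hH hwm', hS.apply_f' hB hH h2] at e1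
  set w := wv (D.beta h2) f f' g with hw
  set w' := wv (D.beta h2) f' f g' with hw'
  set c := (2 : F)⁻¹ * D.beta h2 w' w' with hc
  have hc0 : c ≠ 0 := mul_ne_zero (inv_ne_zero h2) hq
  -- the `V0`-component
  apply hw0
  have e2 : c • w = (c * ((2 : F)⁻¹ * D.beta h2 w w) - D.beta h2 w' w) • f := by
    have e3 := sub_eq_zero.2 e1
    rw [← sub_eq_zero]
    rw [← neg_eq_zero]
    rw [← e3]
    module
  have hcw : c • w ∈ V0 (D.beta h2) f f' := Submodule.smul_mem _ c hwm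
  have e4 : (c * ((2 : F)⁻¹ * D.beta h2 w w) - D.beta h2 w' w) = 0 := by
    have h5 := hcw.2
    rw [e2, map_smul, LinearMap.smul_apply, hH.ff', smul_eq_mul, mul_one] at h5
    exact h5
  rw [e4, zero_smul] at e2
  exact (smul_eq_zero.1 e2).resolve_left hc0

/-- **The structure `Big` for `m = 4`.** -/
theorem big (p : ℕ) [Fact p.Prime] [CharP F p] :
    Big.Big p 4 S1 S2 z (YY S1 S2 z u n) (YY S1.opp S2.opp z u n) where
  four := D
  hm := Or.inr rfl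
  card := L.card
  Yc := L.YY_le D
  Yc' := L.YY'_le D
  Yp y := ⟨1, Subtype.ext (by rw [pow_one]; exact L.pow_YY D y.2)⟩
  Yp' y := ⟨1, Subtype.ext (by rw [pow_one]; exact L.pow_YY' D y.2)⟩
  Ycard := (L.card_YY D).ge
  Ycard' := (L.card_YY' D).ge
  ne _ hy hy1 _ hy' hy1' := L.ne D h2 p hy hy1 hy' hy1'

end ne

end Lin4

/-! ### The part of the data which comes from the chart of type `A₃` -/

/-- What has to be supplied by the chart of type `A₃` of the linear group `D` (`K₁ = ⟨X₁₂, X₂₁⟩`, `K₂ = ⟨X₃₄, X₄₃⟩`,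
`P = X₁₄`, `P' = X₃₂`, `n` the Weyl element which exchanges `2` and `3`). -/
structure LinA (S1 S2 : SLSys F G) (z n : G) (D P P' : Subgroup G) : Prop where
  P_ne : ∃ x ∈ P, x ≠ 1
  P_D : P ≤ D
  P'_D : P' ≤ D
  P_M : ∀ x ∈ P, x ∈ MM S1.A S2.A z
  P'_M : ∀ x ∈ P', x ∈ MM S1.A S2.A z
  P_iso : ∀ x ∈ P, ∀ y ∈ P, x * ac S2.w y = ac S2.w y * x
  P'_iso : ∀ x ∈ P', ∀ y ∈ P', x * ac S2.w y = ac S2.w y * x
  nP : ∀ x ∈ P, ac n⁻¹ x ∈ MM S1.A S2.A z
  nP' : ∀ x ∈ P', ac n⁻¹ x ∈ MM S1.A' S2.A' z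
  n1 : ∀ x ∈ S1.A, ac n⁻¹ x ∈ MM S1.A S2.A' z ∧ ac n⁻¹ x ∈ D
  n1' : ∀ x ∈ S1.A', ac n⁻¹ x ∈ MM S1.A' S2.A z ∧ ac n⁻¹ x ∈ D
  n2 : ∀ x ∈ S2.A, ac n⁻¹ x ∈ MM S1.A' S2.A z ∧ ac n⁻¹ x ∈ D
  n2' : ∀ x ∈ S2.A', ac n⁻¹ x ∈ MM S1.A S2.A' z ∧ ac n⁻¹ x ∈ D
  m1 : ∀ x ∈ S1.A, ac n x ∈ MM S1.A S2.A' z
  m1' : ∀ x ∈ S1.A', ac n x ∈ MM S1.A' S2.A z

/-- `v` centralises `D`, `u = z v`; then `u` acts on `D` as `z`. -/
theorem LinA.lin4 {S1 S2 : SLSys F G} {z n v : G} {E P P' : Subgroup G} (L : LinA S1 S2 z n E P P')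
    (D : Four S1 S2 z) (hv : ∀ x ∈ E, v * x = x * v) (u_mem : z * v ∈ CC S1 S2) (u_sq : z * v * (z * v) = 1)
    (card : Nat.card (MG S1 S2 z) = Nat.card F ^ 4)
    (cardE : Nat.card (MG S1 S2 z ⊓ Subgroup.centralizer {z * v} : Subgroup G) = Nat.card F ^ 2)
    (aniso : ∀ x ∈ MG S1 S2 z, z * v * x = x * (z * v) → x * ac S2.w x = ac S2.w x * x → x = 1)
    (cov : ∀ x ∈ MG S1 S2 z, v * x = x * v → ∃ a ∈ P, ∃ b ∈ P', x = a * b) :
    Lin4 S1 S2 z (z * v) n P P' := by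
  have act : ∀ x ∈ E, ac z x = x⁻¹ → ac (z * v) x = x⁻¹ := by
    intro x hx h
    rw [← ac_ac, ac_of_comm (hv x hx), h]
  have act' : ∀ x, ac z x = x⁻¹ → ac (z * v) x = x⁻¹ → v * x = x * v := by
    intro x h1 h3
    apply comm_of_ac
    apply ac_inj (g := z)
    rw [ac_ac, h3, h1]
  exact
  { u_mem := u_mem
    u_sq := u_sq
    card := card
    cardE := cardE
    aniso := aniso
    P_ne := L.P_ne
    P_le := fun x hx => D.mem.2 (L.P_M x hx)
    P'_le := fun x hx => D.mem.2 (L.P'_M x hx)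
    P_inv := fun x hx => act x (L.P_D hx) (L.P_M x hx).2.2.2
    P'_inv := fun x hx => act x (L.P'_D hx) (L.P'_M x hx).2.2.2
    P_iso := L.P_iso
    P'_iso := L.P'_iso
    cov := fun x hx h => cov x hx (act' x (D.mem.1 hx).2.2.2 h)
    nP := fun x hx => D.mem.2 (L.nP x hx)
    nP' := fun x hx => D.opp1.opp2.mem.2 (L.nP' x hx)
    n1 := fun x hx => ⟨D.opp2.mem.2 (L.n1 x hx).1, act _ (L.n1 x hx).2 (L.n1 x hx).1.2.2.2⟩
    n1' := fun x hx => ⟨D.opp1.mem.2 (L.n1' x hx).1, act _ (L.n1' x hx).2 (L.n1' x hx).1.2.2.2⟩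
    n2 := fun x hx => ⟨D.opp1.mem.2 (L.n2 x hx).1, act _ (L.n2 x hx).2 (L.n2 x hx).1.2.2.2⟩
    n2' := fun x hx => ⟨D.opp2.mem.2 (L.n2' x hx).1, act _ (L.n2' x hx).2 (L.n2' x hx).1.2.2.2⟩
    m1 := fun x hx => D.opp2.mem.2 (L.m1 x hx)
    m1' := fun x hx => D.opp1.mem.2 (L.m1' x hx) }

end Cfsg.Agent.Cit.OmB3.NeOf
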