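import Cfsg.Agent.Cit.OmB3.SupFour
import Cfsg.Agent.Cit.OmB3.ChartNon
import Cfsg.Agent.Cit.OmB3.NeOf
import Cfsg.Agent.Cit.BDChart
import Cfsg.Agent.Cit.TwoW

/-!
# Two commuting members over one involution: both pieces of type `A₃` are impossible

`not_three` : no three pairwise commuting members if `|Om(S)| = 2`;
`exists_pp` : in a chart of type `A 3` a root `x` which makes acute angles with the two orthogonal roots `r`, `s`;
`false_of_AA` : `La ≤ C(a)`, `Lv ≤ C(z a)` of type `A 3`: the Weyl element of `La` moves the member `⟨X_x, X_{-x}⟩` of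
`Lv` to a third member which commutes with `K 0` and `K 1`.
-/

set_option autoImplicit false
set_option linter.unusedSectionVars false
set_option linter.unusedVariables false

namespace Cfsg.Agent.Cit.OmB3.NoAA

open Subgroup Cfsg
open Cfsg.Agent.Cit.Parab Cfsg.Agent.Cit.ParabSL2 Cfsg.Agent.Cit.FrameOf Cfsg.Agent.Cit.CoreFrame
  Cfsg.Agent.Cit.LemmaATwo Cfsg.Agent.Cit.SLSysOf Cfsg.Agent.Cit.OmB3.Side Cfsg.Agent.Cit.OmB3.Form
  Cfsg.Agent.Cit.OmB3.Big Cfsg.Agent.Cit.OmB3.Sup Cfsg.Agent.Cit.OmB3.LinChart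
open Cfsg.Agent.Cit.OmB3.Form.Four (MG)
open CoxeterSystem Cfsg.Agent.ChevalleyStructure.CoxeterGeom Cfsg.Agent.Nodes.Chart Cfsg.Agent.Nodes.ChartLoc
  Cfsg.Agent.Tits.Roots Cfsg.Agent.Nodes.Coroot Cfsg.Agent.Nodes.BNOf Cfsg.Agent.Nodes.RGDLib
open scoped commutatorElement

/-! ### Three commuting members -/

section three

variable {G : Type*} [Group G] [Finite G] {Om : Set (Subgroup G)}

/-- No three pairwise commuting members. -/
theorem not_three (h : TwoE Om) {A B C : Subgroup G} (mA : A ∈ Om) (mB : B ∈ Om) (mC : C ∈ Om)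
    (hAB : ∀ a ∈ A, ∀ b ∈ B, a * b = b * a) (hAC : ∀ a ∈ A, ∀ b ∈ C, a * b = b * a)
    (hBC : ∀ a ∈ B, ∀ b ∈ C, a * b = b * a) : False := by
  have ne : ∀ {K L : Subgroup G}, K ∈ Om → (∀ a ∈ K, ∀ b ∈ L, a * b = b * a) → K ≠ L := by
    rintro K L hK hc rfl
    obtain ⟨Q, hQ⟩ := Hyp.exists_syl K
    obtain ⟨c, v, n, hq⟩ := h.hyp.exists_gq hK hQ
    exact hq.not_comm (hc v (hQ.1 hq.v_mem) c (hQ.1 hq.c_mem))
  obtain ⟨Q, hQ⟩ := Hyp.exists_syl A
  obtain ⟨R, hR⟩ := Hyp.exists_syl B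
  obtain ⟨T, hT⟩ := Hyp.exists_syl C
  have h1 : IsPGroup 2 (Q ⊔ R : Subgroup G) := FrameClose.isPGroup_sup hQ.2.1 hR.2.1 fun a ha b hb =>
    hAB a (hQ.1 ha) b (hR.1 hb)
  have h2 : Q ⊔ R ≤ centralizer (C : Set G) := by
    refine sup_le ?_ ?_
    · intro a ha
      exact mem_centralizer_iff.2 fun b hb => (hAC a (hQ.1 ha) b hb).symm
    · intro a ha
      exact mem_centralizer_iff.2 fun b hb => (hBC a (hR.1 ha) b hb).symm
  have h3 : IsPGroup 2 (Q ⊔ R ⊔ T : Subgroup G) := FrameClose.isPGroup_sup h1 hT.2.1 fun a ha b hb =>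
    (mem_centralizer_iff.1 (h2 ha) b (hT.1 hb)).symm
  rcases h.pair h3 (mem_OmS_of_le mA hQ (le_sup_left.trans le_sup_left))
    (mem_OmS_of_le mB hR (le_sup_right.trans le_sup_left)) (mem_OmS_of_le mC hT le_sup_right) (ne mA hAB) with h4 | h4
  · exact ne mA hAC h4.symm
  · exact ne mB hBC h4.symm

end three

/-! ### The root -/

section chart

variable {G : Type*} [Group G] [Finite G] {Om : Set (Subgroup G)} {p : ℕ} {D : Subgroup G}

theorem mem_R (c : Chart Om p D) {n : ℕ} (hτ : c.IsTy (.A n)) {x : c.I → ℤ} (hx : IsRoot c.cs c.h x) : x ∈ c.R := by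
  obtain ⟨e, W', _, _, cs', A', h', hroot, hR, C⟩ := exists_std c hτ
  have inv : (fun i => (fun j => x (e.symm j)) (e i)) = x := by funext i; simp
  rw [← inv]
  refine hR (fun j => x (e.symm j)) ?_
  rw [← hroot, inv]
  exact hx

theorem nontrivial_I (c : Chart Om p D) {n : ℕ} (hn : 2 ≤ n) (hτ : c.IsTy (.A n)) : Nontrivial c.I := by
  obtain ⟨e, -⟩ := hτ
  have h1 : Nontrivial (Fin (Ty.A n).rk) := by
    have : (Ty.A n).rk = n := rfl
    rw [this]
    exact Fin.nontrivial_iff_two_le.2 hn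
  exact e.nontrivial

/-- a root acute to `r` and `s` -/
theorem exists_pp (c : Chart Om p D) (hτ : c.IsTy (.A 3)) {F : Type*} [Field F] {S1 S2 : SLSys F G} {z : G}
    {r s : c.I → ℤ} (H : ChartLe.Fr c S1 S2 z r s) (h0 : form c.cs c.h r s = 0) :
    ∃ x ∈ c.R, (∀ g ∈ c.X x, g ∈ MM S1.A S2.A z) ∧ (∀ g ∈ c.X (-x), g ∈ MM S1.A' S2.A' z) := by
  have hr := c.cls.root r H.hr
  have hs := c.cls.root s H.hs
  obtain ⟨y, hy, h1, h2, h3⟩ := FrameOfFr.exists_not_orth c (nontrivial_I c (by norm_num) hτ) hr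
  have h4 : form c.cs c.h y s ≠ 0 := by
    refine (H.non y hy h1 h2 ?_ ?_).2
    · rintro rfl
      exact h3 (by rw [form_comm]; exact h0)
    · rintro rfl
      exact h3 (by rw [form_neg_left, form_comm, h0, neg_zero])
  have key : ∀ {r s : c.I → ℤ}, IsRoot c.cs c.h r → IsRoot c.cs c.h s → form c.cs c.h r s = 0 →
      ∀ {y : c.I → ℤ}, IsRoot c.cs c.h y → form c.cs c.h y r ≠ 0 →
      ∃ x, IsRoot c.cs c.h x ∧ 0 < form c.cs c.h x r ∧ form c.cs c.h x s = form c.cs c.h y s := by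
    intro r s hr hs h0 y hy h3
    rcases lt_or_gt_of_ne h3 with h5 | h5
    · refine ⟨y - cpr c.cs c.h y r • r, isRoot_refl c.cs c.h hy hr, ?_, ?_⟩
      · have h6 := two_form_cpr c.cs c.h y hr
        rw [sub_eq_add_neg, ← neg_smul, form_add_left, form_smul_left]
        linarith
      · rw [sub_eq_add_neg, ← neg_smul, form_add_left, form_smul_left, h0]
        ring
    · exact ⟨y, hy, h5, rfl⟩
  obtain ⟨y1, k1, k2, k3⟩ := key hr hs h0 hy h3
  obtain ⟨y2, k4, k5, k6⟩ := key hs hr (by rw [form_comm]; exact h0) k1 (by rw [k3]; exact h4)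
  rw [← k6] at k2
  refine ⟨y2, mem_R c hτ k4, fun g hg => ?_, fun g hg => ?_⟩
  · refine H.mem_pp k4 k2 k5 ?_ hg
    rintro rfl
    rw [h0] at k5
    exact lt_irrefl _ k5
  · refine H.opp1.opp2.mem_pp k4.neg ?_ ?_ ?_ hg
    · rw [form_neg_left, form_neg_right, neg_neg]; exact k2
    · rw [form_neg_left, form_neg_right, neg_neg]; exact k5
    · intro e
      rw [neg_inj] at e
      subst e
      rw [h0] at k5
      exact lt_irrefl _ k5

end chart

/-! ### The charts -/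

section main

variable {G : Type*} [Group G] [Finite G] {Om : Set (Subgroup G)} {F : Type*} [Field F] [Fintype F]
  {p na nv : ℕ} {K : Fin 2 → Subgroup G} {X : Fin 2 → SignType → Subgroup G} {a : G} {La Lv : Subgroup G} [CharP F p]

/-- the frame in a chart of type `A 3` -/
theorem exists_frA (P : Prov Om F p na nv K X a La Lv) {m : ℕ}
    {e : ∀ i, Matrix.SpecialLinearGroup (Fin 2) F ≃* K i} (E : InB e (fun i => zz (K i)) X (QF K X) m)
    {L : Subgroup G} (hL : ∀ i, K i ≤ L) (c0 : Chart Om p L) (hτ : c0.IsTy (.A 3)) :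
    ∃ (c : Chart Om p L) (r s : c.I → ℤ), c.IsTy (.A 3) ∧ form c.cs c.h r s = 0 ∧
      ChartLe.Fr c (ofEquiv (e 0)) (ofEquiv (e 1)) (zz (K 0)) r s := by
  have hp := Fact.mk c0.prime
  have hnt := nontrivial_I c0 (by norm_num) hτ
  obtain ⟨y, hy, gr, hA⟩ := exists_adapted c0 (fun r hr => BDChart.z_ne_one c0 hnt hr) P.dat
  set c := conjChart c0 hy P.dat.hyp.conj with hc
  have hτ' : c.IsTy (.A 3) := hτ
  have h01 : (0 : Fin 2) ≠ 1 := by decide
  have h0 : form c.cs c.h (gr 0) (gr 1) = 0 := hA.orth 0 (hL 0) 1 (hL 1) h01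
  have hr := hA.mem 0 (hL 0)
  have hs := hA.mem 1 (hL 1)
  have hz : c.z (gr 0) = c.z (gr 1) := by
    rw [hA.zz 0 (hL 0), hA.zz 1 (hL 1)]; exact P.zeq
  have zx := BDChart.X_eq_Z c hr hs h0 hz
  refine ⟨c, gr 0, gr 1, hτ', h0, ChartNon.fr_of c (Or.inl hτ') hr hs h0 zx ?_ ?_ ?_ ?_ (hA.zz 0 (hL 0)).symm⟩
  · rw [E.S_A, ← zx _ hr]; exact (hA.pos 0 (hL 0)).symm
  · rw [E.S_A', ← zx _ (Nodes.ClsNorm.neg_mem c.cls hr)]; exact (hA.neg 0 (hL 0)).symm
  · rw [E.S_A, ← zx _ hs]; exact (hA.pos 1 (hL 1)).symm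
  · rw [E.S_A', ← zx _ (Nodes.ClsNorm.neg_mem c.cls hs)]; exact (hA.neg 1 (hL 1)).symm

/-- **Both pieces of type `A₃` are impossible.** -/
theorem false_of_AA (P : Prov Om F p na nv K X a La Lv) {m : ℕ} (hm : na + nv = 2 * m + 2) (h : TwoE Om)
    (ca : Chart Om p La) (hca : ca.IsTy (.A 3)) (cv : Chart Om p Lv) (hcv : cv.IsTy (.A 3)) : False := by
  obtain ⟨e, E⟩ := P.inb hm
  have D4 : Four (ofEquiv (e 0)) (ofEquiv (e 1)) (zz (K 0)) := E.four
  obtain ⟨c, r, s, hτ, h0, Hf⟩ := exists_frA P E P.la.le ca hca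
  obtain ⟨c', r', s', hτ', h0', Hf'⟩ := exists_frA P E P.lv.le cv hcv
  obtain ⟨x0, y0, n, hn, -, -, -, -, -, -, -, -, L⟩ := exists_linA c hτ Hf
  obtain ⟨x, hx, hx1, hx2⟩ := exists_pp c' hτ' Hf' h0'
  set S1 := ofEquiv (e 0) with hS1
  set S2 := ofEquiv (e 1) with hS2
  set z := zz (K 0) with hz
  have hA1 : ∀ t, S1.xp t ∈ K 0 := fun t => E.fr.X_le_K 0 one_ne_zero (by rw [← E.S_A]; exact S1.xp_mem t)
  have hm : (-1 : SignType) ≠ 0 := by decide
  have hA1' : ∀ t, S1.xm t ∈ K 0 := fun t => E.fr.X_le_K 0 hm (by rw [← E.S_A']; exact S1.xm_mem t)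
  have hA2 : ∀ t, S2.xp t ∈ K 1 := fun t => E.fr.X_le_K 1 one_ne_zero (by rw [← E.S_A]; exact S2.xp_mem t)
  have hA2' : ∀ t, S2.xm t ∈ K 1 := fun t => E.fr.X_le_K 1 hm (by rw [← E.S_A']; exact S2.xm_mem t)
  -- `u = z a` centralises both
  have hu : z * a ∈ CC S1 S2 := by
    have k0 : ∀ i, ∀ k ∈ K i, k * (z * a) = z * a * k := by
      intro i k hk
      have e1 : Commute k z := by
        have := E.fr.z_cent i k hk
        rw [show z = zz (K i) from (P.zi i).symm]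
        first
        | exact this
        | exact this.symm
      have e2 : Commute k a := (P.aK i k hk).symm
      exact (e1.mul_right e2).eq
    exact ⟨fun t => k0 0 _ (hA1 t), fun t => k0 0 _ (hA1' t), fun t => k0 1 _ (hA2 t), fun t => k0 1 _ (hA2' t)⟩
  have hu' : z * a ∈ CC S1.opp S2.opp := by rw [CC_opp1, CC_opp2]; exact hu
  -- `u` inverts the elements of `La` inverted by `z`
  have inv : ∀ g ∈ La, ac z g = g⁻¹ → ac (z * a) g = g⁻¹ := by
    intro g hg h1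
    rw [← ac_ac, ac_of_comm (P.la.piece.le g hg).symm, h1]
  -- `u` centralises `Lv`
  have cen : ∀ g ∈ Lv, z * a * g = g * (z * a) := fun g hg => (P.lv.piece.le g hg).symm
  have key : ∀ g y : G, g * ac n⁻¹ y = ac n⁻¹ y * g → y * ac n g = ac n g * y := by
    intro g y h1
    have h2 := congrArg (ac n) h1
    rw [ac_mul, ac_mul, ac_ac_inv] at h2
    exact h2.symm
  have D' := D4.opp1.opp2
  have hXL : ∀ y ∈ c'.R, c'.X y ≤ Lv := by
    intro y hy
    exact (X_le_G1 (c'.cls.root y hy)).trans c'.gen.le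
  have m1 : ∀ g ∈ c'.X x, ac n g ∈ CC S1 S2 := by
    intro g hg
    have g1 := D4.mem.2 (hx1 g hg)
    have g2 := cen g (hXL x hx hg)
    refine ⟨fun t => key _ _ ?_, fun t => key _ _ ?_, fun t => key _ _ ?_, fun t => key _ _ ?_⟩
    · obtain ⟨k1, k3⟩ := L.n1 _ (S1.xp_mem t)
      exact NeOf.commE D4 hu g1 g2 (D4.opp2.mem.2 k1) (inv _ k3 k1.2.2.2)
    · obtain ⟨k1, k3⟩ := L.n1' _ (S1.xm_mem t)
      exact NeOf.commE' D4 hu g1 g2 (D4.opp1.mem.2 k1) (inv _ k3 k1.2.2.2)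
    · obtain ⟨k1, k3⟩ := L.n2 _ (S2.xp_mem t)
      exact NeOf.commE' D4 hu g1 g2 (D4.opp1.mem.2 k1) (inv _ k3 k1.2.2.2)
    · obtain ⟨k1, k3⟩ := L.n2' _ (S2.xm_mem t)
      exact NeOf.commE D4 hu g1 g2 (D4.opp2.mem.2 k1) (inv _ k3 k1.2.2.2)
  have m2 : ∀ g ∈ c'.X (-x), ac n g ∈ CC S1 S2 := by
    intro g hg
    have g1 := D'.mem.2 (hx2 g hg)
    have g2 := cen g (hXL (-x) (Nodes.ClsNorm.neg_mem c'.cls hx) hg)
    refine ⟨fun t => key _ _ ?_, fun t => key _ _ ?_, fun t => key _ _ ?_, fun t => key _ _ ?_⟩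
    · obtain ⟨k1, k3⟩ := L.n1 _ (S1.xp_mem t)
      exact NeOf.commE' D' hu' g1 g2 (D4.opp2.mem.2 k1) (inv _ k3 k1.2.2.2)
    · obtain ⟨k1, k3⟩ := L.n1' _ (S1.xm_mem t)
      exact NeOf.commE D' hu' g1 g2 (D4.opp1.mem.2 k1) (inv _ k3 k1.2.2.2)
    · obtain ⟨k1, k3⟩ := L.n2 _ (S2.xp_mem t)
      exact NeOf.commE D' hu' g1 g2 (D4.opp1.mem.2 k1) (inv _ k3 k1.2.2.2)
    · obtain ⟨k1, k3⟩ := L.n2' _ (S2.xm_mem t)
      exact NeOf.commE' D' hu' g1 g2 (D4.opp2.mem.2 k1) (inv _ k3 k1.2.2.2)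
  -- the third member
  have hJ : cj n (c'.X x ⊔ c'.X (-x)) ∈ Om := by
    refine P.dat.hyp.conj _ ?_ n
    have h1 := c'.om x hx
    rwa [Hf'.zx x hx, Hf'.zx _ (Nodes.ClsNorm.neg_mem c'.cls hx)] at h1
  have hJc : cj n (c'.X x ⊔ c'.X (-x)) ≤ CC S1 S2 := by
    rw [cj_sup]
    refine sup_le ?_ ?_
    · rintro _ ⟨g, hg, rfl⟩
      exact m1 g hg
    · rintro _ ⟨g, hg, rfl⟩
      exact m2 g hg
  have hcc : ∀ i, ∀ k ∈ K i, ∀ b ∈ CC S1 S2, k * b = b * k := by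
    intro i k hk b hb
    have h1 : K i ≤ centralizer {b} := by
      rw [E.fr.K_eq i]
      refine sup_le ?_ ?_
      · intro y hy
        rw [mem_centralizer_singleton_iff]
        fin_cases i
        · obtain ⟨t, ht⟩ := S1.mem_A.1 (show y ∈ S1.A by rw [E.S_A 0]; exact hy)
          rw [← ht]; exact hb.1 t
        · obtain ⟨t, ht⟩ := S2.mem_A.1 (show y ∈ S2.A by rw [E.S_A 1]; exact hy)
          rw [← ht]; exact hb.2.2.1 t
      · intro y hy
        rw [mem_centralizer_singleton_iff]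
        fin_cases i
        · obtain ⟨t, ht⟩ := S1.mem_A'.1 (show y ∈ S1.A' by rw [E.S_A' 0]; exact hy)
          rw [← ht]; exact hb.2.1 t
        · obtain ⟨t, ht⟩ := S2.mem_A'.1 (show y ∈ S2.A' by rw [E.S_A' 1]; exact hy)
          rw [← ht]; exact hb.2.2.2 t
    exact mem_centralizer_singleton_iff.1 (h1 hk)
  exact not_three h (P.dat.mem 0) (P.dat.mem 1) hJ (E.fr.comm 0 1 (by decide))
    (fun k hk b hb => hcc 0 k hk b (hJc hb)) (fun k hk b hb => hcc 1 k hk b (hJc hb))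

end main

end Cfsg.Agent.Cit.OmB3.NoAA
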