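import Cfsg.Agent.Cit.OmB3.ChartOut

/-!
# Root groups of a chart containing the two `SL₂`'s lie in the groups `MM`, and the whole group lies in `G₀`
-/

set_option autoImplicit false
set_option linter.unusedSectionVars false
set_option linter.unusedVariables false
set_option linter.dupNamespace false

namespace Cfsg.Agent.Cit.OmB3.ChartLe

open CoxeterSystem Cfsg.Agent.ChevalleyStructure.CoxeterGeom Cfsg.Agent.Tits.Roots Cfsg.Agent.Nodes
  Cfsg.Agent.Nodes.BNOf Cfsg.Agent.Nodes.Chart Cfsg.Agent.Nodes.RGDLib Cfsg.Agent.Nodes.Reps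
open Cfsg.Agent.Cit.LemmaATwo Cfsg.Agent.Cit.OmB3.Side
  Cfsg.Agent.Cit.OmB3.Form Cfsg.Agent.Cit.OmB3.Big Cfsg.Agent.Cit.OmB3.ChartOut
open Cfsg.Agent.Cit.OmB3.Form.Four (MG)

variable {G : Type*} [Group G] {Om : Set (Subgroup G)} {p : ℕ} {D : Subgroup G} (c : Chart Om p D)

theorem odd_of_mem [Finite G] {y : c.I → ℤ} (hy : IsRoot c.cs c.h y) {x : G} (hx : x ∈ c.X y) :
    Odd (orderOf x) := by
  obtain ⟨k, hk⟩ := c.cls.rgd.pgrp' hy ⟨x, hx⟩
  have h1 : x ^ p ^ k = 1 := congrArg Subtype.val hk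
  have h3 : Odd (p ^ k) := (c.prime.eq_two_or_odd'.resolve_left c.odd).pow
  exact h3.of_dvd_nat (orderOf_dvd_of_pow_eq_one h1)

/-- Root groups which make acute angles with `r`, `s` lie in `MM`. -/
theorem mem_MM [Finite G] {r s y : c.I → ℤ} (hr : r ∈ c.R) (hs : s ∈ c.R) (hZr : c.Z r = c.X r)
    (hZs : c.Z s = c.X s) (hy : IsRoot c.cs c.h y) (h1 : 0 < form c.cs c.h y r)
    (h2 : 0 < form c.cs c.h y s) (hyr : y ≠ r) {x : G} (hx : x ∈ c.X y) :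
    x ∈ MM (c.X r) (c.X s) (c.z r) := by
  have hyr' : y ≠ -r := by
    rintro rfl
    rw [form_neg_left] at h1
    have h4 := form_nonneg c.cs c.h r
    omega
  refine ⟨odd_of_mem c hy hx, ?_, ?_, ?_⟩
  · intro a ha
    rw [← hZr] at ha
    exact (c.cls.cent r hr y hy h1.le x hx a ha).symm
  · intro a ha
    rw [← hZs] at ha
    exact (c.cls.cent s hs y hy h2.le x hx a ha).symm
  · have h3 := c.cls.z_inv r hr y hy hyr hyr' h1.ne' x hx
    have h4 : (c.z r)⁻¹ = c.z r := inv_eq_of_mul_eq_one_right (c.cls.z_sq r hr)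
    unfold ac
    rw [h4]; exact h3

/-- The chart contains the two `SL₂`'s as groups of the roots `±r`, `±s`. -/
structure Fr {F : Type*} [Field F] (S1 S2 : SLSys F G) (z : G) (r s : c.I → ℤ) : Prop where
  hr : r ∈ c.R
  hs : s ∈ c.R
  zx : ∀ y ∈ c.R, c.Z y = c.X y
  a1 : S1.A = c.X r
  a1' : S1.A' = c.X (-r)
  a2 : S2.A = c.X s
  a2' : S2.A' = c.X (-s)
  hz : z = c.z r
  non : ∀ y, IsRoot c.cs c.h y → y ≠ r → y ≠ -r → y ≠ s → y ≠ -s →
    form c.cs c.h y r ≠ 0 ∧ form c.cs c.h y s ≠ 0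

variable {c} {F : Type*} [Field F] {S1 S2 : SLSys F G} {z : G} {r s : c.I → ℤ}

namespace Fr

variable (H : Fr c S1 S2 z r s)

include H

theorem mem_pp [Finite G] {y : c.I → ℤ} (hy : IsRoot c.cs c.h y) (h1 : 0 < form c.cs c.h y r)
    (h2 : 0 < form c.cs c.h y s) (hyr : y ≠ r) {x : G} (hx : x ∈ c.X y) : x ∈ MM S1.A S2.A z := by
  rw [H.a1, H.a2, H.hz]
  exact mem_MM c H.hr H.hs (H.zx _ H.hr) (H.zx _ H.hs) hy h1 h2 hyr hx

theorem neg_mem {y : c.I → ℤ} (hy : y ∈ c.R) : -y ∈ c.R := ClsNorm.neg_mem c.cls hy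

theorem opp1 : Fr c S1.opp S2 z (-r) s where
  hr := H.neg_mem H.hr
  hs := H.hs
  zx := H.zx
  a1 := H.a1'
  a1' := by rw [neg_neg]; exact H.a1
  a2 := H.a2
  a2' := H.a2'
  hz := by rw [c.cls.z_neg r H.hr]; exact H.hz
  non y hy h1 h2 h3 h4 := by
    rw [neg_neg] at h2
    obtain ⟨k1, k2⟩ := H.non y hy h2 h1 h3 h4
    exact ⟨by rw [form_neg_right]; exact neg_ne_zero.2 k1, k2⟩

theorem opp2 : Fr c S1 S2.opp z r (-s) where
  hr := H.hr
  hs := H.neg_mem H.hs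
  zx := H.zx
  a1 := H.a1
  a1' := H.a1'
  a2 := H.a2'
  a2' := by rw [neg_neg]; exact H.a2
  hz := H.hz
  non y hy h1 h2 h3 h4 := by
    rw [neg_neg] at h4
    obtain ⟨k1, k2⟩ := H.non y hy h1 h2 h4 h3
    exact ⟨k1, by rw [form_neg_right]; exact neg_ne_zero.2 k2⟩

/-- **The group of the chart lies in `G₀`.** -/
theorem le_G0 [Finite G] [Finite F] (D4 : Four S1 S2 z) (h1 : S1.A ≤ G0 S1 S2 z) (h1' : S1.A' ≤ G0 S1 S2 z)
    (h2 : S2.A ≤ G0 S1 S2 z) (h2' : S2.A' ≤ G0 S1 S2 z) : D ≤ G0 S1 S2 z := by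
  rw [← c.gen]
  refine RGD.Sup_le fun y hy => ?_
  by_cases e1 : y = r
  · rw [e1, ← H.a1]; exact h1
  by_cases e2 : y = -r
  · rw [e2, ← H.a1']; exact h1'
  by_cases e3 : y = s
  · rw [e3, ← H.a2]; exact h2
  by_cases e4 : y = -s
  · rw [e4, ← H.a2']; exact h2'
  obtain ⟨k1, k2⟩ := H.non y hy e1 e2 e3 e4
  intro x hx
  rcases lt_or_gt_of_ne k1 with k1 | k1 <;> rcases lt_or_gt_of_ne k2 with k2 | k2
  · exact M4_le _ _ _ (D4.opp1.opp2.mem.2 (H.opp1.opp2.mem_pp hy (by rw [form_neg_right]; omega)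
      (by rw [form_neg_right]; omega) e2 hx))
  · exact M2_le _ _ _ (D4.opp1.mem.2 (H.opp1.mem_pp hy (by rw [form_neg_right]; omega) k2 e2 hx))
  · exact M3_le _ _ _ (D4.opp2.mem.2 (H.opp2.mem_pp hy k1 (by rw [form_neg_right]; omega) e1 hx))
  · exact M1_le _ _ _ (D4.mem.2 (H.mem_pp hy k1 k2 e1 hx))

end Fr

end Cfsg.Agent.Cit.OmB3.ChartLe
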