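import Cfsg.Agent.Cit.OmB3.FCent

/-!
# The structure `Inp` from `Hyp Om`
-/

set_option autoImplicit false
set_option linter.unusedSectionVars false
set_option linter.unusedVariables false
set_option linter.dupNamespace false

namespace Cfsg.Agent.Cit.OmB3.InpOf

open Subgroup Matrix Cfsg.Agent.Lib.SL2Mat
open Cfsg.Agent.RootAmalgam (Onto)
open Cfsg.Agent.Cit.LemmaATwo Cfsg.Agent.Cit.OmB3.Side Cfsg.Agent.Cit.OmB3.Mu
open Cfsg.Agent.Cit (Hyp zz cj cj_mul mem_cj)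

variable {G : Type*} [Group G] [Finite G] {F : Type*} [Field F] [Fintype F] {Om : Set (Subgroup G)}
  {K K' : Subgroup G}

theorem sup_eq (e : SpecialLinearGroup (Fin 2) F ≃* K) :
    (SLSysOf.ofEquiv e).A ⊔ (SLSysOf.ofEquiv e).A' = K := by
  rw [SLSysOf.A_eq, SLSysOf.A'_eq]
  exact ParabSL2.root_sup_rootOp e

theorem exists_ncomm (e : SpecialLinearGroup (Fin 2) F ≃* K) :
    ¬ ∀ y ∈ K, (SLSysOf.ofEquiv e).xp 1 * y = y * (SLSysOf.ofEquiv e).xp 1 := by
  intro h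
  have h1 := h _ (e (lo 1)).2
  rw [SLSysOf.ofEquiv_xp] at h1
  have h3 : up (1 : F) * lo 1 = lo 1 * up 1 := by
    apply e.injective
    apply Subtype.ext
    rw [map_mul, map_mul]
    exact h1
  have h4 := congrArg (fun x => ent x 0 0) h3
  simp only [ent_mul, up_00, up_01, lo_00, lo_10, lo_01, up_10] at h4
  have h5 : (1 : F) = 0 := by linear_combination h4
  exact one_ne_zero h5

/-- one half -/
theorem cen (hcomm : ∀ x ∈ K, ∀ y ∈ K', x * y = y * x) (e : SpecialLinearGroup (Fin 2) F ≃* K) {z : G}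
    (alt : ∀ g, g * z = z * g → cj g K = K ∨ cj g K = K') :
    ∀ x, z * x = x * z → (∀ a ∈ (SLSysOf.ofEquiv e).A, a * x = x * a) →
    ∃ a ∈ (SLSysOf.ofEquiv e).A, ∀ b ∈ K, b * (a⁻¹ * x) = (a⁻¹ * x) * b := by
  intro x hzx hx
  have hxK : cj x K = K := by
    rcases alt x hzx.symm with h | h
    · exact h
    · exfalso
      apply exists_ncomm e
      intro y hy
      have h1 : (SLSysOf.ofEquiv e).xp 1 ∈ K' := by
        rw [← h, mem_cj]
        have h3 := hx _ ((SLSysOf.ofEquiv e).xp_mem 1)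
        have h4 : x⁻¹ * (SLSysOf.ofEquiv e).xp 1 * x = (SLSysOf.ofEquiv e).xp 1 := by
          rw [mul_assoc, h3, inv_mul_cancel_left]
        rw [h4]
        exact SLSysOf.xp_mem e 1
      exact (hcomm y hy _ h1).symm
  have hn := mem_normalizer_iff_cj.2 hxK
  let α : MulAut (SpecialLinearGroup (Fin 2) F) := (e.trans (K.normalizerMonoidHom ⟨x, hn⟩)).trans e.symm
  have hα : ∀ g, (e (α g) : G) = x * (e g : G) * x⁻¹ := by
    intro g
    have h1 : e (α g) = K.normalizerMonoidHom ⟨x, hn⟩ (e g) := by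
      show e (e.symm _) = _
      rw [MulEquiv.apply_symm_apply]
      rfl
    rw [h1]; rfl
  obtain ⟨t, ht⟩ := ParabSL2.exists_up_of_fix α (by
    intro b
    apply e.injective
    apply Subtype.ext
    rw [hα]
    have h1 := hx _ ((SLSysOf.ofEquiv e).xp_mem b)
    rw [SLSysOf.ofEquiv_xp] at h1
    rw [← h1, mul_inv_cancel_right])
  refine ⟨(SLSysOf.ofEquiv e).xp t, (SLSysOf.ofEquiv e).xp_mem t, ?_⟩
  intro b hb
  rw [SLSysOf.ofEquiv_xp]
  obtain ⟨g, hg⟩ : ∃ g, (e g : G) = b := ⟨e.symm ⟨b, hb⟩, by rw [MulEquiv.apply_symm_apply]⟩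
  have h1 := hα g
  rw [ht g, map_mul, map_mul, map_inv, Subgroup.coe_mul, Subgroup.coe_mul, Subgroup.coe_inv, hg] at h1
  -- `a b a⁻¹ = x b x⁻¹`
  set a : G := (e (up t) : G) with ha
  calc b * (a⁻¹ * x) = a⁻¹ * (a * b * a⁻¹) * x := by group
    _ = a⁻¹ * (x * b * x⁻¹) * x := by rw [h1]
    _ = a⁻¹ * x * b := by group

/-- **The structure `Inp`.** -/
theorem inp (hyp : Hyp Om) {z : G} (hK : K ∈ Om) (hK' : K' ∈ Om) (e : SpecialLinearGroup (Fin 2) F ≃* K)
    (e' : SpecialLinearGroup (Fin 2) F ≃* K') (hz : zz K = z) (hz' : zz K' = z)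
    (hcomm : ∀ x ∈ K, ∀ y ∈ K', x * y = y * x)
    (alt : ∀ g, g * z = z * g → cj g K = K ∨ cj g K = K')
    (alt' : ∀ g, g * z = z * g → cj g K' = K' ∨ cj g K' = K) :
    Inp (SLSysOf.ofEquiv e) (SLSysOf.ofEquiv e') z where
  uniq1 x hx hxx := by
    rw [sup_eq] at hx
    by_cases h1 : x = 1
    · exact Or.inl h1
    · exact Or.inr ((hyp.eq_zz hK hx hxx h1).trans hz)
  uniq2 x hx hxx := by
    rw [sup_eq] at hx
    by_cases h1 : x = 1
    · exact Or.inl h1
    · exact Or.inr ((hyp.eq_zz hK' hx hxx h1).trans hz')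
  cen1 x _ hzx hx := by
    rw [sup_eq]
    exact cen hcomm e alt x hzx hx
  cen2 x _ hzx hx := by
    rw [sup_eq]
    exact cen (fun x hx y hy => (hcomm y hy x hx).symm) e' alt' x hzx hx

end Cfsg.Agent.Cit.OmB3.InpOf
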