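import Cfsg.Agent.Cit.OmB3.HasP
import Cfsg.Agent.Cit.OmB3.InpOf
import Cfsg.Agent.Cit.OmB3.ChartLe
import Cfsg.Agent.Cit.TwoWM
import Cfsg.Agent.Cit.CoreTwoEq

/-!
# Branch (B): the chart of type `B₃` of the whole group from the configuration

`chart_top` : if the configuration `Big` of the two members `K`, `K'` over `z` is given and the groups `D_v`, `D_{zv}`
(the closures for the two involutions `v`, `zv` of `TwoW.WD`) lie in `G₀`, then `G₀ = G` has a chart of type `B₃`.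
-/

set_option autoImplicit false
set_option linter.unusedSectionVars false
set_option linter.unusedVariables false
set_option linter.dupNamespace false
set_option linter.style.haveILetI false

namespace Cfsg.Agent.Cit.OmB3.GlueB

open Subgroup Matrix
open Cfsg.Agent.Cit.LemmaATwo Cfsg.Agent.Cit.OmB3.Form Cfsg.Agent.Cit.OmB3.Big
  Cfsg.Agent.Cit.OmB3.Pairs Cfsg.Agent.Cit.OmB3.ChartOut Cfsg.Agent.Cit.OmB3.FCent
  Cfsg.Agent.Nodes.Chart
open Cfsg.Agent.Cit.OmB3.Form.Four (MG)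
open Cfsg.Agent.Cit (Hyp zz cj cj_inj OmS OO MinS TyTwo IsType WD TwoE)
open Cfsg.Agent.Cit.TwoFK (TwoEq)
open Cfsg.Agent.Cit.TwoWM (OneCls)

section

variable {G : Type*} [Group G] [Finite G] {Om : Set (Subgroup G)}

/-- the form `EqZ` -/
theorem eqZ (h : TwoEq Om) (hne : Om.Nonempty) (hty : ∀ K ∈ Om, TyTwo K) : EqClose.EqZ Om where
  hyp := h.hyp
  ne := hne
  ty := hty
  eqz := h.same
  two S K hK := by
    obtain ⟨X, Y, hXY, hO⟩ := Set.ncard_eq_two.1 (h.two S)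
    have hX : X ∈ OmS Om (S : Subgroup G) := by rw [hO]; exact Set.mem_insert _ _
    have hY : Y ∈ OmS Om (S : Subgroup G) := by rw [hO]; exact Set.mem_insert_of_mem _ rfl
    by_cases h1 : X = K
    · exact ⟨Y, hY, fun h2 => hXY (h1.trans h2.symm)⟩
    · exact ⟨X, hX, h1⟩

/-- the members over one involution commute -/
theorem comm_mem (hyp : Hyp Om) (hO : ∀ K ∈ Om, OO K = ⊥) {K K' : Subgroup G} (hK : K ∈ Om) (hK' : K' ∈ Om)
    (hne : K ≠ K') (hz : zz K' = zz K) : ∀ a ∈ K, ∀ a' ∈ K', a * a' = a' * a := by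
  intro a ha a' ha'
  rcases hyp.h2 K hK K' hK' hz.symm with h1 | h1
  · exact absurd h1 hne
  · have h2 : a * a' * a⁻¹ * a'⁻¹ ∈ OO K := (h1 (commutator_mem_commutator ha ha')).1
    rw [hO K hK] at h2
    have h3 := mem_bot.1 h2
    rw [mul_inv_eq_one, mul_inv_eq_iff_eq_mul] at h3
    exact h3

variable {F : Type} [Field F] [Fintype F] {p m : ℕ} [Fact p.Prime] [CharP F p] {K K' J Q Q' QJ Dv Da Y Y' : Subgroup G}
  {x y b c : G}

theorem ne_A (e : SpecialLinearGroup (Fin 2) F ≃* K) : (SLSysOf.ofEquiv e).A' ≠ (SLSysOf.ofEquiv e).A := by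
  intro h
  have h1 : (SLSysOf.ofEquiv e).xp 1 ∈ (SLSysOf.ofEquiv e).A' := by rw [h]; exact (SLSysOf.ofEquiv e).xp_mem 1
  obtain ⟨t, ht⟩ := h1
  have h3 : Cfsg.Agent.Lib.SL2Mat.lo t = Cfsg.Agent.Lib.SL2Mat.up (1 : F) := by
    apply e.injective
    apply Subtype.ext
    exact ht
  have h4 := congrArg (fun x => Cfsg.Agent.Lib.SL2Mat.ent x 0 1) h3
  simp only [Cfsg.Agent.Lib.SL2Mat.lo_01, Cfsg.Agent.Lib.SL2Mat.up_01] at h4
  exact one_ne_zero h4.symm

/-- **The configuration gives the chart of type `B₃` of the whole group.** -/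
theorem chart_top (hs : IsSimpleGroup G) (h : TwoEq Om) (hty : ∀ K ∈ Om, IsType K) (hO : ∀ K ∈ Om, OO K = ⊥)
    (w : WD Om K K' J Q Q' QJ x y b c) (e : SpecialLinearGroup (Fin 2) F ≃* K)
    (e' : SpecialLinearGroup (Fin 2) F ≃* K') (hp2 : p ≠ 2) (h2 : (2 : F) ≠ 0)
    (B : Big p m (SLSysOf.ofEquiv e) (SLSysOf.ofEquiv e') (zz K) Y Y')
    (hv : OneCls Om (zz J * (x * y)) Dv) (hvle : Dv ≤ G0 (SLSysOf.ofEquiv e) (SLSysOf.ofEquiv e') (zz K))
    (ha : OneCls Om (zz K * (zz J * (x * y))) Da) (hale : Da ≤ G0 (SLSysOf.ofEquiv e) (SLSysOf.ofEquiv e') (zz K))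
    (hB : CloEnd.Bend G) (hC : CloEnd.Crit1175 G) :
    ∃ c : Chart Om p (⊤ : Subgroup G), c.IsTy (.B 3) ∧ (∀ r ∈ c.R, c.Z r = c.X r) := by
  have hE : TwoE Om := h.twoE
  have s1 : (SLSysOf.ofEquiv e).A ⊔ (SLSysOf.ofEquiv e).A' = K := InpOf.sup_eq e
  have s2 : (SLSysOf.ofEquiv e').A ⊔ (SLSysOf.ofEquiv e').A' = K' := InpOf.sup_eq e'
  have alt : ∀ g, g * zz K = zz K * g → (cj g K = K ∧ cj g K' = K') ∨ (cj g K = K' ∧ cj g K' = K) :=
    fun g hg => hE.cj_or w.tt.hK w.tt.hK' w.tt.ne w.tt.hz hg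
  have I := InpOf.inp h.hyp w.tt.hK w.tt.hK' e e' rfl w.tt.hz
    (comm_mem h.hyp hO w.tt.hK w.tt.hK' w.tt.ne w.tt.hz)
    (fun g hg => (alt g hg).imp And.left And.left) (fun g hg => (alt g hg).imp And.right And.right)
  obtain ⟨z3, C⟩ := exists_cfg B h2 I
  have hz : centralizer {zz K} ≤ normalizer (G0 (SLSysOf.ofEquiv e) (SLSysOf.ofEquiv e') (zz K) : Set G) := by
    intro g hg
    have hg' := mem_centralizer_singleton_iff.1 hg
    refine mem_normalizer B.four (e.trans (MulEquiv.subgroupCongr s1.symm)) (e'.trans (MulEquiv.subgroupCongr s2.symm))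
      ?_ ?_ ?_ ?_ ?_ ?_
    · exact ne_A e
    · exact ne_A e'
    · exact sup_le (A1_le C) (A1'_le C)
    · exact sup_le (A2_le C) (A2'_le C)
    · show g * zz K * g⁻¹ = zz K
      rw [hg', mul_inv_cancel_right]
    · rw [s1, s2]; exact alt g hg'
  obtain ⟨b1, b2⟩ := TwoWM.big hE hty hO w hz hv (hvle.trans le_normalizer) ha (hale.trans le_normalizer)
  have hN : normalizer (G0 (SLSysOf.ofEquiv e) (SLSysOf.ofEquiv e') (zz K) : Set G) = ⊤ := by
    by_contra hne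
    exact b1.false_of_big_two (eqZ h ⟨K, w.tt.hK⟩ fun K hK => (hty K hK).tyTwo) h.two b2 hne hB hC
  obtain ⟨S, hKS, -⟩ := h.hyp.exists_sylow w.tt.hK
  have hK'S : K' ∈ OmS Om (S : Subgroup G) := h.hyp.mem_OmS_of_zz_eq S hKS w.tt.hK' w.tt.hz
  refine HasP.exists_chart_top h.hyp hs C hp2 (by rw [s1]; exact w.tt.hK) S ?_ hN
  intro L hL
  rw [s1, s2]
  exact hE.pair S.isPGroup' hKS hK'S hL w.tt.ne

end

end Cfsg.Agent.Cit.OmB3.GlueB
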