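import Cfsg.Agent.Cit.OmB3.Sup
import Cfsg.Agent.Cit.TwoTy.Def
import Cfsg.Agent.Cit.TwoWM
import Cfsg.Agent.Cit.TwoWT
import Cfsg.Agent.Cit.ExactPiece
import Cfsg.Agent.Cit.OmB3.GlueB

/-!
# Branch (B): the input of the exact parabolics from the data `TwoW.WD`

* `core_le_OO` : `O(C(K)) ≤ O(C(z))`;
* `exists_prov` : `Sup.Prov` for the two members over `z`, `a = z v`, and the groups `D_a`, `D_v`.
-/

set_option autoImplicit false
set_option linter.unusedSectionVars false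
set_option linter.style.haveILetI false

namespace Cfsg.Agent.Cit.OmB3.SupB

open Subgroup Cfsg
open Cfsg.Agent.Cit (Hyp zz cj OO MinS TyTwo IsType WD TwoE mem_normalizer_iff_cj OO_cj le_OO odd_OO OO_le
  cjEquiv)
open Cfsg.Agent.Cit.TwoFK (TwoEq)
open Cfsg.Agent.Cit.TwoTy (TyD)
open Cfsg.Agent.Cit.ParabSL2 Cfsg.Agent.Cit.FrameOf Cfsg.Agent.Cit.OmB3.Sup
open Cfsg.Agent.Nodes.Chart Cfsg.Agent.Nodes.ChartLoc Cfsg.Agent.ChevalleyStructure.CoxeterGeom
  Cfsg.Agent.Nodes.Comb Cfsg.Agent.Nodes.ClsNorm Cfsg.Agent.Nodes.Reps Cfsg.Agent.Tits.Roots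
  Cfsg.Agent.Tits.Core Cfsg.Agent.Tits.RootComb

universe u

section

variable {G : Type u} [Group G] [Finite G] {Om : Set (Subgroup G)}

theorem cj_centralizer (g : G) (K : Subgroup G) :
    cj g (centralizer (K : Set G)) = centralizer (cj g K : Set G) := by
  ext x
  rw [Cit.mem_cj, mem_centralizer_iff, mem_centralizer_iff]
  constructor
  · intro h y hy
    have h1 := h _ ((Cit.mem_cj).1 hy)
    have h2 : y * x = g * (g⁻¹ * y * g * (g⁻¹ * x * g)) * g⁻¹ := by group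
    rw [h2, h1]; group
  · intro h y hy
    have h1 := h (g * y * g⁻¹) (Cit.conj_mem_cj hy)
    have h2 : y * (g⁻¹ * x * g) = g⁻¹ * (g * y * g⁻¹ * x) * g := by group
    rw [h2, h1]; group

theorem cj_normalizer (g : G) (K : Subgroup G) :
    cj g (normalizer (K : Set G)) ≤ normalizer (cj g K : Set G) := by
  rintro _ ⟨n, hn, rfl⟩
  have h1 : cj n K = K := mem_normalizer_iff_cj.1 hn
  simp only [MulEquiv.coe_toMonoidHom, MulAut.conj_apply]
  rw [mem_normalizer_iff_cj]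
  have h2 : cj (g * n * g⁻¹) (cj g K) = cj g (cj n K) := by
    rw [← Cit.cj_mul, ← Cit.cj_mul]; congr 1; group
  rw [h2, h1]

/-- **`O(C(K)) ≤ O(C(z))`** -/
theorem core_le_OO (h : TwoE Om) {K K' : Subgroup G} (hK : K ∈ Om) (hK' : K' ∈ Om) (hne : K ≠ K')
    (hz : zz K' = zz K) : Parab.core K ≤ OO (centralizer {zz K}) := by
  set N := normalizer (K : Set G) with hN
  have hNC : N ≤ centralizer {zz K} := h.hyp.normalizer_le hK
  have hcore : Parab.core K = OO (centralizer (K : Set G)) := rfl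
  have hCN : centralizer (K : Set G) ≤ N := centralizer_le_normalizer _
  have h1 : OO (centralizer (K : Set G)) ≤ OO N := by
    refine le_OO ((OO_le _).trans hCN) ?_ (odd_OO _)
    intro n hn
    rw [mem_normalizer_iff_cj, ← OO_cj, cj_centralizer, mem_normalizer_iff_cj.1 hn]
  rw [hcore]
  refine h1.trans (le_OO ((OO_le _).trans hNC) ?_ (odd_OO _))
  intro g hg
  have hg' := mem_centralizer_singleton_iff.1 hg
  have h2 : cj g N ≤ N := by
    refine (cj_normalizer g K).trans ?_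
    rcases h.cj_or hK hK' hne hz hg' with ⟨h3, -⟩ | ⟨h3, -⟩
    · rw [h3]
    · rw [h3, ← h.normalizer_eq hK hK' hne hz]
  rw [mem_normalizer_iff_cj, ← OO_cj, Cit.Parab.cj_eq_of_le h2]

/-- a chart of type `τ` with `|VV r| = q ^ n` -/
def LocT (Om : Set (Subgroup G)) (p q n : ℕ) (τ : Nodes.Chart.Ty) (L : Subgroup G) : Prop :=
  ∃ c : Chart Om p L, c.IsTy τ ∧ ∀ r ∈ c.R, Nat.card (VV c.cs c.h c.X r) = q ^ n

/-- a member in `L` is `SL₂(F)` -/
theorem nonempty_sl {F : Type*} [Field F] {p : ℕ} {L : Subgroup G} (c : Chart Om p L)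
    (hc : ∀ r ∈ c.R, Nonempty (Matrix.SpecialLinearGroup (Fin 2) F ≃* ↥(c.Z r ⊔ c.Z (-r)))) {K : Subgroup G}
    (hK : K ∈ Om) (hKL : K ≤ L) : Nonempty (Matrix.SpecialLinearGroup (Fin 2) F ≃* K) := by
  obtain ⟨r, hr, g, hg, h1⟩ := c.om_conj K hK hKL
  obtain ⟨e⟩ := hc r hr
  exact ⟨(e.trans (cjEquiv g _)).trans (MulEquiv.subgroupCongr h1.symm)⟩

variable {K K' J Q Q' QJ Dv Da : Subgroup G} {x y b c : G}

/-- the two root groups -/
noncomputable def XR {F : Type*} [Field F] {K : Subgroup G} (e : Matrix.SpecialLinearGroup (Fin 2) F ≃* K) :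
    SignType → Subgroup G := fun s => if s = 1 then root e else rootOp e

theorem XR_one {F : Type*} [Field F] {K : Subgroup G} (e : Matrix.SpecialLinearGroup (Fin 2) F ≃* K) :
    XR e 1 = root e := if_pos rfl

theorem XR_neg {F : Type*} [Field F] {K : Subgroup G} (e : Matrix.SpecialLinearGroup (Fin 2) F ≃* K) :
    XR e (-1) = rootOp e := if_neg (by decide)

/-- **The input `Prov`.** -/
theorem exists_prov (h : TwoEq Om) (hO : ∀ K ∈ Om, OO K = ⊥)
    (w : WD Om K K' J Q Q' QJ x y b c) (hodd : ∀ D : Subgroup G, ¬ 2 ∣ Nat.card D → Group.IsSolvable D)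
    (hX : ∀ d ∈ OO (centralizer {zz K}), (zz K * (zz J * (x * y))) * d = d * (zz K * (zz J * (x * y))))
    (Pv : FrameOf.Piece Om (zz J * (x * y)) Dv) (Pa : FrameOf.Piece Om (zz K * (zz J * (x * y))) Da)
    (hv : K ≤ Dv) (hv' : K' ≤ Dv) (ha : K ≤ Da) (ha' : K' ≤ Da) {qv qa nv na : ℕ} {τv τa : Nodes.Chart.Ty}
    (Tv : TyD Om Dv qv τv nv) (Ta : TyD Om Da qa τa na) (hτv : τv = .A 3 ∨ τv = .C 2) (hτa : τa = .A 3 ∨ τa = .C 2)
    (hnv : 2 ≤ nv) (hna : 2 ≤ na) :
    ∃ (F : Type) (_ : Field F) (_ : Fintype F) (p : ℕ) (_ : CharP F p) (X : Fin 2 → SignType → Subgroup G),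
      p.Prime ∧ p ≠ 2 ∧ Prov Om F p na nv ![K, K'] X (zz K * (zz J * (x * y))) Da Dv ∧
      LocT Om p (Nat.card F) nv τv Dv ∧ LocT Om p (Nat.card F) na τa Da := by
  have hE : TwoE Om := h.twoE
  obtain ⟨F, i1, i2, p, i3, cv, f1, f2, f3, f4, f5, f6⟩ := Tv
  obtain ⟨F', j1, j2, p', j3, ca, g1, g2, g3, g4, g5, g6⟩ := Ta
  have hzM : zz K ∈ K := h.hyp.zz_mem w.tt.hK
  obtain ⟨e⟩ := nonempty_sl cv f5 w.tt.hK hv
  obtain ⟨e'⟩ := nonempty_sl cv f5 w.tt.hK' hv'
  obtain ⟨ea⟩ := nonempty_sl ca g5 w.tt.hK ha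
  have hq : Fintype.card F = Fintype.card F' := ExactChart.card_eq (e.trans ea.symm)
  have hp : p = p' := ExactChart.char_eq (e.trans ea.symm)
  subst hp
  have hzv : zz K * (zz K * (zz J * (x * y))) = zz J * (x * y) := by
    rw [← mul_assoc, h.hyp.zz_mul w.tt.hK, one_mul]
  have hz := w.tt.hz
  have hcomm := GlueB.comm_mem h.hyp hO w.tt.hK w.tt.hK' w.tt.ne hz
  have hoF : Odd (Fintype.card F) := by rw [f1]; exact f2
  have hNq : Nat.card F = qv := by rw [Nat.card_eq_fintype_card, f1]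
  have hNq' : Nat.card F = qa := by rw [Nat.card_eq_fintype_card, hq, g1]
  have lv : LocT Om p (Nat.card F) nv τv Dv := ⟨cv, f3, fun r hr => by rw [hNq]; exact f6 r hr⟩
  have la : LocT Om p (Nat.card F) na τa Da := ⟨ca, g3, fun r hr => by rw [hNq']; exact g6 r hr⟩
  refine ⟨F, i1, i2, p, i3, ![XR e, XR e'],
    cv.prime, cv.odd, ?_, lv, la⟩
  have hdat : Dat Om F ![K, K'] ![XR e, XR e'] := by
    refine ⟨h.hyp, ?_, ?_, ?_⟩
    · intro i
      fin_cases i
      · exact w.tt.hK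
      · exact w.tt.hK'
    · intro i j hij
      fin_cases i <;> fin_cases j
      · exact absurd rfl hij
      · exact hcomm
      · exact fun a ha b hb => (hcomm b hb a ha).symm
      · exact absurd rfl hij
    · intro i
      fin_cases i
      · exact ⟨e, XR_one e, XR_neg e⟩
      · exact ⟨e', XR_one e', XR_neg e'⟩
  refine
    { dat := hdat, odd := hoF, zeq := hz.symm, aa := TwoWT.zvzv hE w, aK := ?_, acore := ?_, la := ?_, lv := ?_,
      solv := fun i => hodd _ ?_ }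
  · intro i
    fin_cases i
    · exact fun k hk => (Pa.le k (ha hk)).symm
    · exact fun k hk => (Pa.le k (ha' hk)).symm
  · intro i
    fin_cases i
    · exact fun d hd => hX d (core_le_OO hE w.tt.hK w.tt.hK' w.tt.ne hz hd)
    · refine fun d hd => hX d ?_
      have h1 := core_le_OO hE w.tt.hK' w.tt.hK w.tt.ne.symm hz.symm hd
      rwa [hz] at h1
  · refine ⟨Pa, ?_, hna, ?_⟩
    · intro i
      fin_cases i
      · exact ha
      · exact ha'
    · obtain ⟨c, h1, h2⟩ := la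
      exact ⟨c, by rcases hτa with rfl | rfl; exacts [Or.inl h1, Or.inr h1], h2⟩
  · have hu : zz ((![K, K'] : Fin 2 → Subgroup G) 0) * (zz K * (zz J * (x * y))) = zz J * (x * y) := hzv
    rw [hu]
    refine ⟨Pv, ?_, hnv, ?_⟩
    · intro i
      fin_cases i
      · exact hv
      · exact hv'
    · obtain ⟨c, h1, h2⟩ := lv
      exact ⟨c, by rcases hτv with rfl | rfl; exacts [Or.inl h1, Or.inr h1], h2⟩
  · have h1 := Parab.odd_core ((![XR e, XR e'] : Fin 2 → SignType → Subgroup G) i 1)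
    intro h2
    rw [Nat.odd_iff] at h1
    omega

/-- **The roots of the frame in a chart of type `τ`.** -/
theorem exists_rcT {F : Type*} [Field F] [Fintype F] {p na nv n : ℕ} {K : Fin 2 → Subgroup G}
    {X : Fin 2 → SignType → Subgroup G} {a u : G} {La Lv L : Subgroup G} [CharP F p]
    (H : Prov Om F p na nv K X a La Lv) {τ : Nodes.Chart.Ty} (U : LocU Om p (Nat.card F) n K u L)
    (T : LocT Om p (Nat.card F) n τ L) :
    ∃ (c : Chart Om p L) (ρ : Fin 2 → SignType → c.I → ℤ), c.IsTy τ ∧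
      (∀ i s, s ≠ 0 → ρ i s ∈ c.R ∧ c.Z (ρ i s) = X i s ∧ c.z (ρ i s) = zz (K i) ∧ ρ i (-s) = -ρ i s ∧
        QF K X i s ⊓ L = VV c.cs c.h c.X (ρ i s) ∧ QF K X i s ⊓ centralizer {u} = VV c.cs c.h c.X (ρ i s) ∧
        Nat.card (VV c.cs c.h c.X (ρ i s)) = Nat.card F ^ n) ∧
      ∀ i j s t, i ≠ j → s ≠ 0 → t ≠ 0 → form c.cs c.h (ρ i s) (ρ j t) = 0 := by
  obtain ⟨c0, hty, hc⟩ := T
  obtain ⟨c, ρ, h1, h2⟩ := H.exists_rc_of U c0 hc
  exact ⟨c, ρ, h1 _ hty, h2⟩

end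

end Cfsg.Agent.Cit.OmB3.SupB
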