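import Cfsg.Agent.Cit.OmB3.GlueB
import Cfsg.Agent.Cit.TwoWT
import Cfsg.Agent.TwoFusion.SLTwoFacts

/-!
# Branch (B): the third member

`t = x y`, `x ∈ K`, `y ∈ K'` of order `4`, `z = zz K = zz K'`; `M` is a member which commutes with `t`, `M^z ≠ M`,
`z` commutes with `zz M`. All `OO = ⊥`, the members are isomorphic to `SL(2,F)`, no product `x y` is the involution of
a member.

* `comm_sl` : a homomorphism `SL(2,E) → Aut(SL(2,F))`, `|E| > 3`, fixing an element of order 4 is trivial;
* `comm_three` : the same for elements of odd order, `F = F₃`;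
* `comm` : `k k^z` centralises `K` and `K'` for `k ∈ M`;
* `out` : if `k ∈ M` is of order `4` then `k k^z` does not commute with `J` for a member `J` which commutes with `t`.
-/

set_option autoImplicit false
set_option linter.unusedSectionVars false
set_option linter.unusedVariables false
set_option linter.style.haveILetI false

namespace Cfsg.Agent.Cit.OmB3.XTwo

open Subgroup Cfsg Matrix
open Cfsg.Agent.Lib.SL2Mat (ent ent_mul ext_ent det_eq)

local notation "SL2" => Matrix.SpecialLinearGroup (Fin 2)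

section Mat

variable {F : Type*} [Field F]

theorem par {a b c d p q r s p' q' r' s' : F} (h1 : q * c = b * r)
    (h2 : b * (p - s) = q * (a - d)) (h3 : r * (a - d) = c * (p - s)) (h1' : q' * c = b * r')
    (h2' : b * (p' - s') = q' * (a - d)) (h3' : r' * (a - d) = c * (p' - s')) (hn : a - d ≠ 0 ∨ b ≠ 0 ∨ c ≠ 0) :
    q * r' = q' * r ∧ q' * (p - s) = q * (p' - s') ∧ r * (p' - s') = r' * (p - s) := by
  rcases hn with hn | hn | hn
  · have e2 : q' * (p - s) = q * (p' - s') := by
      apply mul_left_cancel₀ hn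
      linear_combination -(p - s) * h2' + (p' - s') * h2
    refine ⟨?_, e2, ?_⟩
    · apply mul_left_cancel₀ hn
      linear_combination q * h3' - q' * h3 - c * e2
    · apply mul_left_cancel₀ hn
      linear_combination (p' - s') * h3 - (p - s) * h3'
  · have e : q * r' = q' * r := by
      apply mul_left_cancel₀ hn
      linear_combination -q * h1' + q' * h1
    refine ⟨e, ?_, ?_⟩
    · apply mul_left_cancel₀ hn
      linear_combination q' * h2 - q * h2'
    · apply mul_left_cancel₀ hn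
      linear_combination r * h2' - r' * h2 - (a - d) * e
  · have e : q * r' = q' * r := by
      apply mul_left_cancel₀ hn
      linear_combination r' * h1 - r * h1'
    refine ⟨e, ?_, ?_⟩
    · apply mul_left_cancel₀ hn
      linear_combination -q' * h3 + q * h3' - (a - d) * e
    · apply mul_left_cancel₀ hn
      linear_combination -r * h3' + r' * h3

theorem comm_of_nonscalar (h2 : (2 : F) ≠ 0) {X A B : SL2 F} (hX : X * X = -1) (hA : A * X = X * A)
    (hB : B * X = X * B) : A * B = B * A := by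
  have hd := det_eq X
  have e1 : ent (X * X) 0 0 = -1 := by rw [hX]; rfl
  have cm : ∀ {C : SL2 F}, C * X = X * C → ent C 0 1 * ent X 1 0 = ent X 0 1 * ent C 1 0 ∧
      ent X 0 1 * (ent C 0 0 - ent C 1 1) = ent C 0 1 * (ent X 0 0 - ent X 1 1) ∧
      ent C 1 0 * (ent X 0 0 - ent X 1 1) = ent X 1 0 * (ent C 0 0 - ent C 1 1) := by
    intro C hC
    have h00 := congrArg (fun Y => ent Y 0 0) hC
    have h01 := congrArg (fun Y => ent Y 0 1) hC
    have h10 := congrArg (fun Y => ent Y 1 0) hC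
    simp only [ent_mul] at h00 h01 h10
    refine ⟨?_, ?_, ?_⟩
    · linear_combination h00
    · linear_combination h01
    · linear_combination h10
  rw [ent_mul] at e1
  have hn : ent X 0 0 - ent X 1 1 ≠ 0 ∨ ent X 0 1 ≠ 0 ∨ ent X 1 0 ≠ 0 := by
    by_contra hc
    push Not at hc
    obtain ⟨h3, h4, h5⟩ := hc
    apply h2
    have h6 : ent X 1 1 = ent X 0 0 := (sub_eq_zero.1 h3).symm
    rw [h6, h4, h5] at hd
    rw [h4, h5] at e1
    linear_combination e1 - hd
  obtain ⟨a1, a2, a3⟩ := cm hA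
  obtain ⟨b1, b2, b3⟩ := cm hB
  obtain ⟨c1, c2, c3⟩ := par a1 a2 a3 b1 b2 b3 hn
  refine ext_ent ?_ ?_ ?_ ?_ <;> rw [ent_mul, ent_mul]
  · linear_combination c1
  · linear_combination c2
  · linear_combination c3
  · linear_combination -c1

end Mat

section Sl

variable {F : Type*} [Field F] [Fintype F]

/-- a homomorphism `SL(2,E) → Aut(SL(2,F))`, `|E| > 3`, fixing an element of order 4 is trivial -/
theorem comm_sl {E : Type*} [Field E] [Fintype E] (hE : 3 < Fintype.card E) (hF : Odd (Fintype.card F))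
    (h2 : (2 : F) ≠ 0) (ψ : SL2 E →* MulAut (SL2 F)) {X : SL2 F} (hX : X * X = -1) (hfix : ∀ m, ψ m X = X) :
    ∀ m, ψ m = 1 := by
  have hp : ⁅ψ.range, ψ.range⁆ = ψ.range := by
    rw [MonoidHom.range_eq_map, ← map_commutator, ← commutator_def,
      Cfsg.Agent.TwoFusion.SLTwoFacts.commutator_eq_top hE]
  have hin : ∀ α ∈ ψ.range, ∃ s : SL2 F, α = MulAut.conj s ∧ s * X = X * s := by
    intro α hα
    have h1 : α ∈ commutator (MulAut (SL2 F)) := by
      rw [commutator_def]
      rw [← hp] at hα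
      exact commutator_mono le_top le_top hα
    obtain ⟨s, hs⟩ := Cfsg.Agent.Cit.AutFacts.sl_commutator_inner hF h1
    obtain ⟨m, hm⟩ := hα
    refine ⟨s, hs, ?_⟩
    have h3 := hfix m
    rw [hm, hs, MulAut.conj_apply, mul_inv_eq_iff_eq_mul] at h3
    exact h3
  have hbot : ψ.range = ⊥ := by
    rw [← hp, eq_bot_iff, commutator_le]
    intro a ha b hb
    obtain ⟨s, rfl, hs⟩ := hin a ha
    obtain ⟨s', rfl, hs'⟩ := hin b hb
    rw [mem_bot, commutatorElement_def, ← map_inv, ← map_inv, ← map_mul, ← map_mul, ← map_mul,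
      comm_of_nonscalar h2 hX hs hs']
    have : s' * s * s⁻¹ * s'⁻¹ = 1 := by group
    rw [this, map_one]
  intro m
  have h1 : ψ m ∈ ψ.range := ⟨m, rfl⟩
  rw [hbot] at h1
  exact h1

end Sl

section Three

open Cfsg.Agent.Cit.SolvTwo (X zX iX)

set_option maxRecDepth 100000 in
theorem X_cent : ∀ x w : X, x * x = zX → w * x = x * w → w = 1 ∨ w = x ∨ w = zX ∨ w = zX * x := by
  decide +kernel

set_option maxRecDepth 100000 in
theorem X_inv : ∀ x y : X, x * x = zX → y * y = zX → y * x = x * y ∨ y * x = zX * x * y := by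
  decide +kernel

set_option maxRecDepth 100000 in
theorem X_zc : ∀ x : X, x * zX = zX * x := by
  decide +kernel

variable {G : Type*} [Group G]

/-- an element of odd order normalising `K ≅ SL(2,3)` and centralising an element of order 4 centralises `K` -/
theorem comm_three {K : Subgroup G} (e : K ≃* X) {n x : G} (hn : n ∈ normalizer (K : Set G)) (ho : Odd (orderOf n))
    (hx : x ∈ K) (hxx : x * x = ((e.symm zX : K) : G)) (hnx : n * x = x * n) : ∀ y ∈ K, n * y = y * n := by
  have h := SolvTwo.T3.of_equiv e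
  have hm : ∀ a b : K, e a * e b = e (a * b) := fun a b => (map_mul e a b).symm
  have hzc : ∀ y ∈ K, y * ((e.symm zX : K) : G) = ((e.symm zX : K) : G) * y := by
    intro y hy
    have h1 : (⟨y, hy⟩ : K) * e.symm zX = e.symm zX * ⟨y, hy⟩ := by
      apply e.injective
      rw [map_mul, map_mul, e.apply_symm_apply]
      exact X_zc _
    exact congrArg Subtype.val h1
  refine h.comm hzc hn ?_
  intro y hy hyy
  have hnz : n * ((e.symm zX : K) : G) = ((e.symm zX : K) : G) * n := by
    rw [← hxx, ← mul_assoc, hnx, mul_assoc, hnx, mul_assoc]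
  set z : G := ((e.symm zX : K) : G) with hz
  have hy' : n * y * n⁻¹ ∈ K := (mem_normalizer_iff.1 hn y).1 hy
  have hyy' : (n * y * n⁻¹) * (n * y * n⁻¹) = z := by
    calc (n * y * n⁻¹) * (n * y * n⁻¹) = n * (y * y) * n⁻¹ := by group
      _ = z := by rw [hyy, hnz, mul_inv_cancel_right]
  have hnx' : n * x * n⁻¹ = x := by rw [hnx, mul_inv_cancel_right]
  have toX : ∀ {a : G} (ha : a ∈ K), a * a = z → e ⟨a, ha⟩ * e ⟨a, ha⟩ = zX := by
    intro a ha haa
    rw [hm]
    have : (⟨a, ha⟩ : K) * ⟨a, ha⟩ = e.symm zX := Subtype.ext haa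
    rw [this, e.apply_symm_apply]
  -- `w = y⁻¹ y^n` commutes with `x`
  have hw : (y⁻¹ * (n * y * n⁻¹)) * x = x * (y⁻¹ * (n * y * n⁻¹)) := by
    have h1 := X_inv _ _ (toX hx hxx) (toX hy hyy)
    have hzx : z * x = x * z := (hzc x hx).symm
    rcases h1 with h1 | h1
    · have h2 : y * x = x * y := by
        rw [hm, hm] at h1
        exact congrArg Subtype.val (e.injective h1)
      have h3 : (n * y * n⁻¹) * x = x * (n * y * n⁻¹) := by
        calc (n * y * n⁻¹) * x = (n * y * n⁻¹) * (n * x * n⁻¹) := by rw [hnx']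
          _ = n * (y * x) * n⁻¹ := by group
          _ = n * (x * y) * n⁻¹ := by rw [h2]
          _ = (n * x * n⁻¹) * (n * y * n⁻¹) := by group
          _ = x * (n * y * n⁻¹) := by rw [hnx']
      rw [mul_assoc, h3]
      calc y⁻¹ * (x * (n * y * n⁻¹)) = y⁻¹ * (x * y) * y⁻¹ * (n * y * n⁻¹) := by group
        _ = y⁻¹ * (y * x) * y⁻¹ * (n * y * n⁻¹) := by rw [h2]
        _ = x * (y⁻¹ * (n * y * n⁻¹)) := by group
    · have h2 : y * x = z * x * y := by
        have hzX : e (e.symm zX) = zX := e.apply_symm_apply _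
        rw [← hzX, hm, hm, hm] at h1
        exact congrArg Subtype.val (e.injective h1)
      have h3 : (n * y * n⁻¹) * x = z * x * (n * y * n⁻¹) := by
        calc (n * y * n⁻¹) * x = (n * y * n⁻¹) * (n * x * n⁻¹) := by rw [hnx']
          _ = n * (y * x) * n⁻¹ := by group
          _ = n * (z * x * y) * n⁻¹ := by rw [h2]
          _ = (n * z * n⁻¹) * (n * x * n⁻¹) * (n * y * n⁻¹) := by group
          _ = z * x * (n * y * n⁻¹) := by rw [hnx', hnz, mul_inv_cancel_right]
      have h4 : y⁻¹ * (z * x) = x * y⁻¹ := by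
        rw [inv_mul_eq_iff_eq_mul, ← mul_assoc, h2]; group
      rw [mul_assoc, h3]
      calc y⁻¹ * (z * x * (n * y * n⁻¹)) = (y⁻¹ * (z * x)) * (n * y * n⁻¹) := by group
        _ = x * (y⁻¹ * (n * y * n⁻¹)) := by rw [h4, mul_assoc]
  set w : G := y⁻¹ * (n * y * n⁻¹) with hwdef
  have hwK : w ∈ K := K.mul_mem (K.inv_mem hy) hy'
  have hcs : w = 1 ∨ w = x ∨ w = z ∨ w = z * x := by
    have h1 := X_cent (e ⟨x, hx⟩) (e ⟨w, hwK⟩) (toX hx hxx) (by
      rw [hm, hm]
      congr 1
      exact Subtype.ext hw)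
    have hzX : e (e.symm zX) = zX := e.apply_symm_apply _
    rcases h1 with h1 | h1 | h1 | h1
    · left
      have h2 : (⟨w, hwK⟩ : K) = 1 := e.injective (by rw [h1, map_one])
      exact congrArg Subtype.val h2
    · right; left
      exact congrArg Subtype.val (e.injective h1)
    · right; right; left
      rw [← hzX] at h1
      exact congrArg Subtype.val (e.injective h1)
    · right; right; right
      rw [← hzX, hm] at h1
      exact congrArg Subtype.val (e.injective h1)
  have hzz : z * z = 1 := h.z_sq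
  have hw4 : w ^ 4 = 1 := by
    have hx4 : x ^ 4 = 1 := by
      calc x ^ 4 = (x * x) * (x * x) := by simp only [pow_succ, pow_zero, one_mul, mul_assoc]
        _ = 1 := by rw [hxx, hzz]
    rcases hcs with h1 | h1 | h1 | h1 <;> rw [h1]
    · rw [one_pow]
    · exact hx4
    · calc z ^ 4 = (z * z) * (z * z) := by simp only [pow_succ, pow_zero, one_mul, mul_assoc]
        _ = 1 := by rw [hzz, one_mul]
    · have : Commute z x := (hzc x hx).symm
      rw [this.mul_pow, hx4, mul_one]
      calc z ^ 4 = (z * z) * (z * z) := by simp only [pow_succ, pow_zero, one_mul, mul_assoc]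
        _ = 1 := by rw [hzz, one_mul]
  have hnw : Commute n w := by
    have h1 : Commute n x := hnx
    have h2 : Commute n z := hnz
    rcases hcs with h3 | h3 | h3 | h3 <;> rw [h3]
    · exact Commute.one_right n
    · exact h1
    · exact h2
    · exact h2.mul_right h1
  have hny : n * y = y * w * n := by rw [hwdef]; group
  have hk : ∀ k : ℕ, n ^ k * y = y * w ^ k * n ^ k := by
    intro k
    induction k with
    | zero => simp
    | succ k ih =>
      have h1 : n * w ^ k = w ^ k * n := (hnw.pow_right k).eq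
      calc n ^ (k + 1) * y = n * (n ^ k * y) := by rw [pow_succ']; group
        _ = (n * y) * w ^ k * n ^ k := by rw [ih]; group
        _ = y * w * (n * w ^ k) * n ^ k := by rw [hny]; group
        _ = y * (w * w ^ k) * (n * n ^ k) := by rw [h1]; group
        _ = y * w ^ (k + 1) * n ^ (k + 1) := by rw [← pow_succ', ← pow_succ']
  have h4 : Commute (n ^ 4) y := by
    have := hk 4
    rw [hw4, mul_one] at this
    exact this
  obtain ⟨m, hm'⟩ := exists_pow_eq_self_of_coprime (x := n) (n := 4) (by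
    have : Nat.Coprime 2 (orderOf n) := (Nat.coprime_two_left).2 ho
    exact Nat.Coprime.pow_left 2 this)
  have h5 := h4.pow_left m
  rw [hm'] at h5
  exact h5.eq

end Three

section Act

variable {G : Type*} [Group G]

/-- closure -/
theorem all_of_odd {M P : Subgroup G} (hT : TyTwo M) (φ : M →* G) (h : ∀ k : M, Odd (orderOf k) → φ k ∈ P) :
    ∀ k, φ k ∈ P := by
  intro k
  have h1 : M ≤ (P.comap φ).map M.subtype := by
    refine hT.trans ((closure_le _).2 ?_)
    rintro c ⟨hc, ho⟩
    exact ⟨⟨c, hc⟩, h ⟨c, hc⟩ (by rwa [Subgroup.orderOf_mk]), rfl⟩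
  obtain ⟨k', hk', he⟩ := h1 k.2
  have : k' = k := Subtype.ext he
  rw [← this]
  exact hk'

/-- elements of odd order lie in the subgroup generated by their square -/
theorem mem_of_sq_mem {P : Subgroup G} {n : G} (ho : Odd (orderOf n)) (h : n * n ∈ P) : n ∈ P := by
  obtain ⟨m, hm⟩ := exists_pow_eq_self_of_coprime (x := n) (n := 2) ((Nat.coprime_two_left).2 ho)
  rw [← hm, pow_two]
  exact P.pow_mem h m

variable [Finite G] {F : Type*} [Field F] [Fintype F]

/-- `ψ` as a map into `Aut(K)` -/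
theorem trivial_of_hom {E : Type*} [Field E] [Fintype E] (hE : 3 < Fintype.card E) (hF : Odd (Fintype.card F))
    (h2 : (2 : F) ≠ 0) {K M : Subgroup G} (eK : SL2 F ≃* K) (eM : SL2 E ≃* M) (φ : M →* G)
    (hφ : ∀ k, φ k ∈ normalizer (K : Set G)) {x : G} (hx : x ∈ K) (hxx : x * x ≠ 1) (hx4 : (x * x) * (x * x) = 1)
    (hfix : ∀ k, φ k * x = x * φ k) : ∀ k, ∀ b ∈ K, φ k * b = b * φ k := by
  let X : SL2 F := eK.symm ⟨x, hx⟩
  have hX : X * X = -1 := by
    have h1 : (X * X) * (X * X) = 1 := by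
      change (eK.symm _ * eK.symm _) * (eK.symm _ * eK.symm _) = 1
      rw [← map_mul, ← map_mul]
      have : ((⟨x, hx⟩ : K) * ⟨x, hx⟩) * (⟨x, hx⟩ * ⟨x, hx⟩) = 1 := Subtype.ext hx4
      rw [this, map_one]
    rcases AutFacts.sl_sq hF h1 with h3 | h3
    · exfalso
      apply hxx
      have h4 : eK.symm (⟨x, hx⟩ * ⟨x, hx⟩) = eK.symm 1 := by rw [map_mul, map_one]; exact h3
      exact congrArg Subtype.val (eK.symm.injective h4)
    · exact h3
  let ν : M →* MulAut K := K.normalizerMonoidHom.comp (φ.codRestrict (normalizer (K : Set G)) hφ)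
  let ψ : SL2 E →* MulAut (SL2 F) := (MulAut.congr eK.symm).toMonoidHom.comp (ν.comp eM.toMonoidHom)
  have hψ : ∀ (m : SL2 E) (a : SL2 F), eK (ψ m a) = ν (eM m) (eK a) := by
    intro m a
    change eK (eK.symm (ν (eM m) (eK a))) = _
    rw [eK.apply_symm_apply]
  have hν : ∀ (k : M) (b : K), ((ν k b : K) : G) = φ k * b * (φ k)⁻¹ := fun k b => rfl
  have h1 := comm_sl hE hF h2 ψ hX (by
    intro m
    apply eK.injective
    rw [hψ]
    apply Subtype.ext
    rw [hν]
    change φ (eM m) * ((eK (eK.symm ⟨x, hx⟩) : K) : G) * (φ (eM m))⁻¹ = ((eK (eK.symm ⟨x, hx⟩) : K) : G)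
    rw [eK.apply_symm_apply]
    change φ (eM m) * x * (φ (eM m))⁻¹ = x
    rw [hfix, mul_inv_cancel_right])
  intro k b hb
  have h3 := hψ (eM.symm k) (eK.symm ⟨b, hb⟩)
  rw [h1, MulAut.one_apply, eK.apply_symm_apply, eM.apply_symm_apply] at h3
  have h4 := congrArg Subtype.val h3
  rw [hν] at h4
  change b = φ k * b * (φ k)⁻¹ at h4
  exact (mul_inv_eq_iff_eq_mul.1 h4.symm)

end Act


section Main

variable {G : Type*} [Group G] {Om : Set (Subgroup G)}

/-- `k ↦ k k^z` -/
def phi {M : Subgroup G} {z : G} (hc : ∀ a ∈ M, ∀ b ∈ M, a * (z * b * z⁻¹) = z * b * z⁻¹ * a) : M →* G where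
  toFun k := k * (z * k * z⁻¹)
  map_one' := by simp
  map_mul' a b := by
    have h1 := hc b b.2 a a.2
    change (a : G) * b * (z * (a * b) * z⁻¹) = a * (z * a * z⁻¹) * (b * (z * b * z⁻¹))
    calc (a : G) * b * (z * (a * b) * z⁻¹) = a * (b * (z * a * z⁻¹)) * (z * b * z⁻¹) := by group
      _ = a * (z * a * z⁻¹ * b) * (z * b * z⁻¹) := by rw [h1]
      _ = _ := by group

theorem phi_apply {M : Subgroup G} {z : G} (hc : ∀ a ∈ M, ∀ b ∈ M, a * (z * b * z⁻¹) = z * b * z⁻¹ * a) (k : M) :
    phi hc k = (k : G) * (z * k * z⁻¹) := rfl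

/-- the third member -/
structure Thr (Om : Set (Subgroup G)) (K K' M : Subgroup G) (x y : G) : Prop where
  tt : TTp Om K K' x y
  hM : M ∈ Om
  t : ∀ k ∈ M, k * (x * y) = (x * y) * k
  ne : cj (zz K) M ≠ M
  zc : zz M * zz K = zz K * zz M

namespace Thr

variable [Finite G] {K K' M : Subgroup G} {x y : G} (h : TwoE Om) (hO : ∀ K ∈ Om, OO K = ⊥) (T : Thr Om K K' M x y)

include h hO T

theorem zzM : zz (cj (zz K) M) = zz M := by
  rw [h.hyp.zz_cj T.hM, ← T.zc, mul_inv_cancel_right]

theorem comm' : ∀ a ∈ M, ∀ b ∈ M, a * (zz K * b * (zz K)⁻¹) = zz K * b * (zz K)⁻¹ * a := by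
  intro a ha b hb
  exact GlueB.comm_mem h.hyp hO T.hM (h.hyp.conj M T.hM _) T.ne.symm (zzM h hO T) a ha _ (conj_mem_cj hb)

theorem commK : ∀ a ∈ K, ∀ b ∈ K', a * b = b * a :=
  GlueB.comm_mem h.hyp hO T.tt.hK T.tt.hK' T.tt.ne T.tt.hz

/-- `k k^z` commutes with `z` -/
theorem phi_z {k : G} (hk : k ∈ M) :
    k * (zz K * k * (zz K)⁻¹) * zz K = zz K * (k * (zz K * k * (zz K)⁻¹)) := by
  have hzz := h.hyp.zz_mul T.tt.hK
  have hi : (zz K)⁻¹ = zz K := inv_eq_of_mul_eq_one_right hzz
  have h1 := comm' h hO T k hk k hk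
  rw [hi] at h1 ⊢
  calc k * (zz K * k * zz K) * zz K = (zz K * k * zz K) * k * zz K := by rw [h1]
    _ = zz K * (k * (zz K * k * zz K)) := by group

/-- `k k^z` commutes with `t` -/
theorem phi_t {k : G} (hk : k ∈ M) :
    k * (zz K * k * (zz K)⁻¹) * (x * y) = (x * y) * (k * (zz K * k * (zz K)⁻¹)) := by
  have h1 : Commute k (x * y) := T.t k hk
  have h2 : Commute (zz K) (x * y) := by
    have hx : Commute (zz K) x := by
      rw [← T.tt.sqx h.hyp]; exact ((Commute.refl x).mul_left (Commute.refl x))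
    have hy : Commute (zz K) y := by
      rw [← T.tt.sqy h.hyp]; exact ((Commute.refl y).mul_left (Commute.refl y))
    exact hx.mul_right hy
  exact (h1.mul_left ((h2.mul_left h1).mul_left h2.inv_left)).eq

omit hO in
/-- an element of odd order commuting with `z` normalises `K` -/
theorem mem_norm {n : G} (ho : Odd (orderOf n)) (hz : n * zz K = zz K * n) : n ∈ normalizer (K : Set G) := by
  apply mem_of_sq_mem ho
  rw [mem_normalizer_iff_cj, cj_mul]
  rcases h.cj_or T.tt.hK T.tt.hK' T.tt.ne T.tt.hz hz with ⟨h1, -⟩ | ⟨h1, h2⟩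
  · rw [h1, h1]
  · rw [h1, h2]

/-- `K ∩ K' = ⟨z⟩` -/
theorem inter {F : Type*} [Field F] [Fintype F] (hF : Odd (Fintype.card F)) (eK : SL2 F ≃* K) {a : G}
    (ha : a ∈ K) (ha' : a ∈ K') : a = 1 ∨ a = zz K := by
  have h1 : ∀ s : SL2 F, eK.symm ⟨a, ha⟩ * s = s * eK.symm ⟨a, ha⟩ := by
    intro s
    apply eK.injective
    rw [map_mul, map_mul, eK.apply_symm_apply]
    exact Subtype.ext (commK h hO T (eK s) (eK s).2 a ha').symm
  rcases AutFacts.sl_center hF h1 with h2 | h2
  · left
    have h3 : eK.symm ⟨a, ha⟩ = eK.symm 1 := by rw [map_one]; exact h2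
    exact congrArg Subtype.val (eK.symm.injective h3)
  · by_cases ha1 : a = 1
    · exact Or.inl ha1
    · right
      have h4 : a * a = 1 := by
        have h3 : eK.symm (⟨a, ha⟩ * ⟨a, ha⟩) = eK.symm 1 := by
          rw [map_mul, h2, map_one]; simp
        exact congrArg Subtype.val (eK.symm.injective h3)
      exact h.hyp.uniq K T.tt.hK a ha (orderOf_eq_prime (by rw [pow_two, h4]) ha1)

variable {F : Type*} [Field F] [Fintype F]

/-- an element of odd order commuting with `z` and `t` commutes with `x` -/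
theorem fix_x (hF : Odd (Fintype.card F)) (eK : SL2 F ≃* K) {n : G} (ho : Odd (orderOf n))
    (hz : n * zz K = zz K * n) (ht : n * (x * y) = (x * y) * n) : n * x = x * n := by
  have hn := mem_norm h T ho hz
  have hn' : n ∈ normalizer (K' : Set G) := h.normalizer_le T.tt.hK T.tt.hK' T.tt.ne T.tt.hz hn
  have hxK : n * x * n⁻¹ ∈ K := (mem_normalizer_iff.1 hn x).1 T.tt.hx
  have hyK : n * y * n⁻¹ ∈ K' := (mem_normalizer_iff.1 hn' y).1 T.tt.hy
  have h1 : (n * x * n⁻¹) * (n * y * n⁻¹) = x * y := by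
    calc (n * x * n⁻¹) * (n * y * n⁻¹) = n * (x * y) * n⁻¹ := by group
      _ = x * y := by rw [ht, mul_inv_cancel_right]
  have h2 : x⁻¹ * (n * x * n⁻¹) = y * (n * y * n⁻¹)⁻¹ := by
    rw [inv_mul_eq_iff_eq_mul, ← mul_assoc, ← h1, mul_inv_cancel_right]
  have h3 := inter h hO T hF eK (K.mul_mem (K.inv_mem T.tt.hx) hxK)
    (by rw [h2]; exact K'.mul_mem T.tt.hy (K'.inv_mem hyK))
  have h4 : n * x * n⁻¹ = x ∨ n * x * n⁻¹ = x * zz K := by
    rcases h3 with h3 | h3
    · left; rw [inv_mul_eq_one] at h3; exact h3.symm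
    · right; rw [inv_mul_eq_iff_eq_mul] at h3; exact h3
  have h5 : (n * n) * x = x * (n * n) := by
    rcases h4 with h4 | h4
    · rw [mul_inv_eq_iff_eq_mul] at h4
      rw [mul_assoc, h4, ← mul_assoc, h4, mul_assoc]
    · rw [mul_inv_eq_iff_eq_mul] at h4
      have hzz := h.hyp.zz_mul T.tt.hK
      calc (n * n) * x = n * (n * x) := by group
        _ = n * (x * zz K * n) := by rw [h4]
        _ = (n * x) * (zz K * n) := by group
        _ = x * zz K * n * (zz K * n) := by rw [h4]
        _ = x * zz K * (n * zz K) * n := by group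
        _ = x * (zz K * zz K) * n * n := by rw [hz]; group
        _ = x * (n * n) := by rw [hzz]; group
  have h6 : n ∈ centralizer {x} := mem_of_sq_mem ho (mem_centralizer_singleton_iff.2 h5)
  exact mem_centralizer_singleton_iff.1 h6

/-- **LEMMA S**: `k k^z` centralises `K` -/
theorem comm (hty : TyTwo M) (hF : Odd (Fintype.card F)) (h2 : (2 : F) ≠ 0) (eK : SL2 F ≃* K)
    (eM : SL2 F ≃* M) : ∀ k ∈ M, ∀ b ∈ K, k * (zz K * k * (zz K)⁻¹) * b = b * (k * (zz K * k * (zz K)⁻¹)) := by
  set φ := phi (comm' h hO T) with hφ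
  have hodd : ∀ k : M, Odd (orderOf k) → Odd (orderOf (φ k)) := fun k hk =>
    Odd.of_dvd_nat hk (orderOf_map_dvd φ k)
  have hz : ∀ k : M, φ k * zz K = zz K * φ k := fun k => phi_z h hO T k.2
  have ht : ∀ k : M, φ k * (x * y) = (x * y) * φ k := fun k => phi_t h hO T k.2
  have hn : ∀ k : M, φ k ∈ normalizer (K : Set G) :=
    all_of_odd hty φ fun k hk => mem_norm h T (hodd k hk) (hz k)
  have hx : ∀ k : M, φ k * x = x * φ k := by
    intro k
    have h1 : φ k ∈ centralizer {x} := all_of_odd hty φ (fun k hk =>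
      mem_centralizer_singleton_iff.2 (fix_x h hO T hF eK (hodd k hk) (hz k) (ht k))) k
    exact mem_centralizer_singleton_iff.1 h1
  have hxx := T.tt.sqx h.hyp
  have hzz := h.hyp.zz_mul T.tt.hK
  have hz1 : zz K ≠ 1 := by
    have h3 := h.hyp.orderOf_zz T.tt.hK
    intro h4
    rw [h4, orderOf_one] at h3
    omega
  have key : ∀ k : M, ∀ b ∈ K, φ k * b = b * φ k := by
    by_cases hc : 3 < Fintype.card F
    · exact trivial_of_hom hc hF h2 eK eM φ hn T.tt.hx (by rw [hxx]; exact hz1) (by rw [hxx]; exact hzz) hx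
    · have hc3 : Fintype.card F = 3 := by
        have h3 : 1 < Fintype.card F := Fintype.one_lt_card
        obtain ⟨m, hm⟩ := hF
        omega
      have r : ZMod 3 ≃+* F := ZMod.ringEquivOfPrime F Nat.prime_three hc3
      let e0 : SL2 (ZMod 3) ≃* SL2 F := MonoidHom.toMulEquiv
        (Matrix.SpecialLinearGroup.map (r : ZMod 3 →+* F)) (Matrix.SpecialLinearGroup.map (r.symm : F →+* ZMod 3))
        (by ext x i j; simp) (by ext x i j; simp)
      let e : K ≃* SolvTwo.X := (e0.trans eK).symm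
      have hzz' : ((e.symm SolvTwo.zX : K) : G) = zz K := by
        have h3 := (SolvTwo.T3.of_equiv e).z_sq
        have h4 := (SolvTwo.T3.of_equiv e).z_ne
        exact h.hyp.uniq K T.tt.hK _ (e.symm SolvTwo.zX).2 (orderOf_eq_prime (by rw [pow_two, h3]) h4)
      intro k b hb
      have h5 : φ k ∈ centralizer (K : Set G) := by
        refine all_of_odd hty φ (fun k hk => ?_) k
        rw [mem_centralizer_iff]
        intro b hb
        exact (comm_three e (hn k) (hodd k hk) T.tt.hx (by rw [hxx, hzz']) (hx k) b hb).symm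
      exact (mem_centralizer_iff.1 h5 b hb).symm
  intro k hk b hb
  exact key ⟨k, hk⟩ b hb

/-! ### `k k^z` and the members commuting with `t` -/

omit T hO in
theorem ttp_of_comm {K K' : Subgroup G} {x y : G} (hK : K ∈ Om) (hK' : K' ∈ Om) (hne : K ≠ K') (hz : zz K' = zz K)
    (hx : x ∈ K) (hy : y ∈ K') (ox : orderOf x = 4) (oy : orderOf y = 4) (hc : x * y = y * x) :
    TTp Om K K' x y := by
  have p4 : ∀ {a : G}, orderOf a = 4 → IsPGroup 2 (zpowers a) := fun ha =>
    IsPGroup.of_card (n := 2) (by rw [Nat.card_zpowers, ha]; norm_num)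
  refine ⟨hK, hK', hne, hz, hx, hy, ox, oy, zpowers x ⊔ zpowers y, ?_, mem_sup_left (mem_zpowers x),
    mem_sup_right (mem_zpowers y)⟩
  refine OneBasic.isPGroup_sup_of_normalizes (p4 ox) (p4 oy) ?_
  rw [zpowers_le, mem_normalizer_iff_cj, cj, MonoidHom.map_zpowers]
  congr 1
  exact (MulAut.conj_apply x y).trans (by rw [hc, mul_inv_cancel_right])

/-- **`k k^z` does not commute with a member commuting with `t`** -/
theorem false_of (hA : ¬ CoreTwoEq.CaseA Om) (hF : Odd (Fintype.card F)) (eK : SL2 F ≃* K) {k : G} (hk : k ∈ M)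
    (ok : orderOf k = 4) (hE : ∀ a ∈ K, k * (zz K * k * (zz K)⁻¹) * a = a * (k * (zz K * k * (zz K)⁻¹)))
    {J : Subgroup G} (hJ : J ∈ Om) (hJt : ∀ j ∈ J, (x * y) * j = j * (x * y))
    (hJb : ∀ j ∈ J, k * (zz K * k * (zz K)⁻¹) * j = j * (k * (zz K * k * (zz K)⁻¹))) : False := by
  have hi : (zz K)⁻¹ = zz K := inv_eq_of_mul_eq_one_right (h.hyp.zz_mul T.tt.hK)
  have hzz := h.hyp.zz_mul T.tt.hK
  have hss := h.hyp.zz_mul T.hM
  have hxx := T.tt.sqx h.hyp
  have hyy := T.tt.sqy h.hyp
  have hkk : k * k = zz M := h.hyp.sq_eq_zz T.hM hk ok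
  set z := zz K with hz
  set s := zz M with hs
  have hzs : s * z = z * s := T.zc
  have hkz := comm' h hO T k hk k hk
  set k' := z * k * z⁻¹ with hk'
  set b := k * k' with hb
  have hk'M : k' ∈ cj z M := conj_mem_cj hk
  have ok' : orderOf k' = 4 := by rw [← ok]; exact (MulAut.conj z).orderOf_eq k
  have hkk' : k' * k' = s := by
    calc k' * k' = z * (k * k) * z⁻¹ := by rw [hk']; group
      _ = s := by rw [hkk, ← hzs, mul_inv_cancel_right]
  have cks : Commute k s := by rw [← hkk]; exact (Commute.refl k).mul_right (Commute.refl k)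
  have hbk : Commute b k := (Commute.refl k).mul_left hkz.symm
  have hbx : Commute b x := hE x T.tt.hx
  have hbz : Commute b z := hE z (h.hyp.zz_mem T.tt.hK)
  have hk'i : k'⁻¹ = k' * s := by
    rw [inv_eq_iff_mul_eq_one, ← mul_assoc, hkk', hss]
  -- `k z k⁻¹ = b s z`
  have e1 : k * z * k⁻¹ = b * s * z := by
    calc k * z * k⁻¹ = k * k'⁻¹ * z := by rw [hk']; group
      _ = b * s * z := by rw [hk'i, hb]; group
  have pM : TTp Om M (cj z M) k k' := ttp_of_comm h T.hM (h.hyp.conj M T.hM z) T.ne.symm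
    (zzM h hO T) hk hk'M ok ok' hkz
  have hst : Commute s (x * y) := T.t s (h.hyp.zz_mem T.hM)
  have hkt : Commute k (x * y) := T.t k hk
  have hxy := T.tt.comm h.hyp
  have hzx : Commute z x := by
    rw [← hxx]; exact (Commute.refl x).mul_left (Commute.refl x)
  have hzy : Commute z y := by
    rw [← hyy]; exact (Commute.refl y).mul_left (Commute.refl y)
  have hsi : s⁻¹ = s := inv_eq_of_mul_eq_one_right hss
  have hbs : b * s = s * b := ((cks.symm.mul_right (show Commute s k' by
    rw [← hkk']; exact (Commute.refl k').mul_left (Commute.refl k'))).eq).symm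
  rcases h.cj_or T.tt.hK T.tt.hK' T.tt.ne T.tt.hz hzs with ⟨h1, h2⟩ | ⟨h1, h2⟩
  · -- `s` normalises `K` and `K'`
    have hxs : s * x * s⁻¹ ∈ K := by
      have := conj_mem_cj (g := s) T.tt.hx
      rwa [h1] at this
    have hys : s * y * s⁻¹ ∈ K' := by
      have := conj_mem_cj (g := s) T.tt.hy
      rwa [h2] at this
    have h3 : (s * x * s⁻¹) * (s * y * s⁻¹) = x * y := by
      calc (s * x * s⁻¹) * (s * y * s⁻¹) = s * (x * y) * s⁻¹ := by group
        _ = x * y := by rw [hst.eq, mul_inv_cancel_right]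
    have h4 : x⁻¹ * (s * x * s⁻¹) = y * (s * y * s⁻¹)⁻¹ := by
      rw [inv_mul_eq_iff_eq_mul, ← mul_assoc, ← h3, mul_inv_cancel_right]
    rcases inter h hO T hF eK (K.mul_mem (K.inv_mem T.tt.hx) hxs)
      (by rw [h4]; exact K'.mul_mem T.tt.hy (K'.inv_mem hys)) with h5 | h5
    · -- `s` commutes with `x`
      rw [inv_mul_eq_one, eq_mul_inv_iff_mul_eq] at h5
      have h6 : x ∈ normalizer (M : Set G) := h.hyp.h3 K T.tt.hK M T.hM x T.tt.hx
        (IsPGroup.of_card (n := 2) (by rw [Nat.card_zpowers, T.tt.ox]; norm_num)) (by rw [T.tt.ox]) h5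
      apply T.ne
      rw [← mem_normalizer_iff_cj, ← hz, ← hxx]
      exact mul_mem h6 h6
    · -- `s` inverts `x`
      rw [inv_mul_eq_iff_eq_mul] at h5
      change s * x * s⁻¹ = x * z at h5
      have h6 : x * s * x⁻¹ = z * s := by
        rw [mul_inv_eq_iff_eq_mul] at h5
        have h7 : x * s = z * s * x := by
          calc x * s = (x * z) * (z * s) := by rw [mul_assoc, ← mul_assoc z z s, hzz, one_mul]
            _ = (x * z) * (s * z) := by rw [hzs]
            _ = (x * z * s) * z := by group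
            _ = (s * x) * z := by rw [h5]
            _ = s * (x * z) := by group
            _ = s * (z * x) := by rw [hzx.eq]
            _ = z * s * x := by rw [← mul_assoc, hzs]
        rw [h7, mul_inv_cancel_right]
      have h8 : x * (b * s * z) * x⁻¹ = b * s := by
        calc x * (b * s * z) * x⁻¹ = (x * b * x⁻¹) * (x * s * x⁻¹) * (x * z * x⁻¹) := by group
          _ = b * (z * s) * z := by rw [h6, ← hbx.eq, ← hzx.eq, mul_inv_cancel_right, mul_inv_cancel_right]
          _ = b * s * (z * z) := by rw [← hzs]; group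
          _ = b * s := by rw [hzz, mul_one]
      apply hA
      have pM' : TTp Om (cj z M) M k' k⁻¹ := pM.symm.inv
      refine ⟨_, _, _, _, pM', cj (x * k) K, h.hyp.conj K T.tt.hK _, ?_⟩
      rw [h.hyp.zz_cj T.tt.hK]
      have h9 : k⁻¹ = k * s := by rw [inv_eq_iff_mul_eq_one, ← mul_assoc, hkk, hss]
      calc k' * k⁻¹ = (k' * k) * s := by rw [h9]; group
        _ = b * s := by rw [← hkz]
        _ = x * (k * z * k⁻¹) * x⁻¹ := by rw [e1, h8]
        _ = x * k * zz K * (x * k)⁻¹ := by rw [hz]; group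
  · -- `s` swaps `K` and `K'`
    have hx1 : s * x * s⁻¹ ∈ K' := by
      have := conj_mem_cj (g := s) T.tt.hx
      rwa [h1] at this
    have hy1 : s * y * s⁻¹ ∈ K := by
      have := conj_mem_cj (g := s) T.tt.hy
      rwa [h2] at this
    set x1 := s * x * s⁻¹ with hx1d
    have cxx1 : x * x1 = x1 * x := commK h hO T x T.tt.hx x1 hx1
    have h3 : x1 * (s * y * s⁻¹) = x * y := by
      calc x1 * (s * y * s⁻¹) = s * (x * y) * s⁻¹ := by rw [hx1d]; group
        _ = x * y := by rw [hst.eq, mul_inv_cancel_right]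
    have h3' : (s * y * s⁻¹) * x1 = x * y := by rw [commK h hO T _ hy1 _ hx1, h3]
    have h4 : x⁻¹ * (s * y * s⁻¹) = y * x1⁻¹ := by
      rw [inv_mul_eq_iff_eq_mul, ← mul_assoc, ← h3', mul_inv_cancel_right]
    have ox1 : orderOf x1 = 4 := by rw [← T.tt.ox]; exact (MulAut.conj s).orderOf_eq x
    have p1 : TTp Om K K' x x1 := ttp_of_comm h T.tt.hK T.tt.hK' T.tt.ne T.tt.hz T.tt.hx hx1 T.tt.ox ox1 cxx1
    have hx1x1 : x1 * x1 = z := p1.sqy h.hyp
    have hx1i : x1⁻¹ = x1 * z := by rw [inv_eq_iff_mul_eq_one, ← mul_assoc, hx1x1, hzz]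
    have hzx1 : Commute z x1 := by rw [← hx1x1]; exact (Commute.refl x1).mul_left (Commute.refl x1)
    -- `x s x⁻¹ = x x1 z s`
    have e2 : x * s * x⁻¹ = x * x1 * z * s := by
      calc x * s * x⁻¹ = x * x1⁻¹ * s := by rw [hx1d]; group
        _ = x * x1 * z * s := by rw [hx1i]; group
    have hs2 : s * (x * x1) * s⁻¹ = x * x1 := by
      calc s * (x * x1) * s⁻¹ = x1 * (s * x1 * s⁻¹) := by rw [hx1d]; group
        _ = x1 * ((s * s) * x * (s * s)⁻¹) := by rw [hx1d]; group
        _ = x * x1 := by rw [hss, one_mul, inv_one, mul_one, cxx1]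
    have hs3 : s * (x * x1) = (x * x1) * s := mul_inv_eq_iff_eq_mul.1 hs2
    rcases inter h hO T hF eK (K.mul_mem (K.inv_mem T.tt.hx) hy1)
      (by rw [h4]; exact K'.mul_mem T.tt.hy (K'.inv_mem hx1)) with h5 | h5
    · -- `y = x1`
      rw [h4, mul_inv_eq_one] at h5
      obtain ⟨Q, hQ, hxQ⟩ := OneBasic.exists_syl_ge (IsPGroup.of_card (n := 2) (by
        rw [Nat.card_zpowers, T.tt.ox]; norm_num) : IsPGroup 2 (zpowers x)) (zpowers_le.2 T.tt.hx)
      obtain ⟨c0, v0, n0, gq⟩ := h.hyp.exists_gq T.tt.hK hQ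
      obtain ⟨q, hqQ, -, hq⟩ := gq.exists_inverting (hxQ (mem_zpowers x)) T.tt.ox
      have hqK : q ∈ K := hQ.1 hqQ
      have hxi : x⁻¹ = x * z := by rw [inv_eq_iff_mul_eq_one, ← mul_assoc, hxx, hzz]
      have p3 := pM.cj h.hyp (q * k * x)
      have e3 : (q * k * x) * k * (q * k * x)⁻¹ * ((q * k * x) * k' * (q * k * x)⁻¹) = b := by
        calc (q * k * x) * k * (q * k * x)⁻¹ * ((q * k * x) * k' * (q * k * x)⁻¹)
            = q * (k * (x * b * x⁻¹) * k⁻¹) * q⁻¹ := by rw [hb]; group
          _ = b := by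
            rw [← hbx.eq, mul_inv_cancel_right, ← hbk.eq, mul_inv_cancel_right, ← hE q hqK, mul_inv_cancel_right]
      have hqz : q * z = z * q := (h.hyp.comm_zz T.tt.hK (le_normalizer hqK))
      have e4 : zz (cj (q * k * x) M) = x * y * b := by
        rw [h.hyp.zz_cj T.hM]
        calc (q * k * x) * s * (q * k * x)⁻¹ = q * (k * (x * s * x⁻¹) * k⁻¹) * q⁻¹ := by group
          _ = q * (k * (x * y * z * s) * k⁻¹) * q⁻¹ := by rw [e2, h5]
          _ = q * ((k * (x * y) * k⁻¹) * (k * z * k⁻¹) * (k * s * k⁻¹)) * q⁻¹ := by group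
          _ = q * ((x * y) * (b * s * z) * s) * q⁻¹ := by
            rw [hkt.eq, mul_inv_cancel_right, e1, cks.eq, mul_inv_cancel_right]
          _ = q * ((x * y) * b * (s * (z * s))) * q⁻¹ := by group
          _ = q * ((x * y) * b * z) * q⁻¹ := by rw [← hzs, ← mul_assoc s s z, hss, one_mul]
          _ = (q * x * q⁻¹) * (q * y * q⁻¹) * (q * b * q⁻¹) * (q * z * q⁻¹) := by group
          _ = x⁻¹ * y * b * z := by
            rw [hq, commK h hO T q hqK y T.tt.hy, mul_inv_cancel_right, ← hE q hqK, mul_inv_cancel_right, hqz,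
              mul_inv_cancel_right]
          _ = x * (z * y) * b * z := by rw [hxi]; group
          _ = x * y * (z * b) * z := by rw [hzy.eq]; group
          _ = x * y * b * (z * z) := by rw [← hbz.eq]; group
          _ = x * y * b := by rw [hzz, mul_one]
      obtain ⟨QJ, hQJ⟩ := Hyp.exists_syl J
      refine TwoWT.F0 h p3 hJ ?_ ?_
      · rw [e3]
        exact ⟨QJ, hQJ, fun j hj => hJb j (hQJ.1 hj)⟩
      · rw [e4]
        exact ⟨QJ, hQJ, fun j hj => by
          rw [mul_assoc, hJb j (hQJ.1 hj), ← mul_assoc, hJt j (hQJ.1 hj), mul_assoc]⟩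
    · -- `y = z x1`
      rw [h4, mul_inv_eq_iff_eq_mul] at h5
      change y = z * x1 at h5
      apply hA
      refine ⟨_, _, _, _, p1, cj (k⁻¹ * x * k) K, h.hyp.conj K T.tt.hK _, ?_⟩
      rw [h.hyp.zz_cj T.tt.hK]
      have h6 : x * x1 = z * (x * y) := by
        rw [h5]
        calc x * x1 = (z * z) * (x * x1) := by rw [hzz, one_mul]
          _ = z * (z * x) * x1 := by group
          _ = z * (x * z) * x1 := by rw [hzx.eq]
          _ = z * (x * (z * x1)) := by group
      have h7 : k * (x * x1) * k⁻¹ = b * s * (x * x1) := by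
        calc k * (x * x1) * k⁻¹ = (k * z * k⁻¹) * (k * (x * y) * k⁻¹) := by rw [h6]; group
          _ = b * s * z * (x * y) := by rw [e1, hkt.eq, mul_inv_cancel_right]
          _ = b * s * (x * x1) := by rw [h6]; group
      have h8 : x * (k * z * k⁻¹) * x⁻¹ = b * s * (x * x1) := by
        calc x * (k * z * k⁻¹) * x⁻¹ = x * (b * s * z) * x⁻¹ := by rw [e1]
          _ = (x * b * x⁻¹) * (x * s * x⁻¹) * (x * z * x⁻¹) := by group
          _ = b * (x * x1 * z * s) * z := by
            rw [e2, ← hbx.eq, ← hzx.eq, mul_inv_cancel_right, mul_inv_cancel_right]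
          _ = b * (x * x1) * (z * (s * z)) := by group
          _ = b * ((x * x1) * s) := by rw [hzs, ← mul_assoc z z s, hzz, one_mul, mul_assoc]
          _ = b * s * (x * x1) := by rw [← hs3]; group
      calc x * x1 = k⁻¹ * (k * (x * x1) * k⁻¹) * k := by group
        _ = k⁻¹ * (x * (k * z * k⁻¹) * x⁻¹) * k := by rw [h7, h8]
        _ = k⁻¹ * x * k * zz K * (k⁻¹ * x * k)⁻¹ := by rw [hz]; group

end Thr

end Main

end Cfsg.Agent.Cit.OmB3.XTwo
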