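import Cfsg.Agent.Cit.OmB3.GlueC
import Cfsg.Agent.Cit.OmB3.SupB
import Cfsg.Agent.Cit.OmB3.NoAA
import Cfsg.Agent.Cit.OmB3.XTwo

/-!
# Branch (B): the chart of type `B₃`

From the configuration `WD`, the pieces `D_v`, `D_a` with typed charts and one class of members, and (if
`|VV r| = q ^ 3` in `D_a`) a member `M` commuting with `x y` and moved by `zz K`: the chart of type `B₃` of the whole
group.
-/

set_option autoImplicit false
set_option linter.unusedSectionVars false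
set_option linter.unusedVariables false
set_option linter.dupNamespace false
set_option linter.style.haveILetI false

namespace Cfsg.Agent.Cit.OmB3.GlueD

open Subgroup Cfsg
open Cfsg.Agent.Cit.Parab Cfsg.Agent.Cit.LemmaUQ Cfsg.Agent.Cit.ParabSL2 Cfsg.Agent.Cit.FrameSign
  Cfsg.Agent.Cit.FrameOf Cfsg.Agent.Cit.CoreFrame Cfsg.Agent.Cit.TypeD4 Cfsg.Agent.Cit.SLSysOf
  Cfsg.Agent.Cit.LemmaATwo Cfsg.Agent.Cit.TypeD4Prov Cfsg.Agent.Cit.TwoTy
open CoxeterSystem Cfsg.Agent.ChevalleyStructure.CoxeterGeom Cfsg.Agent.Nodes.Chart Cfsg.Agent.Nodes.ChartLoc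
  Cfsg.Agent.Nodes.Comb Cfsg.Agent.Nodes.ClsNorm Cfsg.Agent.Nodes.Reps Cfsg.Agent.Tits.Roots
  Cfsg.Agent.Tits.Core Cfsg.Agent.Tits.RootComb Cfsg.Agent.Nodes.BNOf
open Cfsg.Agent.Cit.OmB3.Sup Cfsg.Agent.Cit.OmB3.Side Cfsg.Agent.Cit.OmB3.Form Cfsg.Agent.Cit.OmB3.Big
open Cfsg.Agent.Cit.OmB3.Form.Four (MG)
open Cfsg.Agent.Cit.OmB3.GlueC (LocT Out exists_fr)
open Cfsg.Agent.Cit.TwoFK (TwoEq)
open Cfsg.Agent.Cit.TwoWM (OneCls)

variable {G : Type*} [Group G] [Finite G] {Om : Set (Subgroup G)}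

section Le

variable {F : Type*} [Field F] [Finite F] {p : ℕ} {D : Subgroup G} {c : Chart Om p D} {S1 S2 : SLSys F G} {z : G}
  {r s : c.I → ℤ}

/-- the group of a chart lies in every subgroup which contains the two `SL₂`'s and the four groups `M` -/
theorem fr_le (H : ChartLe.Fr c S1 S2 z r s) (D4 : Four S1 S2 z) {W : Subgroup G} (h1 : S1.A ≤ W) (h1' : S1.A' ≤ W)
    (h2 : S2.A ≤ W) (h2' : S2.A' ≤ W) (m1 : MG S1 S2 z ≤ W) (m2 : MG S1.opp S2 z ≤ W) (m3 : MG S1 S2.opp z ≤ W)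
    (m4 : MG S1.opp S2.opp z ≤ W) : D ≤ W := by
  rw [← c.gen]
  refine RGD.Sup_le fun y hy => ?_
  by_cases e1 : y = r
  · rw [e1, ← H.a1]; exact h1
  by_cases e2 : y = -r
  · rw [e2, ← H.a1']; exact h1'
  by_cases e3 : y = s
  · rw [e3, ← H.a2]; exact h2
  by_cases e4 : y = -s
  · rw [e4, ← H.a2']; exact h2'
  obtain ⟨k1, k2⟩ := H.non y hy e1 e2 e3 e4
  intro x hx
  rcases lt_or_gt_of_ne k1 with k1 | k1 <;> rcases lt_or_gt_of_ne k2 with k2 | k2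
  · exact m4 (D4.opp1.opp2.mem.2 (H.opp1.opp2.mem_pp hy (by rw [form_neg_right]; omega)
      (by rw [form_neg_right]; omega) e2 hx))
  · exact m2 (D4.opp1.mem.2 (H.opp1.mem_pp hy (by rw [form_neg_right]; omega) k2 e2 hx))
  · exact m3 (D4.opp2.mem.2 (H.opp2.mem_pp hy k1 (by rw [form_neg_right]; omega) e1 hx))
  · exact m1 (D4.mem.2 (H.mem_pp hy k1 k2 e1 hx))

variable (D4 : Four S1 S2 z)

include D4

/-- an element commuting with `S₂`, `(+,+)` commutes with `(+,-)` -/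
theorem cent_w2 {b : G} (hb : b * S2.w = S2.w * b) (hM : ∀ x ∈ MG S1 S2 z, b * x = x * b) :
    ∀ x ∈ MG S1 S2.opp z, b * x = x * b := by
  intro x hx
  have h1 : ac S2.w⁻¹ x ∈ MG S1 S2 z := by
    rw [← D4.w2_mem, ac_ac_inv]; exact hx
  have h2 : Commute b (ac S2.w⁻¹ x) := hM _ h1
  have h3 : Commute b S2.w := hb
  have h4 : x = S2.w * (ac S2.w⁻¹ x) * S2.w⁻¹ := by
    unfold ac; group
  rw [h4]
  exact ((h3.mul_right h2).mul_right h3.inv_right).eq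

theorem mg_swap : MG S2 S1 z = MG S1 S2 z := by
  ext x
  rw [D4.swap.mem, D4.mem, MM_symm]

theorem mg_swap' : MG S2 S1.opp z = MG S1.opp S2 z := by
  ext x
  rw [D4.swap.opp2.mem, D4.opp1.mem, MM_symm]

theorem cent_w1 {b : G} (hb : b * S1.w = S1.w * b) (hM : ∀ x ∈ MG S1 S2 z, b * x = x * b) :
    ∀ x ∈ MG S1.opp S2 z, b * x = x * b := by
  rw [← mg_swap' D4]
  refine cent_w2 D4.swap hb ?_
  rw [mg_swap D4]
  exact hM

end Le

section Main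

variable {F : Type} [Field F] [Fintype F] {p na nv : ℕ} {K : Fin 2 → Subgroup G}
  {X : Fin 2 → SignType → Subgroup G} {a : G} {La Lv : Subgroup G} [CharP F p]
  (H : Prov Om F p na nv K X a La Lv)

include H

/-- an element which commutes with `K 0`, `K 1`, `(+,+)` commutes with `D_u` -/
theorem le_cent {m : ℕ} (hm : na + nv = 2 * m + 2) {b : G} (hb : ∀ i, ∀ k ∈ K i, b * k = k * b)
    (hM : ∀ x, x ∈ QF K X 0 1 → x ∈ QF K X 1 1 → b * x = x * b) {τ : Nodes.Chart.Ty} (hτ : τ = .A 3 ∨ τ = .C 2)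
    {u : G} {L : Subgroup G} {n : ℕ} (U : LocT Om p (Nat.card F) n K τ u L) : ∀ d ∈ L, b * d = d * b := by
  obtain ⟨e, I⟩ := H.inb hm
  obtain ⟨c, r, s, hty, hf, -, -, -, -⟩ := exists_fr H I hτ U
  have D4 : Four (ofEquiv (e 0)) (ofEquiv (e 1)) (zz (K 0)) := I.four
  have m1 : ∀ x ∈ MG (ofEquiv (e 0)) (ofEquiv (e 1)) (zz (K 0)), b * x = x * b := fun x hx => by
    obtain ⟨h1, h2⟩ := (GlueC.mem_MG H I).1 hx
    exact hM x h1 h2
  have m2 := cent_w1 D4 (hb 0 _ (w_mem (e 0))) m1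
  have m3 := cent_w2 D4 (hb 1 _ (w_mem (e 1))) m1
  have m4 := cent_w2 D4.opp1 (hb 1 _ (w_mem (e 1))) m2
  have toC : ∀ {A : Subgroup G}, (∀ x ∈ A, b * x = x * b) → A ≤ centralizer {b} := fun h x hx =>
    mem_centralizer_singleton_iff.2 (h x hx).symm
  have h1 : L ≤ centralizer {b} := by
    refine fr_le hf D4 (toC ?_) (toC ?_) (toC ?_) (toC ?_) (toC m1) (toC m2) (toC m3) (toC m4)
    · rintro _ ⟨t, rfl⟩; exact hb 0 _ (SLSysOf.xp_mem (e 0) t)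
    · rintro _ ⟨t, rfl⟩; exact hb 0 _ (SLSysOf.xm_mem (e 0) t)
    · rintro _ ⟨t, rfl⟩; exact hb 1 _ (SLSysOf.xp_mem (e 1) t)
    · rintro _ ⟨t, rfl⟩; exact hb 1 _ (SLSysOf.xm_mem (e 1) t)
  intro d hd
  exact (mem_centralizer_singleton_iff.1 (h1 hd)).symm

end Main

section Final

variable {K K' J Q Q' QJ Dv Da : Subgroup G} {x y b c : G}

/-- the member commutes with `t` -/
theorem comm_t_J (h : TwoE Om) (hty : ∀ K ∈ Om, IsType K) (hO : ∀ K ∈ Om, OO K = ⊥)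
    (w : WD Om K K' J Q Q' QJ x y b c) : ∀ j ∈ J, (x * y) * j = j * (x * y) := by
  intro j hj
  have h1 := TwoWM.comm_v_J h hty hO w j hj
  have h2 : j * zz J = zz J * j := h.hyp.comm_zz w.hJ (le_normalizer hj)
  have h3 := h.hyp.zz_mul w.hJ
  have h4 : Commute j (zz J * (zz J * (x * y))) := (show Commute j (zz J) from h2).mul_right h1
  rw [← mul_assoc, h3, one_mul] at h4
  exact h4.eq.symm

/-- **The third member gives the input of `out_three`.** -/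
theorem third (h : TwoEq Om) (hty : ∀ K ∈ Om, IsType K) (hO : ∀ K ∈ Om, OO K = ⊥)
    (hA : ¬ CoreTwoEq.CaseA Om) (w : WD Om K K' J Q Q' QJ x y b c) {M : Subgroup G}
    (T : XTwo.Thr Om K K' M x y) (Ov : OneCls Om (zz J * (x * y)) Dv) {F : Type} [Field F] [Fintype F] {p : ℕ}
    [CharP F p] [Fact p.Prime] {X : Fin 2 → SignType → Subgroup G} {τa τv : Nodes.Chart.Ty}
    (ha : τa = .A 3 ∨ τa = .C 2) (hv : τv = .A 3 ∨ τv = .C 2)
    (H : Prov Om F p 3 5 ![K, K'] X (zz K * (zz J * (x * y))) Da Dv)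
    (Ta : LocT Om p (Nat.card F) 3 ![K, K'] τa (zz K * (zz J * (x * y))) Da)
    (Tv : LocT Om p (Nat.card F) 5 ![K, K'] τv (zz K * (zz K * (zz J * (x * y)))) Dv) :
    Out Om F p 3 ![K, K'] Da Dv := by
  have hE : TwoE Om := h.twoE
  have h2 : (2 : F) ≠ 0 := by
    obtain ⟨e, I⟩ := H.inb (m := 3) (by norm_num)
    exact I.h2
  obtain ⟨eK, -, -⟩ := H.dat.sl 0
  obtain ⟨eK', -, -⟩ := H.dat.sl 1
  obtain ⟨g, hg⟩ := h.cls K w.tt.hK M T.hM
  obtain ⟨eM⟩ : Nonempty (Matrix.SpecialLinearGroup (Fin 2) F ≃* M) := by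
    refine ⟨eK.trans ((K.equivMapOfInjective (MulAut.conj g).toMonoidHom (MulAut.conj g).injective).trans
      (MulEquiv.subgroupCongr hg))⟩
  have hF := H.odd
  have hcomm := XTwo.Thr.comm' hE hO T
  have T' : XTwo.Thr Om K' K M y x := by
    refine ⟨T.tt.symm, T.hM, ?_, ?_, ?_⟩
    · rw [← T.tt.comm h.hyp]; exact T.t
    · rw [T.tt.hz]; exact T.ne
    · rw [T.tt.hz]; exact T.zc
  have hE1 := XTwo.Thr.comm hE hO T (hty M T.hM).tyTwo hF h2 eK eM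
  have hE2 := XTwo.Thr.comm hE hO T' (hty M T.hM).tyTwo hF h2 eK' eM
  rw [T.tt.hz] at hE2
  refine GlueC.out_three H ha hv Ta Tv eM hcomm ?_ ?_
  · intro k hk i
    fin_cases i
    · exact hE1 k hk
    · exact hE2 k hk
  · obtain ⟨k, hk, ok⟩ : ∃ k ∈ M, orderOf k = 4 := by
      have h1 : orderOf (g * x * g⁻¹) = 4 := by rw [← T.tt.ox]; exact (MulAut.conj g).orderOf_eq x
      exact ⟨g * x * g⁻¹, by rw [← hg]; exact conj_mem_cj T.tt.hx, h1⟩
    refine ⟨k, hk, by rw [← ok]; exact pow_orderOf_eq_one k, fun hM => ?_⟩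
    have hb : ∀ i, ∀ a ∈ ![K, K'] i, k * (zz K * k * (zz K)⁻¹) * a = a * (k * (zz K * k * (zz K)⁻¹)) := by
      intro i
      fin_cases i
      · exact hE1 k hk
      · exact hE2 k hk
    have hD := le_cent H (m := 3) (by norm_num) hb hM hv Tv
    have hJD : J ≤ Dv := Ov.mem J w.hJ (TwoWM.comm_v_J hE hty hO w)
    exact XTwo.Thr.false_of hE hO T hA hF eK hk ok (hE1 k hk) w.hJ (comm_t_J hE hty hO w) fun j hj => hD j (hJD hj)

/-- the output of the branch (B) -/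
def Concl (Om : Set (Subgroup G)) : Prop := ∃ (p : ℕ) (c : Chart Om p (⊤ : Subgroup G)), c.IsTy (.B 3) ∧
    (∃ (F : Type) (_ : Field F) (_ : Fintype F), CharP F p ∧
      ∀ K ∈ Om, Nonempty (Matrix.SpecialLinearGroup (Fin 2) F ≃* ↥K)) ∧ ∀ r ∈ c.R, c.Z r = c.X r

theorem concl_of_out (hs : IsSimpleGroup G) (h : TwoEq Om) (hty : ∀ K ∈ Om, IsType K) (hO : ∀ K ∈ Om, OO K = ⊥)
    (w : WD Om K K' J Q Q' QJ x y b c) (Ov : OneCls Om (zz J * (x * y)) Dv)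
    (Oa : OneCls Om (zz K * (zz J * (x * y))) Da) (hB : CloEnd.Bend G) (hC : CloEnd.Crit1175 G)
    {F : Type} [Field F] [Fintype F] {p m : ℕ} [CharP F p] [Fact p.Prime] (hp2 : p ≠ 2) (h2 : (2 : F) ≠ 0)
    (O : Out Om F p m ![K, K'] Da Dv) : Concl Om := by
  obtain ⟨e, Y, Y', B, h1, h3⟩ := O
  obtain ⟨c', h4, h5⟩ := GlueB.chart_top hs h hty hO w (e 0) (e 1) hp2 h2 B Ov h3 Oa h1 hB hC
  refine ⟨p, c', h4, ⟨F, inferInstance, inferInstance, inferInstance, fun L hL => ?_⟩, h5⟩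
  obtain ⟨g, hg⟩ := h.cls K w.tt.hK L hL
  exact ⟨(e 0).trans ((K.equivMapOfInjective (MulAut.conj g).toMonoidHom (MulAut.conj g).injective).trans
    (MulEquiv.subgroupCongr hg))⟩

/-- **Branch (B): the chart of type `B₃`.** -/
theorem chart_of (hs : IsSimpleGroup G) (h : TwoEq Om) (hty : ∀ K ∈ Om, IsType K) (hO : ∀ K ∈ Om, OO K = ⊥)
    (hA : ¬ CoreTwoEq.CaseA Om) (w : WD Om K K' J Q Q' QJ x y b c)
    (hodd : ∀ D : Subgroup G, ¬ 2 ∣ Nat.card D → Group.IsSolvable D)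
    (hX : ∀ d ∈ OO (centralizer {zz K}), (zz K * (zz J * (x * y))) * d = d * (zz K * (zz J * (x * y))))
    (Pv : FrameOf.Piece Om (zz J * (x * y)) Dv) (Pa : FrameOf.Piece Om (zz K * (zz J * (x * y))) Da)
    (hv : K ≤ Dv) (hv' : K' ≤ Dv) (ha : K ≤ Da) (ha' : K' ≤ Da)
    (Ov : OneCls Om (zz J * (x * y)) Dv) (Oa : OneCls Om (zz K * (zz J * (x * y))) Da)
    {qv qa na : ℕ} {τv τa : Nodes.Chart.Ty} (Tv : TyD Om Dv qv τv 5) (Ta : TyD Om Da qa τa na)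
    (hτv : τv = .A 3 ∨ τv = .C 2) (hτa : τa = .A 3 ∨ τa = .C 2)
    (hc : (na = 3 ∧ ∃ M ∈ Om, (∀ k ∈ M, k * (x * y) = (x * y) * k) ∧ cj (zz K) M ≠ M ∧
        zz M * zz K = zz K * zz M) ∨ (na = 5 ∧ ¬ (τv = .C 2 ∧ τa = .C 2)))
    (hB : CloEnd.Bend G) (hC : CloEnd.Crit1175 G) : Concl Om := by
  have hna : 2 ≤ na := by rcases hc with ⟨h1, -⟩ | ⟨h1, -⟩ <;> omega
  obtain ⟨F, i1, i2, p, i3, X, hp, hp2, H, lv, la⟩ := SupB.exists_prov h hO w hodd hX Pv Pa hv hv' ha ha' Tv Ta hτv hτa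
    (by norm_num) hna
  have := Fact.mk hp
  obtain ⟨cv, v1, v2⟩ := lv
  obtain ⟨ca, a1, a2⟩ := la
  have hzv : zz K * (zz K * (zz J * (x * y))) = zz J * (x * y) := by
    rw [← mul_assoc, h.hyp.zz_mul w.tt.hK, one_mul]
  have hle : ∀ i, ![K, K'] i ≤ Dv := by
    intro i
    fin_cases i
    · exact hv
    · exact hv'
  have hle' : ∀ i, ![K, K'] i ≤ Da := by
    intro i
    fin_cases i
    · exact ha
    · exact ha'
  have Tv' : LocT Om p (Nat.card F) 5 ![K, K'] τv (zz K * (zz K * (zz J * (x * y)))) Dv :=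
    ⟨by rw [hzv]; exact Pv, hle, by norm_num, cv, v1, v2⟩
  have Ta' : LocT Om p (Nat.card F) na ![K, K'] τa (zz K * (zz J * (x * y))) Da := ⟨Pa, hle', hna, ca, a1, a2⟩
  rcases hc with ⟨rfl, M, hM, hMt, hMz, hMc⟩ | ⟨rfl, hn⟩
  · have h2 : (2 : F) ≠ 0 := by
      obtain ⟨e, I⟩ := H.inb (m := 3) (by norm_num)
      exact I.h2
    exact concl_of_out hs h hty hO w Ov Oa hB hC hp2 h2
      (third h hty hO hA w ⟨w.tt, hM, hMt, hMz, hMc⟩ Ov hτa hτv H Ta' Tv')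
  · have h2 : (2 : F) ≠ 0 := by
      obtain ⟨e, I⟩ := H.inb (m := 4) (by norm_num)
      exact I.h2
    rcases hτv with rfl | rfl <;> rcases hτa with rfl | rfl
    · exact (NoAA.false_of_AA H (m := 4) (by norm_num) h.twoE ca a1 cv v1).elim
    · exact concl_of_out hs h hty hO w Ov Oa hB hC hp2 h2 (GlueC.out_four' H Ta' Tv')
    · exact concl_of_out hs h hty hO w Ov Oa hB hC hp2 h2 (GlueC.out_four H Ta' Tv')
    · exact absurd ⟨rfl, rfl⟩ hn

end Final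

end Cfsg.Agent.Cit.OmB3.GlueD
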