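import Cfsg.Agent.Cit.OmB3.BIn
import Cfsg.Agent.Cit.OmB3.GlueD
import Cfsg.Agent.Cit.CoresG
import Cfsg.Agent.Cit.TBasic

/-!
# Branch (B): `BChart` from the cores and the types
-/

set_option autoImplicit false
set_option linter.unusedSectionVars false
set_option linter.style.haveILetI false

namespace Cfsg.Agent.Cit.OmB3.BMain

open Subgroup Cfsg
open Cfsg.Agent.Cit (Hyp zz cj OO MinS TyTwo IsType WD TwoE)
open Cfsg.Agent.Cit.TwoFK (TwoEq)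
open Cfsg.Agent.Cit.CoreTwoEq (CaseB)
open Cfsg.Agent.Cit.TwoTy (TyD)
open Cfsg.Agent.Cit.TwoWM (OneCls)
open Cfsg.Agent.Cit.OmB3.BIn
open Cfsg.Agent.Nodes.Chart

universe u

/-- **`BChart`** -/
theorem bChart (hC : CoresB.{u}) (hT : TypesB.{u}) (hodd : CoresG.OddStmt.{u})
    (bend : ∀ (G : Type u) [Group G] [Finite G] [IsSimpleGroup G], CloEnd.Bend G)
    (c75 : ∀ (G : Type u) [Group G] [Finite G] [IsSimpleGroup G], CloEnd.Crit1175 G) :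
    CoreTwoEqId.BChart.{u} := by
  intro G _ _ Om hm h hb
  obtain ⟨hO, hCor⟩ := hC G Om hm h hb
  refine ⟨hO, ?_⟩
  have hE : TwoE Om := h.twoE
  have hs : IsSimpleGroup G := hm.simple
  have hty : ∀ K ∈ Om, IsType K := fun K hK => (hm.ty K hK).isType
  obtain ⟨hA, K, K', x, y, p, J0, hJ0, hperp⟩ := id hb
  obtain ⟨J, Q, Q', QJ, b, c, w⟩ := hE.exists_wd p hJ0 hperp
  have cor := hCor K K' J Q Q' QJ x y b c w
  obtain ⟨⟨Dv, Da, qv, qa, na, τv, τa, T⟩, M, hM, hMt, hMc, hMz⟩ := hT G Om hm h hb hO K K' J Q Q' QJ x y b c w cor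
  have hK := w.tt.hK
  have hK' := w.tt.hK'
  have hKv := TwoWM.comm_v_K hE hty hO w
  have hKa := TwoWM.comm_zv_K hE hty hO w
  have hKv' : ∀ k ∈ K', k * (zz J * (x * y)) = (zz J * (x * y)) * k := by
    refine TwoWM.comm_of_perp (hty K' hK') (hO K' hK') w.hQ' ?_ (w.vv h.hyp) w.vQ'
    rw [← hE.normalizer_eq hK hK' w.tt.ne w.tt.hz]
    exact TwoWM.v_mem_normalizer_K hE w
  have hKa' : ∀ k ∈ K', k * (zz K * (zz J * (x * y))) = (zz K * (zz J * (x * y))) * k := by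
    intro k hk
    have h1 : k * zz K = zz K * k := by
      rw [← w.tt.hz]; exact h.hyp.comm_zz hK' (le_normalizer hk)
    calc k * (zz K * (zz J * (x * y))) = (k * zz K) * (zz J * (x * y)) := by group
      _ = zz K * (k * (zz J * (x * y))) := by rw [h1]; group
      _ = (zz K * (zz J * (x * y))) * k := by rw [hKv' k hk]; group
  obtain ⟨_, _, _, _, _, cv, -⟩ := id T.tv
  obtain ⟨_, _, _, _, _, ca, -⟩ := id T.ta
  have Ov : OneCls Om (zz J * (x * y)) Dv :=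
    ⟨T.pv.le, T.mv, fun L hL L' hL' h1 h2 => cj_of_chart cv hL hL' h1 h2⟩
  have Oa : OneCls Om (zz K * (zz J * (x * y))) Da :=
    ⟨T.pa.le, T.ma, fun L hL L' hL' h1 h2 => cj_of_chart ca hL hL' h1 h2⟩
  have hcase : (na = 3 ∧ ∃ M ∈ Om, (∀ k ∈ M, k * (x * y) = (x * y) * k) ∧ cj (zz K) M ≠ M ∧
      zz M * zz K = zz K * zz M) ∨ (na = 5 ∧ ¬ (τv = .C 2 ∧ τa = .C 2)) := by
    rcases T.cases with ⟨h1, -⟩ | ⟨h1, h2, h3⟩ | ⟨h1, h2, h3⟩
    · exact Or.inl ⟨h1, M, hM, fun k hk => mem_centralizer_singleton_iff.1 (hMt hk), hMz, hMc⟩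
    · exact Or.inr ⟨h1, by rw [h2]; rintro ⟨h4, -⟩; cases h4⟩
    · exact Or.inr ⟨h1, by rw [h3]; rintro ⟨-, h4⟩; cases h4⟩
  have hτv : τv = .A 3 ∨ τv = .C 2 := by
    rcases T.cases with ⟨-, -, h1⟩ | ⟨-, h1, -⟩ | ⟨-, h1, -⟩
    · exact h1
    · exact Or.inl h1
    · exact Or.inr h1
  have hτa : τa = .A 3 ∨ τa = .C 2 := by
    rcases T.cases with ⟨-, h1, -⟩ | ⟨-, -, h1⟩ | ⟨-, -, h1⟩
    · exact Or.inr h1
    · exact Or.inr h1
    · exact Or.inl h1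
  exact GlueD.chart_of hs h hty hO hA w (fun D hD => hodd D hD) cor.z T.pv T.pa (T.mv K hK hKv) (T.mv K' hK' hKv')
    (T.ma K hK hKa) (T.ma K' hK' hKa') Ov Oa T.tv T.ta hτv hτa hcase (bend G) (c75 G)

end Cfsg.Agent.Cit.OmB3.BMain
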