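import Cfsg.Agent.Cit.TwoWT
import Cfsg.Agent.Cit.TwoTy.Def
import Cfsg.Agent.Cit.CoreTwoEqId
import Cfsg.Agent.Cit.TwoWM
import Cfsg.Agent.Cit.FrameOf
import Cfsg.Agent.Nodes.Perp
import Cfsg.Agent.Nodes.ClsNorm

/-!
# Branch (B): the interface between cores, types and identification

* `CoresB` : the cores are trivial on the members, and (B') does not occur;
* `TypesB` : the groups `D_v`, `D_{zv}` and their charts.
* `cj_of_chart` : the members in a group with a chart are conjugate.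
-/

set_option autoImplicit false
set_option linter.unusedSectionVars false
set_option linter.style.haveILetI false

namespace Cfsg.Agent.Cit.OmB3.BIn

open Subgroup Cfsg
open Cfsg.Agent.Cit (Hyp zz cj OO MinS TyTwo IsType WD TwoE)
open Cfsg.Agent.Cit.TwoFK (TwoEq)
open Cfsg.Agent.Cit.CoreTwoEq (CaseB)
open Cfsg.Agent.Cit.TwoTy (TyD)
open Cfsg.Agent.Cit.TwoWM (OneCls)
open Cfsg.Agent.Nodes.Chart Cfsg.Agent.Nodes.ChartLoc Cfsg.Agent.ChevalleyStructure.CoxeterGeom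
  Cfsg.Agent.Nodes.Comb Cfsg.Agent.Nodes.ClsNorm Cfsg.Agent.Nodes.Reps Cfsg.Agent.Tits.Roots
  Cfsg.Agent.Tits.Core Cfsg.Agent.Tits.RootComb Cfsg.Agent.Nodes.Bruhat
open Cfsg.Agent.Nodes

universe u

section

variable {G : Type*} [Group G]

/-- the cores of the centralisers of `v = s x y`, `z v`, `z`; (B') does not occur -/
structure CorB (Om : Set (Subgroup G)) (K J : Subgroup G) (x y : G) : Prop where
  v : ∀ L ∈ Om, L ≤ centralizer {zz J * (x * y)} →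
    ∀ d ∈ OO (centralizer {zz J * (x * y)}), ∀ l ∈ L, d * l = l * d
  a : ∀ L ∈ Om, L ≤ centralizer {zz K * (zz J * (x * y))} →
    ∀ d ∈ OO (centralizer {zz K * (zz J * (x * y))}), ∀ l ∈ L, d * l = l * d
  z : ∀ d ∈ OO (centralizer {zz K}), (zz K * (zz J * (x * y))) * d = d * (zz K * (zz J * (x * y)))
  ncen : ¬ TwoWT.Cen (x * y) (zz J)

/-- the groups `D_v`, `D_a`, `a = z v`, and their types -/
structure TypB (Om : Set (Subgroup G)) (K J : Subgroup G) (x y : G) (Dv Da : Subgroup G) (qv qa na : ℕ)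
    (τv τa : Nodes.Chart.Ty) : Prop where
  pv : FrameOf.Piece Om (zz J * (x * y)) Dv
  pa : FrameOf.Piece Om (zz K * (zz J * (x * y))) Da
  mv : ∀ L ∈ Om, (∀ l ∈ L, l * (zz J * (x * y)) = (zz J * (x * y)) * l) → L ≤ Dv
  ma : ∀ L ∈ Om, (∀ l ∈ L, l * (zz K * (zz J * (x * y))) = (zz K * (zz J * (x * y))) * l) → L ≤ Da
  tv : TyD Om Dv qv τv 5
  ta : TyD Om Da qa τa na
  cases : (na = 3 ∧ τa = .C 2 ∧ (τv = .A 3 ∨ τv = .C 2)) ∨ (na = 5 ∧ τv = .A 3 ∧ τa = .C 2) ∨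
    (na = 5 ∧ τv = .C 2 ∧ τa = .A 3)

/-- the members in a group with a chart are conjugate -/
theorem cj_of_chart {Om : Set (Subgroup G)} {p : ℕ} {D : Subgroup G} (c : Chart Om p D) {L L' : Subgroup G}
    (hL : L ∈ Om) (hL' : L' ∈ Om) (h : L ≤ D) (h' : L' ≤ D) : ∃ d ∈ D, L' = cj d L := by
  have : Fact p.Prime := ⟨c.prime⟩
  obtain ⟨r, hr, g, hg, rfl⟩ := c.om_conj L hL h
  obtain ⟨s, hs, g', hg', rfl⟩ := c.om_conj L' hL' h'
  obtain ⟨w, rfl⟩ := c.trans r hr s hs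
  obtain ⟨k, hk⟩ := exists_rp c.cs c.cls.rgd.nsys w
  have hkD : k ∈ D := by
    have h1 : k ∈ GG c.cs c.h c.T c.X := NN_le_GG c.cls.rgd ⟨_, hk⟩
    exact (sup_le c.T_le c.gen.le : GG c.cs c.h c.T c.X ≤ D) h1
  refine ⟨g' * k * g⁻¹, mul_mem (mul_mem hg' hkD) (inv_mem hg), ?_⟩
  have h1 : cj k (c.Z r ⊔ c.Z (-r)) = c.Z (rep c.cs c.h w r) ⊔ c.Z (-rep c.cs c.h w r) :=
    Perp.conj_KK c.cls hk hr
  have h2 : cj (g' * k * g⁻¹) (cj g (c.Z r ⊔ c.Z (-r))) = cj g' (cj k (c.Z r ⊔ c.Z (-r))) := by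
    rw [← Cit.cj_mul, ← Cit.cj_mul]; congr 1; group
  exact (congrArg (cj g') h1).symm.trans h2.symm

end

/-- **Cores of branch (B)** -/
def CoresB : Prop := ∀ (G : Type u) [Group G] [Finite G] (Om : Set (Subgroup G)), MinS Om → TwoEq Om → CaseB Om →
  (∀ K ∈ Om, OO K = ⊥) ∧ ∀ (K K' J Q Q' QJ : Subgroup G) (x y b c : G), WD Om K K' J Q Q' QJ x y b c →
    CorB Om K J x y

/-- **Types of branch (B)** -/
def TypesB : Prop := ∀ (G : Type u) [Group G] [Finite G] (Om : Set (Subgroup G)), MinS Om → TwoEq Om → CaseB Om →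
  (∀ K ∈ Om, OO K = ⊥) → ∀ (K K' J Q Q' QJ : Subgroup G) (x y b c : G), WD Om K K' J Q Q' QJ x y b c →
    CorB Om K J x y → (∃ Dv Da qv qa na τv τa, TypB Om K J x y Dv Da qv qa na τv τa) ∧
      ∃ M ∈ Om, M ≤ centralizer {x * y} ∧ zz M * zz K = zz K * zz M ∧ cj (zz K) M ≠ M

end Cfsg.Agent.Cit.OmB3.BIn
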