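import Cfsg.Agent.Cit.OmB3.BIn
import Cfsg.Agent.Cit.ExactPiece

/-!
# Branch (B): the members in `C(u)` are conjugate under the lift of the piece

`TrCls Om u D` : `D` centralises `u` and is transitive on the members centralising `u` (not necessarily contained in `D`).

* `TrCls.oneCls` : then `M ⊓ C(u)` satisfies `OneCls` if `D ≤ M` and one member is in `M ⊓ C(u)`;
* `trCls_DL` : the lift `DL` of a piece with a chart over which all members in `C(u)` lie. No hypothesis on root groups,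
  all fields.
-/

set_option autoImplicit false
set_option linter.unusedSectionVars false

namespace Cfsg.Agent.Cit.OmB3.BCls

open Subgroup Cfsg Cfsg.Agent.Cit.UseT Cfsg.Agent.Cit.PieceLift Cfsg.Agent.Cit.PieceG
open Cfsg.Agent.Cit (Hyp zz cj OO TwoE IsType WD)
open Cfsg.Agent.Cit.TwoWM (OneCls)
open Cfsg.Agent.Nodes.Chart

variable {G : Type*} [Group G] [Finite G] {Om : Set (Subgroup G)}

/-- `D` centralises `u` and is transitive on the members centralising `u` -/
structure TrCls (Om : Set (Subgroup G)) (u : G) (D : Subgroup G) : Prop where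
  comm : ∀ d ∈ D, d * u = u * d
  tr : ∀ L ∈ Om, ∀ L' ∈ Om, (∀ a ∈ L, a * u = u * a) → (∀ a ∈ L', a * u = u * a) → ∃ d ∈ D, L' = cj d L

theorem TrCls.of_oneCls {u : G} {D : Subgroup G} (h : OneCls Om u D) : TrCls Om u D :=
  ⟨h.comm, fun L hL L' hL' h1 h2 => h.cj L hL L' hL' (h.mem L hL h1) (h.mem L' hL' h2)⟩

/-- conjugates of `K ≤ M` under `D ≤ M` -/
theorem TrCls.le {u : G} {D M K L : Subgroup G} (t : TrCls Om u D) (hDM : D ≤ M) (hK : K ∈ Om) (hKM : K ≤ M)
    (hKu : ∀ a ∈ K, a * u = u * a) (hL : L ∈ Om) (hLu : ∀ a ∈ L, a * u = u * a) : L ≤ M := by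
  obtain ⟨d, hd, rfl⟩ := t.tr K hK L hL hKu hLu
  rintro _ ⟨a, ha, rfl⟩
  simp only [MulEquiv.coe_toMonoidHom, MulAut.conj_apply]
  exact M.mul_mem (M.mul_mem (hDM hd) (hKM ha)) (M.inv_mem (hDM hd))

/-- **`OneCls` for `M ⊓ C(u)`** -/
theorem TrCls.oneCls {u : G} {D M K : Subgroup G} (t : TrCls Om u D) (hDM : D ≤ M) (hK : K ∈ Om) (hKM : K ≤ M)
    (hKu : ∀ a ∈ K, a * u = u * a) : OneCls Om u (M ⊓ centralizer {u}) where
  comm d hd := mem_centralizer_singleton_iff.1 hd.2
  mem L hL hLu := le_inf (t.le hDM hK hKM hKu hL hLu) fun a ha => mem_centralizer_singleton_iff.2 (hLu a ha)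
  cj L hL L' hL' h1 h2 := by
    obtain ⟨d, hd, h3⟩ := t.tr L hL L' hL' (fun a ha => mem_centralizer_singleton_iff.1 (h1 ha).2)
      (fun a ha => mem_centralizer_singleton_iff.1 (h2 ha).2)
    exact ⟨d, ⟨hDM hd, mem_centralizer_singleton_iff.2 (t.comm d hd)⟩, h3⟩

/-- **the lift of the piece is transitive on the members in `C(u)`** -/
theorem trCls_DL {u : G} {D' : Subgroup (HQ (centralizer ({u} : Set G)))} (C : CorG Om (centralizer {u}))
    (hD : QP Om (centralizer {u}) D') {p : ℕ} (c : Chart (fb Om (centralizer {u})) p D')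
    (hall : ∀ L ∈ Om, L ≤ centralizer {u} → bar (centralizer {u}) L ≤ D') :
    TrCls Om u (DL Om (centralizer {u}) D') where
  comm d hd := mem_centralizer_singleton_iff.1 (DL_le hd)
  tr L hL L' hL' h1 h2 := by
    have hLH : L ≤ centralizer {u} := fun a ha => mem_centralizer_singleton_iff.2 (h1 a ha)
    have hLH' : L' ≤ centralizer {u} := fun a ha => mem_centralizer_singleton_iff.2 (h2 a ha)
    obtain ⟨d, hd, h3⟩ := BIn.cj_of_chart c (bar_mem hL hLH) (bar_mem hL' hLH') (hall L hL hLH) (hall L' hL' hLH')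
    obtain ⟨e, he, h4⟩ := exists_conj_DL C hD hL hL' hLH hLH' (hall L hL hLH) hd h3.symm
    exact ⟨e, he, h4.symm⟩

section big

open EqClose

variable {K K' J Q Q' QJ Dv Da M : Subgroup G} {x y b c : G}

/-- **(8e)** with `TrCls` -/
theorem big (h : TwoE Om) (hty : ∀ K ∈ Om, IsType K) (hO : ∀ K ∈ Om, OO K = ⊥)
    (w : WD Om K K' J Q Q' QJ x y b c) (hz : centralizer {zz K} ≤ M)
    (hv : TrCls Om (zz J * (x * y)) Dv) (hvM : Dv ≤ M)
    (ha : TrCls Om (zz K * (zz J * (x * y))) Da) (haM : Da ≤ M) :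
    EqClose.Big Om M ∧ EqClose.VGood Om M := by
  have hKM : K ≤ M := (h.hyp.le_centralizer w.tt.hK).trans hz
  exact TwoWM.big h hty hO w hz
    (hv.oneCls hvM w.tt.hK hKM (TwoWM.comm_v_K h hty hO w)) inf_le_left
    (ha.oneCls haM w.tt.hK hKM (TwoWM.comm_zv_K h hty hO w)) inf_le_left

end big

end Cfsg.Agent.Cit.OmB3.BCls
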