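import Cfsg.Agent.Cit.PairUQ
import Cfsg.Agent.Cit.Parity

/-!
# LEMMA UQ for a four-group, with cores

`R` has odd order and is normalised by the commuting involutions `z`, `w`; `D = ⁅R, z⁆` is a `p`-group, `w` centralises
`C_D(z)`, `Q_w = ⁅C_R(w), z⁆`, `Q_{zw} = ⁅C_R(z w), z⁆`.  If `⁅Q_w, Q_w⁆` is centralised by `Q_w` and the same for
`z w`, then `⁅D, D⁆ = ⁅Q_w, Q_w⁆ ⁅Q_{zw}, Q_{zw}⁆` is centralised by `D`.
-/

set_option autoImplicit false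
set_option linter.unusedSectionVars false

namespace Cfsg.Agent.Cit.OmB3.PairEx

open Subgroup Cfsg
open Cfsg.Agent.Cit.Weights Cfsg.Agent.Cit.LemmaUQ Cfsg.Agent.Cit.Parab Cfsg.Agent.Cit.FrameOf
open Cfsg.Agent.Cit.LemmaA
open scoped commutatorElement

variable {G : Type*} [Group G] [Finite G] {R X : Subgroup G} {z w : G}

/-- `[x, y] ≤ L` for subgroups between `D'` and `⁅D', D⁆` -/
theorem mem_normalizer_sup (h : PairUQ.In R X z w) {V : Subgroup G} (hV : V ≤ h.D') :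
    ∀ g ∈ DD R z, g ∈ normalizer ((V ⊔ h.C : Subgroup G) : Set G) := by
  have key : ∀ g ∈ DD R z, ∀ x ∈ V ⊔ h.C, g * x * g⁻¹ ∈ V ⊔ h.C := by
    intro g hg x hx
    have hxD : x ∈ h.D' := (sup_le hV h.C_le : V ⊔ h.C ≤ h.D') hx
    have h1 : g * x * g⁻¹ = ⁅x, g⁆⁻¹ * x := by rw [commutatorElement_def]; group
    rw [h1]
    exact mul_mem ((le_sup_right : h.C ≤ V ⊔ h.C) (inv_mem (h.D'_comm x hxD g hg))) hx
  intro g hg
  refine mem_normalizer_of_forall (key g hg) fun x hx => ?_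
  have h1 := key g⁻¹ (inv_mem hg) x hx
  rwa [inv_inv] at h1

/-- the commutators of the elements of `Q_w` with the elements of `D` are in `V ⁅D', D⁆` -/
theorem Qw_N (h : PairUQ.In R X z w) {V : Subgroup G} (hV : V ≤ h.D') (hX : ⁅Qw R z w, Qw R z w⁆ ≤ V) {q u : G}
    (hq : q ∈ Qw R z w) (hu : u ∈ DD R z) : ⁅u, q⁆ ∈ V ⊔ h.C := by
  have hqD : q ∈ DD R z := LemmaUQ.In.Qw_le_D hq
  have hqw := h.Qw_comm hq
  have hCN : h.C ≤ V ⊔ h.C := le_sup_right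
  have hu' : w * u * w⁻¹ ∈ DD R z := conj_mem_of_normalizer h.w_D hu
  have ht := (mem_eig_false (fun h : False => h)).mp
    (mul_conj_mem_eig (h := h.sec) (hz := h.actw) (s := False) (fun h => h) hu)
  obtain ⟨n, hn, hc⟩ := exists_commute (card_odd_of_le h.D_odd h.D'_le) h.ww h.actw.mN ht.2
  have h1 := h.fix_w ((DD R z).mul_mem (h.D'_le hn) ht.1) hc
  have h2 : u * (w * u * w⁻¹) ∈ h.D' ⊔ Qw R z w := by
    have h3 := mul_mem (inv_mem ((le_sup_left : h.D' ≤ h.D' ⊔ Qw R z w) hn)) h1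
    rwa [inv_mul_cancel_left] at h3
  obtain ⟨d, hd, q', hq', he⟩ := exists_mul_of_mem_sup h.sec le_rfl h.D'_le LemmaUQ.In.Qw_le_D h2
  have h3 : ⁅u * (w * u * w⁻¹), q⁆ ∈ V ⊔ h.C := by
    rw [he]
    have h4 : ⁅d * q', q⁆ = (d * ⁅q', q⁆ * d⁻¹) * ⁅d, q⁆ := by
      simp only [commutatorElement_def]; group
    rw [h4]
    refine mul_mem (conj_mem_of_normalizer (mem_normalizer_sup h hV d (h.D'_le hd)) ?_)
      (hCN (h.D'_comm d hd q hqD))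
    exact (le_sup_left : V ≤ V ⊔ h.C) (hX (Subgroup.commutator_mem_commutator hq' hq))
  have h4 : ⁅w * u * w⁻¹, q⁆ = w * ⁅u, q⁆ * w⁻¹ := by
    have h5 : w⁻¹ * q * w = q := by rw [mul_assoc, hqw]; group
    have h6 : ⁅w * u * w⁻¹, q⁆ = w * ⁅u, w⁻¹ * q * w⁆ * w⁻¹ := by
      simp only [commutatorElement_def]; group
    rw [h6, h5]
  have hD' : ⁅u, q⁆ ∈ h.D' := Subgroup.commutator_mem_commutator hu hqD
  have h5 : ⁅u * (w * u * w⁻¹), q⁆ =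
      (⁅u, w * ⁅u, q⁆ * w⁻¹⁆ * (w * ⁅u, q⁆ * w⁻¹ * ⁅u, q⁆⁻¹)) * (⁅u, q⁆ * ⁅u, q⁆) := by
    rw [← h4]
    simp only [commutatorElement_def]; group
  have h6 : ⁅u, w * ⁅u, q⁆ * w⁻¹⁆ ∈ V ⊔ h.C := by
    refine hCN ?_
    rw [← commutatorElement_inv]
    exact inv_mem (h.D'_comm _ (conj_mem_of_normalizer h.w_D' hD') u hu)
  have h7 := hCN (h.w_triv hD')
  rw [h5] at h3
  exact Weights.mem_of_sq_mem h.D_odd (h.D'_le hD')
    (((V ⊔ h.C : Subgroup G).mul_mem_cancel_left (mul_mem h6 h7)).1 h3)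

/-- a subgroup of `D` containing `D'`, `Q_w`, `Q_{zw}` is `D` -/
theorem le_of_gen (h : PairUQ.In R X z w) (hXz : ∀ x ∈ X, x * z = z * x) {M : Subgroup G} (h1 : h.D' ≤ M)
    (h2 : Qw R z w ≤ M) (h3 : Qw R z (z * w) ≤ M) : DD R z ≤ M := by
  have h' := h.other hXz
  refine Lib.KleinGen.le_of_klein (DD R z) M h.D_odd z w h.zz h.ww h.zw
    (fun x hx => conj_mem_of_normalizer h.z_D hx) (fun x hx => conj_mem_of_normalizer h.w_D hx) ?_ ?_ ?_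
  · rintro c ⟨hc, hcz⟩
    exact h1 (h.fix_mem hc (mem_centralizer_singleton_iff.1 hcz))
  · rintro c ⟨hc, hcw⟩
    exact (sup_le h1 h2) (h.fix_w hc (mem_centralizer_singleton_iff.1 hcw))
  · rintro c ⟨hc, hcw⟩
    exact (sup_le (show h'.D' ≤ M from h1) h3) (h'.fix_w hc (mem_centralizer_singleton_iff.1 hcw))

/-- `⁅D, D⁆ ≤ V ⁅D', D⁆` -/
theorem D'_le_sup (h : PairUQ.In R X z w) (hXz : ∀ x ∈ X, x * z = z * x) {V : Subgroup G} (hV : V ≤ h.D')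
    (hX : ⁅Qw R z w, Qw R z w⁆ ≤ V) (hX' : ⁅Qw R z (z * w), Qw R z (z * w)⁆ ≤ V) : h.D' ≤ V ⊔ h.C := by
  set D := DD R z with hDdef
  have h' := h.other hXz
  have hDN := mem_normalizer_sup h hV
  let M : Subgroup G :=
    { carrier := {v | v ∈ D ∧ ∀ u ∈ D, ⁅u, v⁆ ∈ V ⊔ h.C}
      one_mem' := ⟨D.one_mem, fun u _ => by rw [commutatorElement_one_right]; exact one_mem _⟩
      mul_mem' := by
        rintro a b ⟨ha, ha'⟩ ⟨hb, hb'⟩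
        refine ⟨D.mul_mem ha hb, fun u hu => ?_⟩
        have h1 : ⁅u, a * b⁆ = ⁅u, a⁆ * (a * ⁅u, b⁆ * a⁻¹) := by
          simp only [commutatorElement_def]; group
        rw [h1]
        exact mul_mem (ha' u hu) (conj_mem_of_normalizer (hDN a ha) (hb' u hu))
      inv_mem' := by
        rintro a ⟨ha, ha'⟩
        refine ⟨D.inv_mem ha, fun u hu => ?_⟩
        have h1 : ⁅u, a⁻¹⁆ = a⁻¹ * ⁅u, a⁆⁻¹ * a := by
          simp only [commutatorElement_def]; group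
        rw [h1]
        exact inv_conj_mem_of_normalizer (hDN a ha) (inv_mem (ha' u hu)) }
  have hM : ∀ v, v ∈ M ↔ v ∈ D ∧ ∀ u ∈ D, ⁅u, v⁆ ∈ V ⊔ h.C := fun _ => Iff.rfl
  have hDM : D ≤ M := by
    refine le_of_gen h hXz ?_ ?_ ?_
    · intro d hd
      rw [hM]
      refine ⟨h.D'_le hd, fun u hu => (le_sup_right : h.C ≤ V ⊔ h.C) ?_⟩
      rw [← commutatorElement_inv]
      exact inv_mem (h.D'_comm d hd u hu)
    · exact fun q hq => (hM q).2 ⟨LemmaUQ.In.Qw_le_D hq, fun u hu => Qw_N h hV hX hq hu⟩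
    · exact fun q hq => (hM q).2 ⟨LemmaUQ.In.Qw_le_D hq, fun u hu => Qw_N h' (V := V) hV hX' hq hu⟩
  change ⁅DD R z, DD R z⁆ ≤ V ⊔ h.C
  rw [Subgroup.commutator_le]
  intro a ha b hb
  exact ((hM b).1 (hDM hb)).2 a ha

/-- the Hall-Witt identity -/
theorem hallWitt (x y u : G) : y⁻¹ * ⁅⁅x⁻¹, y⁆⁻¹, u⁻¹⁆ * y * (u⁻¹ * ⁅⁅y⁻¹, u⁆⁻¹, x⁻¹⁆ * u) *
    (x⁻¹ * ⁅⁅u⁻¹, x⁆⁻¹, y⁻¹⁆ * x) = 1 := by
  simp only [commutatorElement_def]
  group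

/-- `⁅⁅D', D⁆, D⁆` -/
def L4 (h : PairUQ.In R X z w) : Subgroup G := ⁅h.C, DD R z⁆

theorem D'_norm (h : PairUQ.In R X z w) : DD R z ≤ normalizer (h.D' : Set G) := fun _ hl =>
  normalizer_commutator (le_normalizer hl) (le_normalizer hl)

theorem L4_norm (h : PairUQ.In R X z w) : DD R z ≤ normalizer (L4 h : Set G) := fun _ hl =>
  normalizer_commutator (h.D_C hl) (le_normalizer hl)

theorem comm_L4 (h : PairUQ.In R X z w) {c d : G} (hc : c ∈ h.C) (hd : d ∈ DD R z) : ⁅c, d⁆ ∈ L4 h :=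
  Subgroup.commutator_mem_commutator hc hd

/-- the Hall-Witt argument -/
theorem hw_mem (h : PairUQ.In R X z w) {x y u : G} (hx : x ∈ DD R z) (hy : y ∈ DD R z) (hu : u ∈ DD R z)
    (h1 : ⁅y⁻¹, u⁆ ∈ h.C) (h2 : ⁅u⁻¹, x⁆ ∈ h.C) : ⁅⁅x⁻¹, y⁆⁻¹, u⁻¹⁆ ∈ L4 h := by
  have e1 := inv_conj_mem_of_normalizer (L4_norm h hu) (comm_L4 h (inv_mem h1) (inv_mem hx))
  have e2 := inv_conj_mem_of_normalizer (L4_norm h hx) (comm_L4 h (inv_mem h2) (inv_mem hy))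
  have e3 := hallWitt x y u
  have e4 : y⁻¹ * ⁅⁅x⁻¹, y⁆⁻¹, u⁻¹⁆ * y = (u⁻¹ * ⁅⁅y⁻¹, u⁆⁻¹, x⁻¹⁆ * u * (x⁻¹ * ⁅⁅u⁻¹, x⁆⁻¹, y⁻¹⁆ * x))⁻¹ := by
    rw [eq_inv_iff_mul_eq_one, ← mul_assoc]; exact e3
  have e5 : y⁻¹ * ⁅⁅x⁻¹, y⁆⁻¹, u⁻¹⁆ * y ∈ L4 h := by
    rw [e4]; exact inv_mem (mul_mem e1 e2)
  have e6 := conj_mem_of_normalizer (L4_norm h hy) e5
  have e7 : y * (y⁻¹ * ⁅⁅x⁻¹, y⁆⁻¹, u⁻¹⁆ * y) * y⁻¹ = ⁅⁅x⁻¹, y⁆⁻¹, u⁻¹⁆ := by group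
  rwa [e7] at e6

/-- `⁅Q_w, Q_{zw}⁆ ≤ ⁅D', D⁆` -/
theorem cross (h : PairUQ.In R X z w) (hXz : ∀ x ∈ X, x * z = z * x) {q u : G} (hq : q ∈ Qw R z w)
    (hu : u ∈ Qw R z (z * w)) : ⁅q, u⁆ ∈ h.C := by
  have h' := h.other hXz
  have hqD : q ∈ DD R z := LemmaUQ.In.Qw_le_D hq
  have huD : u ∈ DD R z := LemmaUQ.In.Qw_le_D hu
  have hqw := h.Qw_comm hq
  have huw := h'.Qw_comm hu
  set e := ⁅q, u⁆ with he
  have heD : e ∈ h.D' := Subgroup.commutator_mem_commutator hqD huD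
  -- `w u w⁻¹ = z u z⁻¹ = u⁻¹ d`
  set d := w * u * w⁻¹ * u with hd
  have hzu : w * u * w⁻¹ = z * u * z⁻¹ := by
    have h1 : u * (z * w) = z * w * u := huw
    have hzi : z⁻¹ = z := inv_eq_of_mul_eq_one_left h.zz
    have hwi : w⁻¹ = w := inv_eq_of_mul_eq_one_left h.ww
    rw [hzi, hwi]
    calc w * u * w = z * (z * w * u) * w := by
          rw [← mul_assoc, ← mul_assoc, h.zz, one_mul]
      _ = z * (u * (z * w)) * w := by rw [h1]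
      _ = z * u * z * (w * w) := by group
      _ = z * u * z := by rw [h.ww, mul_one]
  have hdD : d ∈ h.D' := by rw [hd, hzu]; exact h.inverts u huD
  have hwe : w * e * w⁻¹ = ⁅q, d * u⁻¹⁆ := by
    have h1 : w * q * w⁻¹ = q := by rw [← hqw]; group
    have h2 : w * u * w⁻¹ = d * u⁻¹ := by rw [hd]; group
    have h3 : w * e * w⁻¹ = ⁅w * q * w⁻¹, w * u * w⁻¹⁆ := by
      rw [he]; simp only [commutatorElement_def]; group
    rw [h3, h1, h2]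
  have e1 : ⁅q, d * u⁻¹⁆ = ⁅q, d⁆ * (d * ⁅q, u⁻¹⁆ * d⁻¹) := by
    simp only [commutatorElement_def]; group
  have e2 : ⁅q, u⁻¹⁆ = u⁻¹ * e⁻¹ * u := by
    rw [he]; simp only [commutatorElement_def]; group
  have m1 : ⁅q, d⁆ ∈ h.C := by
    rw [← commutatorElement_inv]; exact inv_mem (h.D'_comm d hdD q hqD)
  -- `d (u⁻¹ e⁻¹ u) d⁻¹ = e⁻¹` modulo `C`
  have m2 : d * (u⁻¹ * e⁻¹ * u) * d⁻¹ * e ∈ h.C := by
    have h1 : d * (u⁻¹ * e⁻¹ * u) * d⁻¹ * e = ⁅d * u⁻¹, e⁻¹⁆ := by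
      simp only [commutatorElement_def]; group
    rw [h1, ← commutatorElement_inv]
    exact inv_mem (h.D'_comm _ (inv_mem heD) _ (mul_mem (h.D'_le hdD) (inv_mem huD)))
  have m3 := h.w_triv heD
  have e3 : e * e = (w * e * w⁻¹ * e⁻¹)⁻¹ * (⁅q, d⁆ * (d * (u⁻¹ * e⁻¹ * u) * d⁻¹ * e)) := by
    rw [hwe, e1, e2]; group
  refine Weights.mem_of_sq_mem h.D_odd (h.D'_le heD) ?_
  rw [e3]
  exact mul_mem (inv_mem m3) (mul_mem m1 m2)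

/-- the elements of `D'` whose commutators with `D` are in `L4` -/
def MM (h : PairUQ.In R X z w) : Subgroup G where
  carrier := {v | v ∈ h.D' ∧ ∀ u ∈ DD R z, ⁅v, u⁆ ∈ L4 h}
  one_mem' := ⟨one_mem _, fun u _ => by rw [commutatorElement_one_left]; exact one_mem _⟩
  mul_mem' := by
    rintro a b ⟨ha, ha'⟩ ⟨hb, hb'⟩
    refine ⟨mul_mem ha hb, fun u hu => ?_⟩
    have h1 : ⁅a * b, u⁆ = (a * ⁅b, u⁆ * a⁻¹) * ⁅a, u⁆ := by
      simp only [commutatorElement_def]; group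
    rw [h1]
    exact mul_mem (conj_mem_of_normalizer (L4_norm h (h.D'_le ha)) (hb' u hu)) (ha' u hu)
  inv_mem' := by
    rintro a ⟨ha, ha'⟩
    refine ⟨inv_mem ha, fun u hu => ?_⟩
    have h1 : ⁅a⁻¹, u⁆ = a⁻¹ * ⁅a, u⁆⁻¹ * a := by
      simp only [commutatorElement_def]; group
    rw [h1]
    exact inv_conj_mem_of_normalizer (L4_norm h (h.D'_le ha)) (inv_mem (ha' u hu))

theorem mem_MM (h : PairUQ.In R X z w) {v : G} : v ∈ MM h ↔ v ∈ h.D' ∧ ∀ u ∈ DD R z, ⁅v, u⁆ ∈ L4 h := Iff.rfl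

/-- for fixed `v ∈ D'` the elements of `D` whose commutator with `v` is in `L4` -/
def NN (h : PairUQ.In R X z w) (v : G) : Subgroup G where
  carrier := {u | u ∈ DD R z ∧ ⁅v, u⁆ ∈ L4 h}
  one_mem' := ⟨one_mem _, by rw [commutatorElement_one_right]; exact one_mem _⟩
  mul_mem' := by
    rintro a b ⟨ha, ha'⟩ ⟨hb, hb'⟩
    refine ⟨mul_mem ha hb, ?_⟩
    have h1 : ⁅v, a * b⁆ = ⁅v, a⁆ * (a * ⁅v, b⁆ * a⁻¹) := by
      simp only [commutatorElement_def]; group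
    rw [h1]
    exact mul_mem ha' (conj_mem_of_normalizer (L4_norm h ha) hb')
  inv_mem' := by
    rintro a ⟨ha, ha'⟩
    refine ⟨inv_mem ha, ?_⟩
    have h1 : ⁅v, a⁻¹⁆ = a⁻¹ * ⁅v, a⁆⁻¹ * a := by
      simp only [commutatorElement_def]; group
    rw [h1]
    exact inv_conj_mem_of_normalizer (L4_norm h ha) (inv_mem ha')

/-- `⁅D', D'⁆ ≤ L4` -/
theorem D'_D' (h : PairUQ.In R X z w) {v u : G} (hv : v ∈ h.D') (hu : u ∈ h.D') : ⁅v, u⁆ ∈ L4 h := by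
  -- the set of `v` with `⁅v, u⁆ ∈ L4` for all `u ∈ D'`
  let S : Subgroup G :=
    { carrier := {v | v ∈ h.D' ∧ ∀ u ∈ h.D', ⁅v, u⁆ ∈ L4 h}
      one_mem' := ⟨one_mem _, fun u _ => by rw [commutatorElement_one_left]; exact one_mem _⟩
      mul_mem' := by
        rintro a b ⟨ha, ha'⟩ ⟨hb, hb'⟩
        refine ⟨mul_mem ha hb, fun u hu => ?_⟩
        have h1 : ⁅a * b, u⁆ = (a * ⁅b, u⁆ * a⁻¹) * ⁅a, u⁆ := by
          simp only [commutatorElement_def]; group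
        rw [h1]
        exact mul_mem (conj_mem_of_normalizer (L4_norm h (h.D'_le ha)) (hb' u hu)) (ha' u hu)
      inv_mem' := by
        rintro a ⟨ha, ha'⟩
        refine ⟨inv_mem ha, fun u hu => ?_⟩
        have h1 : ⁅a⁻¹, u⁆ = a⁻¹ * ⁅a, u⁆⁻¹ * a := by
          simp only [commutatorElement_def]; group
        rw [h1]
        exact inv_conj_mem_of_normalizer (L4_norm h (h.D'_le ha)) (inv_mem (ha' u hu)) }
  have hS : h.D' ≤ S := by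
    change ⁅DD R z, DD R z⁆ ≤ S
    rw [Subgroup.commutator_le]
    intro x hx y hy
    refine ⟨Subgroup.commutator_mem_commutator hx hy, fun u hu => ?_⟩
    -- `⁅x, y⁆ = (⁅x'⁻¹, y'⁆⁻¹)`
    have huD := h.D'_le hu
    have e1 : ⁅x, y⁆ = y * (⁅(x⁻¹)⁻¹, y⁻¹⁆⁻¹) * y⁻¹ := by
      simp only [commutatorElement_def]; group
    have e2 := hw_mem h (x := x⁻¹) (y := y⁻¹) (u := y⁻¹ * u⁻¹ * y) (inv_mem hx) (inv_mem hy)
      (mul_mem (mul_mem (inv_mem hy) (inv_mem huD)) hy) ?_ ?_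
    · have e3 := conj_mem_of_normalizer (L4_norm h hy) e2
      have e4 : y * ⁅⁅(x⁻¹)⁻¹, y⁻¹⁆⁻¹, (y⁻¹ * u⁻¹ * y)⁻¹⁆ * y⁻¹ = ⁅⁅x, y⁆, u⁆ := by
        simp only [commutatorElement_def]; group
      rwa [e4] at e3
    · rw [← commutatorElement_inv]
      exact inv_mem (h.D'_comm _ (inv_conj_mem_of_normalizer (D'_norm h hy) (inv_mem hu)) _
        (inv_mem (inv_mem hy)))
    · exact h.D'_comm _ (inv_mem (inv_conj_mem_of_normalizer (D'_norm h hy) (inv_mem hu))) _ (inv_mem hx)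
  exact (hS hv).2 u hu

/-- the Hall-Witt argument, second form -/
theorem hw_mem' (h : PairUQ.In R X z w) {x y u : G} (hx : x ∈ DD R z) (hy : y ∈ DD R z) (hu : u ∈ DD R z)
    (h1 : ⁅u⁻¹, y⁻¹⁆ ∈ h.C) (h2 : ⁅u, y * x⁻¹ * y⁻¹⁆ ∈ h.C) : ⁅⁅x, y⁆, u⁆ ∈ L4 h := by
  have e2 := hw_mem h (x := x⁻¹) (y := y⁻¹) (u := y⁻¹ * u⁻¹ * y) (inv_mem hx) (inv_mem hy)
    (mul_mem (mul_mem (inv_mem hy) (inv_mem hu)) hy) ?_ ?_
  · have e3 := conj_mem_of_normalizer (L4_norm h hy) e2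
    have e4 : y * ⁅⁅(x⁻¹)⁻¹, y⁻¹⁆⁻¹, (y⁻¹ * u⁻¹ * y)⁻¹⁆ * y⁻¹ = ⁅⁅x, y⁆, u⁆ := by
      simp only [commutatorElement_def]; group
    rwa [e4] at e3
  · have e3 : ⁅(y⁻¹)⁻¹, y⁻¹ * u⁻¹ * y⁆ = ⁅u⁻¹, y⁻¹⁆ := by
      simp only [commutatorElement_def]; group
    rw [e3]; exact h1
  · have e3 : ⁅(y⁻¹ * u⁻¹ * y)⁻¹, x⁻¹⁆ = y⁻¹ * ⁅u, y * x⁻¹ * y⁻¹⁆ * y := by
      simp only [commutatorElement_def]; group
    rw [e3]
    exact inv_conj_mem_of_normalizer (h.D_C hy) h2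

theorem Vw_le_MM (h : PairUQ.In R X z w) (hXz : ∀ x ∈ X, x * z = z * x)
    (hV : ∀ v ∈ ⁅Qw R z w, Qw R z w⁆, ∀ q ∈ Qw R z w, v * q = q * v) : ⁅Qw R z w, Qw R z w⁆ ≤ MM h := by
  rw [Subgroup.commutator_le]
  intro x hx y hy
  have hxD : x ∈ DD R z := LemmaUQ.In.Qw_le_D hx
  have hyD : y ∈ DD R z := LemmaUQ.In.Qw_le_D hy
  have hvD : ⁅x, y⁆ ∈ h.D' := Subgroup.commutator_mem_commutator hxD hyD
  refine ⟨hvD, fun u hu => ?_⟩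
  have h1 : DD R z ≤ NN h ⁅x, y⁆ := by
    refine le_of_gen h hXz ?_ ?_ ?_
    · exact fun u hu => ⟨h.D'_le hu, D'_D' h hvD hu⟩
    · intro u hu
      refine ⟨LemmaUQ.In.Qw_le_D hu, ?_⟩
      rw [commutatorElement_eq_one_iff_mul_comm.2 (hV _ (Subgroup.commutator_mem_commutator hx hy) u hu)]
      exact one_mem _
    · intro u hu
      have huD : u ∈ DD R z := LemmaUQ.In.Qw_le_D hu
      refine ⟨huD, hw_mem' h hxD hyD huD ?_ ?_⟩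
      · rw [← commutatorElement_inv]
        exact inv_mem (cross h hXz (inv_mem hy) (inv_mem hu))
      · rw [← commutatorElement_inv]
        exact inv_mem (cross h hXz (mul_mem (mul_mem hy (inv_mem hx)) (inv_mem hy)) hu)
  exact (h1 hu).2

/-- `D` has class at most two. -/
theorem C_eq_bot (h : PairUQ.In R X z w) (hXz : ∀ x ∈ X, x * z = z * x) {p : ℕ} [Fact p.Prime]
    (hD : IsPGroup p (DD R z)) (hV : ∀ v ∈ ⁅Qw R z w, Qw R z w⁆, ∀ q ∈ Qw R z w, v * q = q * v)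
    (hV' : ∀ v ∈ ⁅Qw R z (z * w), Qw R z (z * w)⁆, ∀ q ∈ Qw R z (z * w), v * q = q * v) : h.C = ⊥ := by
  have h' := h.other hXz
  have h1 : ⁅Qw R z w, Qw R z w⁆ ≤ MM h := Vw_le_MM h hXz hV
  have h2 : ⁅Qw R z (z * w), Qw R z (z * w)⁆ ≤ MM h := Vw_le_MM h' hXz hV'
  have hMD : MM h ≤ h.D' := fun v hv => hv.1
  have h3 := D'_le_sup h hXz hMD h1 h2
  have h4 : h.C ≤ MM h := fun c hc => ⟨h.C_le hc, fun u hu => comm_L4 h hc hu⟩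
  have h5 : h.D' ≤ MM h := h3.trans (sup_le le_rfl h4)
  have h6 : h.C ≤ ⁅h.C, DD R z⁆ := by
    change ⁅⁅DD R z, DD R z⁆, DD R z⁆ ≤ L4 h
    rw [Subgroup.commutator_le]
    exact fun v hv u hu => (h5 hv).2 u hu
  rw [eq_bot_iff]
  refine Weights.le_of_le_sup_commutator hD bot_le (h.C_le.trans h.D'_le) ?_ (by rw [bot_sup_eq]; exact h6)
  intro q _ x hx
  rw [mem_bot] at hx ⊢
  rw [hx]; group

/-- `⁅D, D⁆ = ⁅Q_w, Q_w⁆ ⁅Q_{zw}, Q_{zw}⁆` is centralised by `D`. -/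
theorem der (h : PairUQ.In R X z w) (hXz : ∀ x ∈ X, x * z = z * x) {p : ℕ} [Fact p.Prime]
    (hD : IsPGroup p (DD R z)) (hV : ∀ v ∈ ⁅Qw R z w, Qw R z w⁆, ∀ q ∈ Qw R z w, v * q = q * v)
    (hV' : ∀ v ∈ ⁅Qw R z (z * w), Qw R z (z * w)⁆, ∀ q ∈ Qw R z (z * w), v * q = q * v) :
    ⁅DD R z, DD R z⁆ ≤ ⁅Qw R z w, Qw R z w⁆ ⊔ ⁅Qw R z (z * w), Qw R z (z * w)⁆ ∧
      ∀ v ∈ ⁅DD R z, DD R z⁆, ∀ d ∈ DD R z, v * d = d * v := by
  have hC := C_eq_bot h hXz hD hV hV'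
  have hle : ∀ {w' : G}, ⁅Qw R z w', Qw R z w'⁆ ≤ ⁅DD R z, DD R z⁆ := fun {w'} =>
    Subgroup.commutator_mono LemmaUQ.In.Qw_le_D LemmaUQ.In.Qw_le_D
  constructor
  · have h1 := D'_le_sup h hXz (V := ⁅Qw R z w, Qw R z w⁆ ⊔ ⁅Qw R z (z * w), Qw R z (z * w)⁆)
      (sup_le hle hle) le_sup_left le_sup_right
    rw [hC, sup_bot_eq] at h1
    exact h1
  · intro v hv d hd
    have h1 := h.D'_comm v hv d hd
    rw [hC, mem_bot] at h1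
    exact commutatorElement_eq_one_iff_mul_comm.1 h1

end Cfsg.Agent.Cit.OmB3.PairEx
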