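import Cfsg.Agent.Cit.GoodOf
import Cfsg.Agent.Cit.OmB3.PairEx
import Cfsg.Agent.Cit.OmB3.SupB
import Cfsg.Agent.Cit.OmB3.BCls

/-!
# Branch (B): the root groups are good

For the two members `K`, `K'` over `z` and the commuting involutions `v`, `a = z v` the group
`B = BB K X z` centralises the lifts of the pieces `D_v`, `D_a`, so `N(B)` is the whole group and `B = 1`.
-/

set_option autoImplicit false
set_option linter.unusedSectionVars false
set_option linter.style.haveILetI false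

namespace Cfsg.Agent.Cit.OmB3.BGood

open Subgroup Cfsg Cfsg.Agent.Cit.UseT Cfsg.Agent.Cit.PieceLift Cfsg.Agent.Cit.PieceG Cfsg.Agent.Cit.PieceLoc
open Cfsg.Agent.Nodes.Chart Cfsg.Agent.Cit.FrameOf Cfsg.Agent.Cit.ParabSL2 Cfsg.Agent.Cit.Parab
open Cfsg.Agent.Cit.LemmaUQ Cfsg.Agent.Cit.Exact Cfsg.Agent.Cit.GoodOf Cfsg.Agent.Cit.Weights
open scoped commutatorElement

universe u

variable {G : Type u} [Group G] [Finite G] {Om : Set (Subgroup G)}

/-- the piece of `C(u)` over `K`, `K'` -/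
structure Lo (Om : Set (Subgroup G)) (p q : ℕ) (K K' : Subgroup G) (u : G)
    (D' : Subgroup (HQ (centralizer ({u} : Set G)))) : Prop where
  cor : CorG Om (centralizer {u})
  qp : QP Om (centralizer {u}) D'
  le : bar (centralizer {u}) K ≤ D'
  le' : bar (centralizer {u}) K' ≤ D'
  nmem : D' ∉ fb Om (centralizer {u})
  chart : Nonempty (Chart (fb Om (centralizer {u})) p D')
  comm : ∀ k ∈ K, k * u = u * k
  comm' : ∀ k ∈ K', k * u = u * k
  cen : ∀ X ≤ K, Nat.card X = q → ∀ Y ≤ K, Nat.card Y = q → Y ≠ X → ∀ b ∈ centralizer ({u} : Set G),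
    (∀ k ∈ K, b * k = k * b) → (∀ k ∈ K', b * k = k * b) →
    (∀ x ∈ Qw (core X) (zz K) u, b * x = x * b) → (∀ x ∈ Qw (core Y) (zz K) u, b * x = x * b) →
    ∀ d ∈ DL Om (centralizer {u}) D', b * d = d * b

section

variable {F : Type*} [Field F] [Fintype F] {p : ℕ} [CharP F p] {K K' X Y : Subgroup G} {u : G}
  {D' : Subgroup (HQ (centralizer ({u} : Set G)))}

theorem Lo.loc {q : ℕ} (l : Lo Om p q K K' u D') (hK : K ∈ Om) (hF : Odd (Fintype.card F))
    (e : Matrix.SpecialLinearGroup (Fin 2) F ≃* K) (hXK : X ≤ K) (hX : Nat.card X = Fintype.card F) :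
    Qw (core X) (zz K) u ≤ DL Om (centralizer {u}) D' ∧ IsPGroup p (Qw (core X) (zz K) u) ∧
      (∀ v ∈ ⁅Qw (core X) (zz K) u, Qw (core X) (zz K) u⁆, ∀ q ∈ Qw (core X) (zz K) u, v * q = q * v) ∧
      ⁅Qw (core X) (zz K) u, Qw (core X) (zz K) u⁆ ≤ centralizer {zz K} := by
  obtain ⟨c⟩ := l.chart
  have : Fact p.Prime := ⟨c.prime⟩
  have h := l.cor.hyp
  have hlong : Long K X (zz K) := long_of_hyp h hK hF e hXK hX
  obtain ⟨Y, hYK, hY, hne⟩ := exists_opp e hXK hX
  have hKu : K ≤ centralizer {u} := fun k hk => mem_centralizer_singleton_iff.2 (l.comm k hk)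
  have hzu : zz K * u = u * zz K := l.comm _ (h.zz_mem hK)
  have hzR : zz K ∈ normalizer ((core X ⊓ centralizer {u} : Subgroup G) : Set G) := by
    have hz : zz K ∈ normalizer (core X : Set G) := hlong.z_normalizes (mem_zpowers _)
    have hz' : zz K ∈ centralizer ({u} : Set G) := mem_centralizer_singleton_iff.2 hzu
    refine mem_normalizer_of_forall ?_ ?_
    · rintro x ⟨hx1, hx2⟩
      refine ⟨conj_mem_of_normalizer hz hx1, ?_⟩
      exact (centralizer ({u} : Set G)).mul_mem ((centralizer ({u} : Set G)).mul_mem hz' hx2)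
        ((centralizer ({u} : Set G)).inv_mem hz')
    · rintro x ⟨hx1, hx2⟩
      refine ⟨inv_conj_mem_of_normalizer hz hx1, ?_⟩
      exact (centralizer ({u} : Set G)).mul_mem ((centralizer ({u} : Set G)).mul_mem
        ((centralizer ({u} : Set G)).inv_mem hz') hx2) hz'
  have hodd : ¬ 2 ∣ Nat.card ↥(core X ⊓ centralizer {u} : Subgroup G) := by
    intro h1
    have h2 := odd_core X
    rw [← Nat.not_even_iff_odd] at h2
    exact h2 (even_iff_two_dvd.2 (h1.trans (card_dvd_of_le inf_le_left)))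
  have hloc := PieceLoc.loc l.cor l.qp c l.nmem hF hK hKu l.le e hXK hX hYK hY hne (R := core X ⊓ centralizer {u}) hodd
    inf_le_right (fun a ha x hx => core_commute ha.1 hx) hzR
  refine ⟨hloc.1, hloc.2.1, ?_, ?_⟩
  swap
  · refine hloc.2.2.trans (sup_le (fun x hx => ?_) fun x hx => ?_)
    · exact mem_centralizer_singleton_iff.2 (hlong.central (hXK hx))
    · exact mem_centralizer_singleton_iff.2 (DL_comm_core l.cor (zz_mem_DL h hK hKu l.le) hx).symm
  intro v hv q hq
  have h3 : X ⊔ OO (centralizer {u}) ≤ centralizer {q} := by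
    refine sup_le ?_ ?_
    · intro x hx
      have hqR : q ∈ core X ⊓ centralizer {u} :=
        Lib.CoprimeCommutator.commutator_le_left (by rw [zpowers_le]; exact hzR) hq
      exact mem_centralizer_singleton_iff.2 (core_commute hqR.1 hx).symm
    · intro x hx
      exact mem_centralizer_singleton_iff.2 (DL_comm_core l.cor (hloc.1 hq) hx).symm
  exact mem_centralizer_singleton_iff.1 (h3 (hloc.2.2 hv))

/-- **`B` centralises the lifts of the pieces, `BB = 1` gives `Good`.** -/
theorem main {q : ℕ} {a v : G} {Dv' : Subgroup (HQ (centralizer ({v} : Set G)))}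
    {Da' : Subgroup (HQ (centralizer ({a} : Set G)))} (hq : Fintype.card F = q) (hav : zz K * a = v)
    (lv : Lo Om p q K K' v Dv') (la : Lo Om p q K K' a Da') (hK : K ∈ Om) (hF : Odd (Fintype.card F))
    (e : Matrix.SpecialLinearGroup (Fin 2) F ≃* K) (haa : a * a = 1)
    (hac : ∀ d ∈ core K, a * d = d * a) (hsolv : ∀ D : Subgroup G, ¬ 2 ∣ Nat.card D → Group.IsSolvable D)
    (hcore : ∀ r ∈ core K, ∀ k ∈ K', r * k = k * r) :
    (∀ b ∈ bb (Fintype.card F) K, (∀ d ∈ DL Om (centralizer {v}) Dv', b * d = d * b) ∧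
      ∀ d ∈ DL Om (centralizer {a}) Da', b * d = d * b) ∧
    (bb (Fintype.card F) K = ⊥ → ∀ X ≤ K, Nat.card X = Fintype.card F → Good p X (zz K)) := by
  have hp : Fact p.Prime := ⟨la.chart.some.prime⟩
  have h := la.cor.hyp
  subst hav
  have haK : ∀ k ∈ K, a * k = k * a := fun k hk => (la.comm k hk).symm
  -- the facts for one root group
  have key : ∀ X ≤ K, Nat.card X = Fintype.card F → PairUQ.In (core X) X (zz K) a ∧ IsPGroup p (QX X (zz K)) ∧
      (∀ v ∈ ⁅QX X (zz K), QX X (zz K)⁆, ∀ d ∈ QX X (zz K), v * d = d * v) := by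
    intro X hXK hX
    have hlong : Long K X (zz K) := long_of_hyp h hK hF e hXK hX
    have hI := PairUQ.mem_of_long hlong haa haK hac
    have hXz : ∀ x ∈ X, x * zz K = zz K * x := fun x hx => hlong.central (hXK hx)
    obtain ⟨-, a1, a2, -⟩ := la.loc hK hF e hXK hX
    obtain ⟨-, b1, b2, -⟩ := lv.loc hK hF e hXK hX
    have hs : Group.IsSolvable (core X) := by
      refine hsolv _ fun h2 => ?_
      have h1 := odd_core X
      rw [← Nat.not_even_iff_odd] at h1
      exact h1 (even_iff_two_dvd.2 h2)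
    have hD : IsPGroup p (QX X (zz K)) :=
      PairUQ.isPGroup_commutator Fact.out hI.odd hs hI.zz hI.ww hI.zw hI.zR hI.wR a1 b1
    exact ⟨hI, hD, (PairEx.der hI hXz hD a2 b2).2⟩
  constructor
  · intro b hb
    obtain ⟨X, hXK, hX, Y, hYK, hY, hne⟩ : ∃ X ≤ K, Nat.card X = Fintype.card F ∧ ∃ Y ≤ K,
        Nat.card Y = Fintype.card F ∧ Y ≠ X := by
      have h1 : root e ≤ K := root_le e
      have h2 : Nat.card (root e) = Fintype.card F := card_root e
      obtain ⟨Y, h3, h4, h5⟩ := exists_opp e h1 h2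
      exact ⟨root e, h1, h2, Y, h3, h4, h5⟩
    have hlong : Long K X (zz K) := long_of_hyp h hK hF e hXK hX
    have hlong' : Long K Y (zz K) := long_of_hyp h hK hF e hYK hY
    have hbX : b ∈ BB K X (zz K) := by rw [← bb_eq h hK hF e hXK hX]; exact hb
    have hbY : b ∈ BB K Y (zz K) := by rw [← bb_eq h hK hF e hYK hY]; exact hb
    have hbK : ∀ k ∈ K, b * k = k * b := fun k hk => BB_comm hbX hk
    -- `b` centralises `QX`
    have hbQ : ∀ X ≤ K, Nat.card X = Fintype.card F → b ∈ BB K X (zz K) → ∀ d ∈ QX X (zz K), b * d = d * b := by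
      intro X hXK hX hbX d hd
      obtain ⟨hI, -, h3⟩ := key X hXK hX
      have h1 : X ⊔ (QX X (zz K) ⊓ centralizer {zz K}) ≤ centralizer {d} := by
        refine sup_le ?_ ?_
        · intro x hx
          have hlong : Long K X (zz K) := long_of_hyp h hK hF e hXK hX
          exact mem_centralizer_singleton_iff.2 (core_commute (hlong.QX_le_core hd) hx).symm
        · rintro x ⟨hx1, hx2⟩
          exact mem_centralizer_singleton_iff.2
            (h3 x (hI.fix_mem hx1 (mem_centralizer_singleton_iff.1 hx2)) d hd)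
      exact mem_centralizer_singleton_iff.1 (h1 hbX.1)
    have hbX' := hbQ X hXK hX hbX
    have hbY' := hbQ Y hYK hY hbY
    -- `b ∈ core K`
    have hbc : b ∈ core K := by
      refine hlong.core_inf_le ⟨?_, hbX.2⟩
      exact (sup_le hlong.X_le_core (inf_le_left.trans hlong.QX_le_core) :
        X ⊔ (QX X (zz K) ⊓ centralizer {zz K}) ≤ core X) hbX.1
    have hbK' : ∀ k ∈ K', b * k = k * b := fun k hk => hcore b hbc k hk
    have hba : b * a = a * b := (hac b hbc).symm
    have hbz : b * zz K = zz K * b := hbK _ (h.zz_mem hK)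
    have hbv : b * (zz K * a) = zz K * a * b := by
      rw [← mul_assoc, hbz, mul_assoc, hba, mul_assoc]
    have hle : ∀ (X : Subgroup G) (u : G), Qw (core X) (zz K) u ≤ QX X (zz K) := fun X u =>
      Subgroup.commutator_mono inf_le_left le_rfl
    subst hq
    constructor
    · exact lv.cen X hXK hX Y hYK hY hne b (mem_centralizer_singleton_iff.2 hbv) hbK hbK'
        (fun x hx => hbX' x (hle X _ hx)) (fun x hx => hbY' x (hle Y _ hx))
    · exact la.cen X hXK hX Y hYK hY hne b (mem_centralizer_singleton_iff.2 hba) hbK hbK'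
        (fun x hx => hbX' x (hle X _ hx)) (fun x hx => hbY' x (hle Y _ hx))
  · intro hbot X hXK hX
    have hlong : Long K X (zz K) := long_of_hyp h hK hF e hXK hX
    obtain ⟨hI, hD, h3⟩ := key X hXK hX
    have hXz : ∀ x ∈ X, x * zz K = zz K * x := fun x hx => hlong.central (hXK hx)
    rw [bb_eq h hK hF e hXK hX] at hbot
    have hfix : ∀ c ∈ QX X (zz K), c * zz K = zz K * c → c ∈ X := by
      intro c hc hcz
      have h1 : c ∈ X ⊔ BB K X (zz K) := by
        rw [← sup_BB hlong]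
        exact (le_sup_right : _ ≤ X ⊔ (QX X (zz K) ⊓ centralizer {zz K})) ⟨hc, mem_centralizer_singleton_iff.2 hcz⟩
      rwa [hbot, sup_bot_eq] at h1
    have hder : ⁅QX X (zz K), QX X (zz K)⁆ ≤ X := by
      obtain ⟨-, a1, a2, a3⟩ := la.loc hK hF e hXK hX
      obtain ⟨-, b1, b2, b3⟩ := lv.loc hK hF e hXK hX
      intro v hv
      refine hfix v (hI.D'_le hv) ?_
      exact mem_centralizer_singleton_iff.1 ((sup_le a3 b3) ((PairEx.der hI hXz hD a2 b2).1 hv))
    refine ⟨QQ_isPGroup hlong (isPGroup_of_card hX) hD, by rw [QQ_commutator_eq_QX hlong]; exact hder, ?_⟩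
    intro c hc hcz
    obtain ⟨x, hx, d, hd, rfl⟩ := (mem_QQ hlong).1 hc
    refine X.mul_mem hx (hfix d hd ?_)
    have h1 := hXz x hx
    have h2 : x * (d * zz K) = x * (zz K * d) := by
      rw [← mul_assoc, hcz, ← mul_assoc, ← h1, mul_assoc]
    exact mul_left_cancel h2

end

/-! ### The global argument -/

open Cfsg.Agent.Cit (Hyp zz cj OO MinS TyTwo IsType WD TwoE)
open Cfsg.Agent.Cit.TwoFK (TwoEq)
open Cfsg.Agent.Cit.OmB3.BCls (TrCls)

variable {F : Type} [Field F] [Fintype F] {p q : ℕ} [CharP F p] {K K' J Q Q' QJ : Subgroup G} {x y b c : G}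

/-- the data of the frame -/
theorem dat (h : TwoEq Om) (hO : ∀ K ∈ Om, OO K = ⊥) (w : WD Om K K' J Q Q' QJ x y b c)
    (e : Matrix.SpecialLinearGroup (Fin 2) F ≃* K) (e' : Matrix.SpecialLinearGroup (Fin 2) F ≃* K') :
    Dat Om F ![K, K'] ![SupB.XR e, SupB.XR e'] := by
  have hcomm := GlueB.comm_mem h.hyp hO w.tt.hK w.tt.hK' w.tt.ne w.tt.hz
  refine ⟨h.hyp, ?_, ?_, ?_⟩
  · intro i
    fin_cases i
    · exact w.tt.hK
    · exact w.tt.hK'
  · intro i j hij
    fin_cases i <;> fin_cases j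
    · exact absurd rfl hij
    · exact hcomm
    · exact fun a ha b hb => (hcomm b hb a ha).symm
    · exact absurd rfl hij
  · intro i
    fin_cases i
    · exact ⟨e, SupB.XR_one e, SupB.XR_neg e⟩
    · exact ⟨e', SupB.XR_one e', SupB.XR_neg e'⟩

/-- **All root groups are good.** -/
theorem good_all (hs : IsSimpleGroup G) (h : TwoEq Om) (hty : ∀ K ∈ Om, IsType K) (hO : ∀ K ∈ Om, OO K = ⊥)
    (w : WD Om K K' J Q Q' QJ x y b c) (hsolv : ∀ D : Subgroup G, ¬ 2 ∣ Nat.card D → Group.IsSolvable D)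
    (hX : ∀ d ∈ OO (centralizer {zz K}), (zz K * (zz J * (x * y))) * d = d * (zz K * (zz J * (x * y))))
    (e : Matrix.SpecialLinearGroup (Fin 2) F ≃* K) (e' : Matrix.SpecialLinearGroup (Fin 2) F ≃* K')
    (hF : Odd (Fintype.card F)) (hq : Fintype.card F = q)
    {Dv' : Subgroup (HQ (centralizer ({zz J * (x * y)} : Set G)))}
    {Da' : Subgroup (HQ (centralizer ({zz K * (zz J * (x * y))} : Set G)))}
    (lv : Lo Om p q K K' (zz J * (x * y)) Dv') (la : Lo Om p q K K' (zz K * (zz J * (x * y))) Da')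
    (ov : TrCls Om (zz J * (x * y)) (DL Om (centralizer {zz J * (x * y)}) Dv'))
    (oa : TrCls Om (zz K * (zz J * (x * y))) (DL Om (centralizer {zz K * (zz J * (x * y))}) Da'))
    (hB : CloEnd.Bend G) (hC : CloEnd.Crit1175 G) :
    ∀ L ∈ Om, ∀ P ≤ L, Nat.card P = Fintype.card F → Good p P (zz L) := by
  have hE : TwoE Om := h.twoE
  have hK := w.tt.hK
  have hzv : zz K * (zz K * (zz J * (x * y))) = zz J * (x * y) := by
    rw [← mul_assoc, h.hyp.zz_mul hK, one_mul]
  have hD := dat h hO w e e'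
  have hac : ∀ d ∈ core K, (zz K * (zz J * (x * y))) * d = d * (zz K * (zz J * (x * y))) := fun d hd =>
    hX d (SupB.core_le_OO hE hK w.tt.hK' w.tt.ne w.tt.hz hd)
  have hcore : ∀ r ∈ core K, ∀ k ∈ K', r * k = k * r := fun r hr k hk =>
    TypeD4Prov.core_comm hD hF (i := 0) (j := 1) (by decide) w.tt.hz r hr k hk
  obtain ⟨h1, h2⟩ := main hq hzv lv la hK hF e (TwoWT.zvzv hE w) hac hsolv hcore
  set B := bb (Fintype.card F) K with hBdef
  have hcomm : ∀ {D : Subgroup G}, (∀ b ∈ B, ∀ d ∈ D, b * d = d * b) → D ≤ normalizer (B : Set G) := by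
    intro D hD d hd
    rw [Cit.mem_normalizer_iff_cj]
    refine cj_eq_of_conj_mem fun b hb => ?_
    have : d * b * d⁻¹ = b := by rw [← hD b hb d hd]; group
    rw [this]; exact hb
  have hvN := hcomm fun b hb => (h1 b hb).1
  have haN := hcomm fun b hb => (h1 b hb).2
  -- `K'` and `K` have the same `B`
  have hBK' : bb (Fintype.card F) K' = B := by
    obtain ⟨d, hd, hdK⟩ := ov.tr K hK K' w.tt.hK' lv.comm lv.comm'
    rw [hdK, bb_cj h.hyp hK hF e]
    exact Cit.mem_normalizer_iff_cj.1 (hvN hd)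
  have hz : centralizer {zz K} ≤ normalizer (B : Set G) := by
    intro g hg
    rw [Cit.mem_normalizer_iff_cj, hBdef, ← bb_cj h.hyp hK hF e]
    rcases hE.cj_or hK w.tt.hK' w.tt.ne w.tt.hz (mem_centralizer_singleton_iff.1 hg) with ⟨h3, -⟩ | ⟨h3, -⟩
    · rw [h3]
    · rw [h3, hBK']
  obtain ⟨b1, b2⟩ := BCls.big hE hty hO w hz ov hvN oa haN
  have hN : normalizer (B : Set G) = ⊤ := by
    by_contra hne
    exact b1.false_of_big_two (GlueB.eqZ h ⟨K, hK⟩ fun K hK => (hty K hK).tyTwo) h.two b2 hne hB hC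
  have hBn : B.Normal := normalizer_eq_top_iff.1 hN
  have hodd : ¬ 2 ∣ Nat.card B := not_dvd_bb h.hyp hK hF e
  have hbot : B = ⊥ := by
    rcases hBn.eq_bot_or_eq_top with h3 | h3
    · exact h3
    · exfalso
      apply hodd
      rw [h3]
      have h4 : orderOf (zz K) ∣ Nat.card (⊤ : Subgroup G) := by
        rw [Subgroup.card_top]; exact orderOf_dvd_natCard _
      rwa [h.hyp.orderOf_zz hK] at h4
  intro L hL P hPL hP
  obtain ⟨g, rfl⟩ := h.cls K hK L hL
  have h3 : cj g⁻¹ P ≤ K := by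
    have h4 := Cit.cj_mono g⁻¹ hPL
    rwa [Cit.cj_inv_cj] at h4
  have h4 := (h2 hbot (cj g⁻¹ P) h3 (by rw [Cit.card_cj]; exact hP)).conj g
  rwa [Cit.cj_cj_inv, ← h.hyp.zz_cj hK g] at h4

end Cfsg.Agent.Cit.OmB3.BGood
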