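import Cfsg.Agent.Cit.OmB3.ChartLe
import Cfsg.Agent.Nodes.PairOf

/-!
# Anisotropy of the short root groups of the unitary group
-/

set_option autoImplicit false
set_option linter.unusedSectionVars false
set_option linter.unusedVariables false
set_option linter.dupNamespace false

namespace Cfsg.Agent.Cit.OmB3.Aniso

open scoped commutatorElement
open CoxeterSystem Cfsg.Agent.ChevalleyStructure.CoxeterGeom Cfsg.Agent.Tits.Roots Cfsg.Agent.Nodes
  Cfsg.Agent.Nodes.BNOf Cfsg.Agent.Nodes.Chart Cfsg.Agent.Nodes.RGDLib Cfsg.Agent.Nodes.Reps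
  Cfsg.Agent.Nodes.Comb Cfsg.Agent.Nodes.Coroot
open Cfsg.Agent.Cit.LemmaATwo Cfsg.Agent.Cit.OmB3.Side
  Cfsg.Agent.Cit.OmB3.Form Cfsg.Agent.Cit.OmB3.Big Cfsg.Agent.Cit.OmB3.ChartLe
open Cfsg.Agent.Cit.OmB3.Form.Four (MG)

variable {G : Type*} [Group G] {F : Type*} [Field F] {S1 S2 : SLSys F G} {z : G}

theorem sq_one_of_odd {x : G} (h : Odd (orderOf x)) (hx : x * x = 1) : x = 1 := by
  obtain ⟨k, hk⟩ := h
  have h5 : x ^ (2 * k + 1) = 1 := by rw [← hk]; exact pow_orderOf_eq_one _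
  rw [pow_succ, pow_mul, pow_two, hx, one_pow, one_mul] at h5
  exact h5

/-- An isotropic element: the root element of `S₂` acts without a component in `S₁.A`. -/
theorem side_comm {S : SLSys F G} {Zc : Subgroup G} (D : Side S Zc z) {b : G} (hb : b ∈ MM S.A' Zc z)
    (hc : b * ac S.w b = ac S.w b * b) : ac (S.xp 1) b = b * ac S.w b := by
  obtain ⟨ζ, hζ, h1⟩ := D.weyl_eq hb one_ne_zero
  rw [S.h_one, one_mul] at h1
  have hd : ac S.w b ∈ MM S.A Zc z := D.ac_w_B.2 hb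
  set d := ac S.w b with hdd
  have hbz : ac z b = b⁻¹ := hb.2.2.2
  have hdz : ac z d = d⁻¹ := hd.2.2.2
  have hζz : ac z ζ = ζ := ac_of_comm (D.z_comm hζ)
  have hzx : ac z (S.xp 1) = S.xp 1 := by
    rw [← D.hz, S.h_xp _ _ (neg_ne_zero.2 one_ne_zero)]
    congr 1; ring
  have h3 : ac z (ac (S.xp 1) b) = (ac (S.xp 1) b)⁻¹ := by
    have h4 : z * S.xp 1 = S.xp 1 * z := comm_of_ac hzx
    rw [ac_ac, h4, ← ac_ac, hbz, ac_inv]
  rw [h1, ac_mul, ac_mul, hbz, hdz, hζz] at h3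
  have hζb : ζ * b = b * ζ := hb.2.2.1 ζ hζ
  have hζd : ζ * d = d * ζ := hd.2.2.1 ζ hζ
  have h4 : ζ * ζ = 1 := by
    have h5 : (b * d * ζ)⁻¹ = b⁻¹ * d⁻¹ * ζ⁻¹ := by
      have c1 : Commute d b := hc.symm
      have c2 : Commute ζ b := hζb
      have c3 : Commute ζ d := hζd
      rw [mul_inv_rev, mul_inv_rev, (c1.inv_left.inv_right).eq]
      exact ((c2.inv_left.inv_right).mul_right (c3.inv_left.inv_right)).eq
    rw [h5] at h3
    have h6 : ζ = ζ⁻¹ := mul_left_cancel h3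
    nth_rewrite 2 [h6]
    exact mul_inv_cancel ζ
  have hζ1 : ζ = 1 := sq_one_of_odd (D.oddZ ζ hζ) h4
  rw [h1, hζ1, mul_one]

/-- **Anisotropy.** -/
theorem aniso_of_mu (D : Four S1 S2 z) {x : G} (hx : x ∈ MG S1 S2 z)
    (hc : x * ac S2.w x = ac S2.w x * x) {u v : G} (hu : u ∈ MG S1.opp S2.opp z)
    (hv : v ∈ MG S1.opp S2.opp z) (hmu : ∀ a ∈ S2.A', ac (u * x * v) a ∈ S1.A) : False := by
  have hxM := D.s2.two
  have hxM : x ∈ MM S2.A S1.A z := by rw [← MM_symm]; exact D.mem.1 hx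
  have hzx : ac z x = x⁻¹ := hxM.2.2.2
  -- the Weyl element `w⁻¹`
  have hw : ac S2.opp.w x = (ac S2.w x)⁻¹ := by
    show ac S2.w⁻¹ x = _
    apply ac_inj (g := S2.w)
    rw [ac_ac_inv, ac_inv, ac_ac, S2.w_sq, D.s2.hz, hzx, inv_inv]
  have hc' : x * ac S2.opp.w x = ac S2.opp.w x * x := by
    rw [hw]
    exact ((show Commute x (ac S2.w x) from hc).inv_right).eq
  have h1 : ac (S2.opp.xp 1) x = x * ac S2.opp.w x := side_comm D.s2.opp hxM hc'
  rw [hw] at h1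
  set b := (ac S2.w x)⁻¹ with hb
  set a := S2.opp.xp 1 with ha
  have haA : a ∈ S2.A' := S2.opp.xp_mem 1
  have hxb : x * b = b * x := by rw [hb]; exact ((show Commute x (ac S2.w x) from hc).inv_right).eq
  have hbM : b ∈ MG S1 S2.opp z := inv_mem (D.w2_mem.2 hx)
  have hbz : ac z b = b⁻¹ := (D.opp2.mem.1 hbM).2.2.2
  have hua : u * a = a * u := ((D.opp1.opp2.mem.1 hu).2.2.1 a haA).symm
  have hva : v * a = a * v := ((D.opp1.opp2.mem.1 hv).2.2.1 a haA).symm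
  -- `x a x⁻¹ = b⁻¹ a`
  have h3 : ac x a = b⁻¹ * a := by
    have h4 : a * x * a⁻¹ = x * b := h1
    unfold ac
    calc x * a * x⁻¹ = x * (a * x⁻¹ * a⁻¹) * a := by group
      _ = x * (a * x * a⁻¹)⁻¹ * a := by group
      _ = x * (x * b)⁻¹ * a := by rw [h4]
      _ = x * (b * x)⁻¹ * a := by rw [hxb]
      _ = b⁻¹ * a := by group
  have h6 := hmu a haA
  rw [← ac_ac, ac_of_comm hva, ← ac_ac, h3, ac_mul, ac_of_comm hua] at h6
  -- the commutator of `u` and `b⁻¹`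
  have hη : ⁅u, b⁻¹⁆ ∈ S2.A' := by
    have hP := (D.swap.opp1).pairing
    have hu' : u ∈ MG S2.opp S1.opp z := by rw [Big.MG_swap]; exact hu
    have hb' : b⁻¹ ∈ MG S2.opp S1.opp.opp z := by
      have : b⁻¹ ∈ MG S2.opp S1 z := by rw [Big.MG_swap]; exact inv_mem hbM
      exact this
    have h7 := D.swap.opp1.opp2.pairing.pair u hu' b⁻¹ hb'
    exact h7
  have h7 : ac u b⁻¹ = ⁅u, b⁻¹⁆ * b⁻¹ := by
    unfold ac; rw [commutatorElement_def]; group
  rw [h7] at h6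
  set η := ⁅u, b⁻¹⁆ with hηd
  have hζz : ac z (η * b⁻¹ * a) = η * b⁻¹ * a := ac_of_comm (D.s2.z_comm h6)
  have hηz : ac z η = η := ac_of_comm (D.s1'.z_comm hη)
  have haz : ac z a = a := ac_of_comm (D.s1'.z_comm haA)
  rw [ac_mul, ac_mul, hηz, haz, ac_inv, hbz, inv_inv] at hζz
  have h8 : b = b⁻¹ := mul_left_cancel (mul_right_cancel hζz)
  have h9 : b = 1 := by
    apply sq_one_of_odd (D.opp2.mem.1 hbM).1
    nth_rewrite 2 [h8]
    exact mul_inv_cancel b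
  have h10 : η = 1 := by rw [hηd, h9, inv_one, commutatorElement_one_right]
  rw [h10, h9, inv_one, one_mul, one_mul] at h6
  have h11 : a = 1 := D.s1'.infA a haA h6
  exact one_ne_zero (S2.opp.xp_inj 1 h11)

variable {Om : Set (Subgroup G)} {p : ℕ} {D : Subgroup G} {c : Chart Om p D} {r s : c.I → ℤ}

/-- **Anisotropy of the root group `X y`, `r + s = 2 y`.** -/
theorem aniso_chart [Finite G] (H : ChartLe.Fr c S1 S2 z r s) (D4 : Four S1 S2 z) {y : c.I → ℤ}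
    (hy : IsRoot c.cs c.h y) (h1 : 0 < form c.cs c.h y r) (h2 : 0 < form c.cs c.h y s) (hyr : y ≠ r)
    (h3 : -s - cpr c.cs c.h (-s) (-y) • (-y) = r) {x : G} (hx : x ∈ c.X y)
    (hc : x * ac S2.w x = ac S2.w x * x) : x = 1 := by
  by_contra hne
  have hxM := D4.mem.2 (H.mem_pp hy h1 h2 hyr hx)
  obtain ⟨u, hu, v, hv, hmap⟩ := PairOf.exists_mu c.cls.rgd hy.neg (a := x) (by rw [neg_neg]; exact hx) hne
  have hM : ∀ u ∈ c.X (-y), u ∈ MG S1.opp S2.opp z := by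
    intro u hu
    refine D4.opp1.opp2.mem.2 (H.opp1.opp2.mem_pp hy.neg ?_ ?_ ?_ hu)
    · rw [form_neg_right, form_neg_left, neg_neg]; exact h1
    · rw [form_neg_right, form_neg_left, neg_neg]; exact h2
    · exact fun h => hyr (neg_injective h)
  refine aniso_of_mu D4 hxM hc (hM u hu) (hM v hv) ?_
  intro a ha
  have h4 := hmap (-s) (c.cls.root _ (H.neg_mem H.hs))
  rw [h3, ← H.a1, ← H.a2'] at h4
  rw [← h4]
  show u * x * v * a * (u * x * v)⁻¹ ∈ _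
  exact ⟨a, ha, rfl⟩

end Cfsg.Agent.Cit.OmB3.Aniso
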