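import Cfsg.Agent.Cit.OmB3.Third

/-!
# The `A₂`-systems (LEMMA A2) inside the configuration
-/

set_option autoImplicit false
set_option linter.unusedSectionVars false
set_option linter.unusedVariables false
set_option linter.dupNamespace false

namespace Cfsg.Agent.Cit.OmB3.Atwo

open scoped commutatorElement
open Module
open Cfsg.Agent.RootAmalgam (Onto Maps PairData)
open Cfsg.Agent.Cit.LemmaATwo Cfsg.Agent.Cit.OmB3.Side Cfsg.Agent.Cit.OmB3.Siegel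
  Cfsg.Agent.Cit.OmB3.Form Cfsg.Agent.Cit.OmB3.Big Cfsg.Agent.Cit.OmB3.Split
  Cfsg.Agent.Cit.OmB3.Third
open Cfsg.Agent.Cit.OmB3.Form.Four (MG)

variable {G : Type*} [Group G] {F : Type*} [Field F]
variable {p m : ℕ} {S1 S2 : SLSys F G} {z : G} {Y Y' : Subgroup G}
  [Finite G] [Finite F] [Fact p.Prime] [CharP F p]

theorem mem_MG (D : Big p m S1 S2 z Y Y') {x : G} : x ∈ MG S1 S2 z ↔ x ∈ MM S1.A S2.A z := D.four.mem

theorem MG_ab (D : Big p m S1 S2 z Y Y') {x y : G} (hx : x ∈ MG S1 S2 z) (hy : y ∈ MG S1 S2 z) :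
    x * y = y * x := D.four.two.comm (D.four.mem.1 hx) (D.four.mem.1 hy)

theorem MG_z (D : Big p m S1 S2 z Y Y') {x : G} (hx : x ∈ MG S1 S2 z) : ac z x = x⁻¹ :=
  (D.four.mem.1 hx).2.2.2

theorem MG_odd (D : Big p m S1 S2 z Y Y') {x : G} (hx : x ∈ MG S1 S2 z) : Odd (orderOf x) :=
  (D.four.mem.1 hx).1

theorem MG_A1 (D : Big p m S1 S2 z Y Y') {x a : G} (hx : x ∈ MG S1 S2 z) (ha : a ∈ S1.A) :
    a * x = x * a := (D.four.mem.1 hx).2.1 a ha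

theorem MG_A2 (D : Big p m S1 S2 z Y Y') {x a : G} (hx : x ∈ MG S1 S2 z) (ha : a ∈ S2.A) :
    a * x = x * a := (D.four.mem.1 hx).2.2.1 a ha

theorem sq_one_of_odd {x : G} (h : Odd (orderOf x)) (hx : x * x = 1) : x = 1 := by
  have h4 := orderOf_dvd_of_pow_eq_one (x := x) (n := 2) (by rw [pow_two]; exact hx)
  rw [← orderOf_eq_one_iff]
  rcases (Nat.dvd_prime Nat.prime_two).1 h4 with h1 | h1
  · exact h1
  · rw [h1] at h
    exact absurd h (by decide)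

/-- Commuting across the second edge `(+,+) - (-,+)`, by `swap`. -/
theorem comm_pp2 (D : Big p m S1 S2 z Y Y') (h2 : (2 : F) ≠ 0) {x y : G}
    (hx : x ∈ PP (MG S1 S2 z) Y) (hy : y ∈ PP (MG S1.opp S2 z) Y) : x * y = y * x := by
  obtain ⟨f, f', R⟩ := D.swap.exists_pr h2
  exact comm_pp R (by rw [Big.MG_swap]; exact hx) (by rw [Big.MG_swap]; exact hy)

theorem comm_pz2 (D : Big p m S1 S2 z Y Y') (h2 : (2 : F) ≠ 0) {x y : G}
    (hx : x ∈ PP (MG S1 S2 z) Y) (hy : y ∈ MZ (MG S1.opp S2 z) Y Y') : x * y = y * x := by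
  obtain ⟨f, f', R⟩ := D.swap.exists_pr h2
  exact comm_pz R (by rw [Big.MG_swap]; exact hx) (by rw [Big.MG_swap]; exact hy)

theorem comm_pp1 (D : Big p m S1 S2 z Y Y') (h2 : (2 : F) ≠ 0) {x y : G}
    (hx : x ∈ PP (MG S1 S2 z) Y) (hy : y ∈ PP (MG S1 S2.opp z) Y) : x * y = y * x := by
  obtain ⟨f, f', R⟩ := D.exists_pr h2
  exact comm_pp R hx hy

theorem comm_pz1 (D : Big p m S1 S2 z Y Y') (h2 : (2 : F) ≠ 0) {x y : G}
    (hx : x ∈ PP (MG S1 S2 z) Y) (hy : y ∈ MZ (MG S1 S2.opp z) Y Y') : x * y = y * x := by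
  obtain ⟨f, f', R⟩ := D.exists_pr h2
  exact comm_pz R hx hy

/-- The Weyl elements on `PP`. -/
theorem weyl_PP (D : Big p m S1 S2 z Y Y') (h2 : (2 : F) ≠ 0) {b : G}
    (hb : b ∈ PP (MG S1.opp S2 z) Y) {t : F} (ht : t ≠ 0) :
    ac (S1.h t * S1.w) b ∈ PP (MG S1 S2 z) Y ∧ ac (S1.xp t) b = b * ac (S1.h t * S1.w) b := by
  have hbM : b ∈ MM S1.A' S2.A z := D.four.opp1.mem.1 (PP_le _ _ hb)
  obtain ⟨ζ, hζ, h1⟩ := D.four.s1.weyl_eq hbM ht
  have hw : Onto (S1.h t * S1.w) (MG S1.opp S2 z) (MG S1 S2 z) := by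
    intro x
    rw [D.four.mem, D.four.opp1.mem]
    show ac (S1.h t * S1.w) x ∈ _ ↔ x ∈ MM S1.A' S2.A z
    rw [← ac_ac, D.four.s1.ac_h_C ht, D.four.s1.ac_w_B]
  have hY : Onto (S1.h t * S1.w) Y Y := by
    apply onto_of_comm
    intro y hy
    have e1 : Commute (S1.h t) y := h_CC (D.Yc hy) ht
    have e2 : Commute S1.w y := w1_CC (D.Yc hy)
    exact Commute.mul_left e1 e2
  have hd : ac (S1.h t * S1.w) b ∈ PP (MG S1 S2 z) Y := (onto_PP hw hY).mem hb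
  refine ⟨hd, ?_⟩
  set d := ac (S1.h t * S1.w) b with hdd
  -- apply `z`
  have hbz : ac z b = b⁻¹ := hbM.2.2.2
  have hdz : ac z d = d⁻¹ := MG_z D (PP_le _ _ hd)
  have hζz : ac z ζ = ζ := ac_of_comm (D.four.s1.z_comm hζ)
  have hzx : z * S1.xp t = S1.xp t * z := D.four.s2.z_comm (S1.xp_mem t)
  have h3 : ac z (ac (S1.xp t) b) = (ac (S1.xp t) b)⁻¹ := by
    rw [ac_ac, hzx, ← ac_ac, hbz, ac_inv]
  rw [h1, ac_mul, ac_mul, hbz, hdz, hζz] at h3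
  have hbd : d * b = b * d := comm_pp2 D h2 hd hb
  have hζb : ζ * b = b * ζ := hbM.2.2.1 ζ hζ
  have hζd : ζ * d = d * ζ := MG_A2 D (PP_le _ _ hd) hζ
  have h4 : ζ * ζ = 1 := by
    have h5 : (b * d * ζ)⁻¹ = b⁻¹ * d⁻¹ * ζ⁻¹ := by
      have c1 : Commute d b := hbd
      have c2 : Commute ζ b := hζb
      have c3 : Commute ζ d := hζd
      rw [mul_inv_rev, mul_inv_rev, (c1.inv_left.inv_right).eq]
      exact ((c2.inv_left.inv_right).mul_right (c3.inv_left.inv_right)).eq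
    rw [h5] at h3
    have h6 : ζ = ζ⁻¹ := mul_left_cancel h3
    nth_rewrite 2 [h6]
    exact mul_inv_cancel ζ
  have hζ1 : ζ = 1 := sq_one_of_odd (D.four.s1.oddZ ζ hζ) h4
  rw [h1, hζ1, mul_one]

theorem half (D : Big p m S1 S2 z Y Y') (h2 : (2 : F) ≠ 0) :
    Half S1 (PP (MG S1.opp S2 z) Y) (PP (MG S1 S2 z) Y) where
  abB x hx y hy := MG_ab D.opp1 (PP_le _ _ hx) (PP_le _ _ hy)
  abC x hx y hy := MG_ab D (PP_le _ _ hx) (PP_le _ _ hy)
  abBC x hx y hy := (comm_pp2 D h2 hy hx).symm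
  killB b hb t := MG_A1 D.opp1 (PP_le _ _ hb) (S1.xm_mem t)
  killC c hc t := MG_A1 D (PP_le _ _ hc) (S1.xp_mem t)
  mapB b hb t := by
    by_cases ht : t = 0
    · subst ht
      rw [S1.xp_zero, one_ac, inv_mul_cancel]; exact one_mem _
    · obtain ⟨h1, h3⟩ := weyl_PP D h2 hb ht
      rw [h3, inv_mul_cancel_left]; exact h1
  mapC c hc t := by
    by_cases ht : t = 0
    · subst ht
      rw [S1.xm_zero, one_ac, inv_mul_cancel]; exact one_mem _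
    · obtain ⟨h1, h3⟩ := weyl_PP D.opp1 h2 (b := c) hc ht
      have h3' : ac (S1.xm t) c = c * ac (S1.opp.h t * S1.opp.w) c := h3
      rw [h3', inv_mul_cancel_left]; exact h1
  zB b hb := by rw [D.four.s1.hz]; exact MG_z D.opp1 (PP_le _ _ hb)
  zC c hc := by rw [D.four.s1.hz]; exact MG_z D (PP_le _ _ hc)
  oddB b hb h := sq_one_of_odd (MG_odd D.opp1 (PP_le _ _ hb)) h
  oddC c hc h := sq_one_of_odd (MG_odd D (PP_le _ _ hc)) h
  cardB := by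
    obtain ⟨f, f', R⟩ := D.opp1.exists_pr h2
    exact card_PP R
  cardC := by
    obtain ⟨f, f', R⟩ := D.exists_pr h2
    exact card_PP R

theorem PP_ne_bot (D : Big p m S1 S2 z Y Y') (h2 : (2 : F) ≠ 0) : ∃ x ∈ PP (MG S1 S2 z) Y, x ≠ 1 := by
  obtain ⟨f, f', R⟩ := D.exists_pr h2
  refine ⟨_, (mem_PP_iff R).2 ⟨1, rfl⟩, ?_⟩
  rw [one_smul]
  intro h
  exact f_ne R (D.four.s1.dil.el_inj h)

/-- LEMMA A2 for `S₁` and the roots `e₁ - e₂`, `e₂ - e₃`. -/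
theorem atwo (D : Big p m S1 S2 z Y Y') (h2 : (2 : F) ≠ 0) :
    ATwo S1 (PP (MG S1.opp S2 z) Y') (PP (MG S1 S2 z) Y') (PP (MG S1 S2.opp z) Y)
      (PP (MG S1.opp S2.opp z) Y) where
  half := half D.symm h2
  half' := half D.opp1.opp2 h2
  pair c hc x hx := by
    obtain ⟨t, ht⟩ := S1.mem_A.1 (D.four.pairing.pair c (PP_le _ _ hc) x (PP_le _ _ hx))
    exact ⟨t, ht.symm⟩
  ne := by
    obtain ⟨c, hc, hc1⟩ := PP_ne_bot D.symm h2
    obtain ⟨x, hx, hx1⟩ := PP_ne_bot D.opp2 h2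
    refine ⟨c, hc, x, hx, ?_⟩
    rw [Ne, commutatorElement_eq_one_iff_mul_comm]
    obtain ⟨f, f', R⟩ := D.symm.exists_pr h2
    exact ncomm_pm R hc hc1 hx hx1
  h2 := h2

end Cfsg.Agent.Cit.OmB3.Atwo
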