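import Cfsg.Agent.Cit.LemmaUQ
import Cfsg.Agent.Cit.FrameOf

/-!
# Exact parabolics from the centralisers of two involutions `a`, `z a`

`R` has odd order and is normalised by the commuting involutions `z`, `a`; `X` centralises `R`; `D = ⁅R, z⁆`,
`a` centralises `C_D(z)`; `Q_a = ⁅C_R(a), z⁆` and `Q_v = ⁅C_R(v), z⁆`, `v = z a`, are `p`-groups with
`⁅Q_a, Q_a⁆, ⁅Q_v, Q_v⁆ ≤ X`. Then `D` is a `p`-group, `⁅D, D⁆ ≤ X`, `C_D(z) ≤ X`.
(LEMMA UQ without a group `L`; used for `Ω₇(q)` and `Ω₈⁻(q)`.)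
-/

set_option autoImplicit false
set_option linter.unusedSectionVars false

namespace Cfsg.Agent.Cit.OmB3.Av

open Subgroup Cfsg
open Cfsg.Agent.Cit.Weights Cfsg.Agent.Cit.LemmaUQ
open scoped commutatorElement

variable {G : Type*} [Group G]

/-- The input. -/
structure In (R X : Subgroup G) (z a : G) : Prop where
  odd : Odd (Nat.card R)
  zz : z * z = 1
  aa : a * a = 1
  za : z * a = a * z
  zR : z ∈ normalizer (R : Set G)
  aR : a ∈ normalizer (R : Set G)
  XR : ∀ x ∈ X, ∀ r ∈ R, x * r = r * x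
  fix : ∀ c ∈ DD R z, c * z = z * c → c * a = a * c

/-- `D ≤ ⁅D, D⁆` if `z` centralises the fixed points of `a` and of `z a`. -/
theorem le_commutator [Finite G] {D : Subgroup G} (hD : Odd (Nat.card D)) {z a : G} (hz : z * z = 1)
    (ha : a * a = 1) (hza : z * a = a * z) (hzD : z ∈ normalizer (D : Set G)) (haD : a ∈ normalizer (D : Set G))
    (hDz : ⁅D, zpowers z⁆ = D) (hca : ∀ d ∈ D, d * a = a * d → d * z = z * d)
    (hcv : ∀ d ∈ D, d * (z * a) = z * a * d → d * z = z * d) : D ≤ ⁅D, D⁆ := by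
  have hsec : Sec D ⁅D, D⁆ := Sec.self D
  have hN : ∀ g ∈ normalizer (D : Set G), g ∈ normalizer ((⁅D, D⁆ : Subgroup G) : Set G) := fun g hg =>
    normalizer_commutator hg hg
  have hvD : z * a ∈ normalizer (D : Set G) := mul_mem hzD haD
  have hvv : z * a * (z * a) = 1 := by
    calc z * a * (z * a) = z * (a * z) * a := by group
      _ = (z * z) * (a * a) := by rw [← hza]; group
      _ = 1 := by rw [hz, ha, one_mul]
  have actz : Act D ⁅D, D⁆ z := Act.of_normalizer hz hzD (hN z hzD)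
  have acta : Act D ⁅D, D⁆ a := Act.of_normalizer ha haD (hN a haD)
  have actv : Act D ⁅D, D⁆ (z * a) := Act.of_normalizer hvv hvD (hN _ hvD)
  have hinv := inverts_of_commutator hsec actz hDz
  have hoddN : Odd (Nat.card (⁅D, D⁆ : Subgroup G)) := card_odd_of_le hD hsec.le
  have hia := inverts_of_fix hsec hoddN acta fun x hx hc => Weights.mem_of_commute hD hinv hx (hca x hx hc)
  have hiv := inverts_of_fix hsec hoddN actv fun x hx hc => Weights.mem_of_commute hD hinv hx (hcv x hx hc)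
  have hav : a * (z * a) = z := by
    calc a * (z * a) = (a * a) * z := by rw [hza]; group
      _ = z := by rw [ha, one_mul]
  exact le_of_three hsec hD (a := a) (b := z * a) acta.mN acta.mQ hia hiv (by rw [hav]; exact hinv)

open Cfsg.Agent.Cit.LemmaA in
open Cfsg.Agent.OddOrderLocal Cfsg.Agent.OddOrderLocal.PiCoreOf Cfsg.Agent.OddOrderLocal.FitCores in
/-- fixed points in the quotient by `O_p(R)`: they commute with `z` -/
theorem comm_of_fixed [Finite G] {p : ℕ} [Fact p.Prime] {R P : Subgroup G} [R.Normal] [P.Normal]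
    (hR : Odd (Nat.card R)) (hPR : P ≤ R) (hbot : piCoreOf {p} (R.map (QuotientGroup.mk' P)) = ⊥)
    {z w : G} (hz : z * z = 1) (hw : w * w = 1) (hc : IsPGroup p (⁅R ⊓ centralizer {w}, zpowers z⁆ : Subgroup G))
    {d : G ⧸ P} (hd : d ∈ ⁅fittingOf (R.map (QuotientGroup.mk' P)), zpowers (QuotientGroup.mk' P z)⁆)
    (hdw : d * QuotientGroup.mk' P w = QuotientGroup.mk' P w * d) :
    d * QuotientGroup.mk' P z = QuotientGroup.mk' P z * d := by
  have hp : p.Prime := Fact.out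
  have : Fact (Nat.Prime 2) := ⟨Nat.prime_two⟩
  set π := QuotientGroup.mk' P with hπ
  have hker : ∀ x : G, π x = 1 ↔ x ∈ P := fun x => by rw [hπ]; simp
  set R' := R.map π with hR'
  have hR'n : R'.Normal := Subgroup.Normal.map inferInstance π (QuotientGroup.mk'_surjective P)
  have hR'odd : Odd (Nat.card R') := by
    obtain ⟨k, hk⟩ := card_map_dvd R π
    rw [hk] at hR
    exact (Nat.odd_mul.1 hR).1
  set F := fittingOf R' with hF
  have hFR : F ≤ R' := FitAux.fittingOf_le R'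
  have hFn' : ∀ g : G ⧸ P, g ∈ normalizer (F : Set (G ⧸ P)) := fun g => by
    apply normalizer_le_normalizer_fittingOf R'
    rw [normalizer_eq_top_iff.2 hR'n]; trivial
  set z' := π z with hz'
  set w' := π w with hw'
  have hz'z : z' * z' = 1 := by rw [hz', ← map_mul, hz, map_one]
  have hcop : (Nat.card (zpowers z')).Coprime (Nat.card R') := by
    have h1 : Nat.card (zpowers z') ∣ 2 := by
      rw [Nat.card_zpowers]
      exact orderOf_dvd_of_pow_eq_one (by rw [pow_two, hz'z])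
    exact Nat.Coprime.coprime_dvd_left h1 (Nat.coprime_two_left.2 hR'odd)
  have hcopF : (Nat.card (zpowers z')).Coprime (Nat.card F) :=
    Nat.Coprime.coprime_dvd_right (card_dvd_of_le hFR) hcop
  have hzF : zpowers z' ≤ normalizer (F : Set (G ⧸ P)) := fun g _ => hFn' g
  have hDF : ⁅F, zpowers z'⁆ ≤ F := Lib.CoprimeCommutator.commutator_le_left hzF
  have hDD : ⁅⁅F, zpowers z'⁆, zpowers z'⁆ = ⁅F, zpowers z'⁆ :=
    Lib.CoprimeCommutator.commutator_commutator_eq _ _ hzF hcopF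
  obtain ⟨r, hr, he⟩ := hFR (hDF hd)
  -- lift `d` to a fixed point of `w`
  obtain ⟨c, hc1, hc2⟩ := Lib.CoprimeCommutator.exists_fixed_in_coset 2 (zpowers w) P
    (isPGroup_two_zpowers hw) (fun g _ => by rw [normalizer_eq_top_iff.2 inferInstance]; trivial) (by
      have := odd_of_le hPR hR
      rwa [← Nat.not_even_iff_odd, even_iff_two_dvd] at this) r (by
      intro a ha
      have h1 : π a * d = d * π a := by
        obtain ⟨k, rfl⟩ := ha
        change π (w ^ k) * d = d * π (w ^ k)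
        rw [map_zpow]
        exact (Commute.zpow_left (show Commute w' d from hdw.symm) k).eq
      rw [← hker, map_mul, map_inv, map_mul, map_mul, map_inv, he, h1]
      group)
  have hcR : c ∈ R := by
    have h3 : c = r * (r⁻¹ * c) := by group
    rw [h3]; exact R.mul_mem hr (hPR hc2)
  have hcd : π c = d := by
    have h3 : c = r * (r⁻¹ * c) := by group
    rw [h3, map_mul, he, (hker _).2 hc2, mul_one]
  have hcw : c ∈ R ⊓ centralizer {w} := by
    refine ⟨hcR, ?_⟩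
    change c ∈ centralizer {w}
    rw [mem_centralizer_singleton_iff]
    exact ((mem_centralizer_iff.1 hc1) w (mem_zpowers w)).symm
  have h1 : ⁅c, z⁆ ∈ ⁅R ⊓ centralizer {w}, zpowers z⁆ :=
    commutator_mem_commutator hcw (mem_zpowers z)
  have h2 : ⁅d, z'⁆ ∈ ⁅F, zpowers z'⁆ := by
    rw [← hDD]
    exact commutator_mem_commutator hd (mem_zpowers z')
  have h3 : IsPGroup p (zpowers ⁅d, z'⁆) := by
    have h4 : IsPGroup p (zpowers ⁅c, z⁆) := hc.to_le ((zpowers_le).2 h1)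
    have h5 : (zpowers ⁅c, z⁆).map π = zpowers ⁅d, z'⁆ := by
      rw [MonoidHom.map_zpowers, map_commutatorElement, hcd]
    rw [← h5]
    exact h4.map π
  have h4 := le_core_of_le_fittingOf hp (zpowers_le.2 (hDF h2)) h3
  rw [hbot, le_bot_iff, zpowers_eq_bot] at h4
  exact (commutatorElement_eq_one_iff_mul_comm.1 h4)

open Cfsg.Agent.Cit.LemmaA in
open Cfsg.Agent.OddOrderLocal Cfsg.Agent.OddOrderLocal.PiCoreOf Cfsg.Agent.OddOrderLocal.FitCores in
theorem isPGroup_of_normal [Finite G] {p : ℕ} [Fact p.Prime] {R : Subgroup G} [R.Normal]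
    {z a : G} (hR : Odd (Nat.card R)) (hs : Group.IsSolvable R) (hz : z * z = 1) (ha : a * a = 1)
    (hza : z * a = a * z)
    (hca : IsPGroup p (⁅R ⊓ centralizer {a}, zpowers z⁆ : Subgroup G))
    (hcv : IsPGroup p (⁅R ⊓ centralizer {z * a}, zpowers z⁆ : Subgroup G)) :
    IsPGroup p (⁅R, zpowers z⁆ : Subgroup G) := by
  have hp : p.Prime := Fact.out
  obtain ⟨P, hP⟩ : ∃ P : Subgroup G, P = piCoreOf {p} R := ⟨_, rfl⟩
  have hPn : P.Normal := hP ▸ normal_piCoreOf _ _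
  have hPR : P ≤ R := hP ▸ piCoreOf_le _ _
  have hpP : IsPGroup p P := hP ▸ isPGroup_piCoreOf hp R
  have hvv : z * a * (z * a) = 1 := by
    calc z * a * (z * a) = z * (a * z) * a := by group
      _ = (z * z) * (a * a) := by rw [← hza]; group
      _ = 1 := by rw [hz, ha, one_mul]
  set π := QuotientGroup.mk' P with hπ
  have hbot : piCoreOf {p} (R.map π) = ⊥ := piCoreOf_map_mk hp R P hP
  have hker : ∀ x : G, π x = 1 ↔ x ∈ P := fun x => by rw [hπ]; simp
  have keya := fun (d : G ⧸ P) hd hdw => comm_of_fixed (p := p) hR hPR hbot hz ha hca (d := d) hd hdw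
  have keyv := fun (d : G ⧸ P) hd hdw => comm_of_fixed (p := p) hR hPR hbot hz hvv hcv (d := d) hd hdw
  rw [← hπ] at keya keyv
  set R' := R.map π with hR'
  have hR'n : R'.Normal := Subgroup.Normal.map inferInstance π (QuotientGroup.mk'_surjective P)
  have hR'odd : Odd (Nat.card R') := by
    obtain ⟨k, hk⟩ := card_map_dvd R π
    rw [hk] at hR
    exact (Nat.odd_mul.1 hR).1
  have hR's : Group.IsSolvable R' := by
    have := hs
    exact Group.isSolvable_of_surjective (f := π.subgroupMap R) (π.subgroupMap_surjective R)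
  set F := fittingOf R' with hF
  have hFR : F ≤ R' := FitAux.fittingOf_le R'
  have hFn' : ∀ g : G ⧸ P, g ∈ normalizer (F : Set (G ⧸ P)) := fun g => by
    apply normalizer_le_normalizer_fittingOf R'
    rw [normalizer_eq_top_iff.2 hR'n]; trivial
  set z' := π z with hz'
  set a' := π a with ha'
  have hz'z : z' * z' = 1 := by rw [hz', ← map_mul, hz, map_one]
  have ha'a : a' * a' = 1 := by rw [ha', ← map_mul, ha, map_one]
  have hza' : z' * a' = a' * z' := by rw [hz', ha', ← map_mul, hza, map_mul]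
  set D := ⁅F, zpowers z'⁆ with hD
  have hcop : (Nat.card (zpowers z')).Coprime (Nat.card R') := by
    have h1 : Nat.card (zpowers z') ∣ 2 := by
      rw [Nat.card_zpowers]
      exact orderOf_dvd_of_pow_eq_one (by rw [pow_two, hz'z])
    exact Nat.Coprime.coprime_dvd_left h1 (Nat.coprime_two_left.2 hR'odd)
  have hcopF : (Nat.card (zpowers z')).Coprime (Nat.card F) :=
    Nat.Coprime.coprime_dvd_right (card_dvd_of_le hFR) hcop
  have hzF : zpowers z' ≤ normalizer (F : Set (G ⧸ P)) := fun g _ => hFn' g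
  have hDF : D ≤ F := Lib.CoprimeCommutator.commutator_le_left hzF
  have hDodd : Odd (Nat.card D) := odd_of_le (hDF.trans hFR) hR'odd
  have hDD : ⁅D, zpowers z'⁆ = D := Lib.CoprimeCommutator.commutator_commutator_eq _ _ hzF hcopF
  have hDnorm : ∀ g : G ⧸ P, g * z' = z' * g → g ∈ normalizer (D : Set (G ⧸ P)) := by
    intro g hg
    rw [mem_normalizer_iff_cj, hD, cj_commutator, LemmaUQ.In.cj_eq_of_normalizer (hFn' g), Parab.cj_zpowers,
      hg, mul_inv_cancel_right]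
  have hDbot : D = ⊥ := by
    apply eq_bot_of_le_commutator
    · have := hR's
      exact Group.isSolvable_of_isSolvable_injective (f := inclusion (hDF.trans hFR)) (inclusion_injective _)
    · refine Av.le_commutator hDodd hz'z ha'a hza' (hDnorm z' rfl) (hDnorm a' hza'.symm) hDD ?_ ?_
      · intro d hd hda
        exact keya d hd hda
      · intro d hd hda
        refine keyv d hd ?_
        rw [map_mul]; exact hda
  have hcent : zpowers z' ≤ centralizer (R' : Set (G ⧸ P)) := by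
    refine le_centralizer_of_centralizes_fitting (fun g _ => by rw [normalizer_eq_top_iff.2 hR'n]; trivial)
      hR's hcop ?_
    rw [← commutator_eq_bot_iff_le_centralizer, commutator_comm]
    exact hDbot
  have hle : ⁅R, zpowers z⁆ ≤ P := by
    rw [commutator_le]
    rintro r hr _ ⟨k, rfl⟩
    rw [← hker, map_commutatorElement, commutatorElement_eq_one_iff_mul_comm]
    have h1 := hcent (zpow_mem (mem_zpowers z') k)
    rw [mem_centralizer_iff] at h1
    have h2 := h1 (π r) (mem_map_of_mem _ hr)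
    change π r * π (z ^ k) = π (z ^ k) * π r
    rw [map_zpow]
    exact h2
  exact hpP.to_le hle

theorem isPGroup_of_solvable [Finite G] {p : ℕ} [Fact p.Prime] {R : Subgroup G}
    {z a : G} (hR : Odd (Nat.card R)) (hs : Group.IsSolvable R) (hz : z * z = 1) (ha : a * a = 1)
    (hza : z * a = a * z) (hzR : z ∈ normalizer (R : Set G)) (haR : a ∈ normalizer (R : Set G))
    (hca : IsPGroup p (⁅R ⊓ centralizer {a}, zpowers z⁆ : Subgroup G))
    (hcv : IsPGroup p (⁅R ⊓ centralizer {z * a}, zpowers z⁆ : Subgroup G)) :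
    IsPGroup p (⁅R, zpowers z⁆ : Subgroup G) := by
  set N := normalizer (R : Set G) with hN
  have hRN : R ≤ N := le_normalizer
  set ι := N.subtype with hι
  have hinj : Function.Injective ι := N.subtype_injective
  have hmR : (R.subgroupOf N).map ι = R := map_subgroupOf_eq_of_le hRN
  have hn : (R.subgroupOf N).Normal := normal_subgroupOf_iff_le_normalizer hRN |>.2 le_rfl
  have hzp : ∀ g : N, (zpowers g).map ι = zpowers (g : G) := fun g => MonoidHom.map_zpowers ι g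
  have hmcl : ∀ w : N, (R.subgroupOf N ⊓ centralizer {w}).map ι = R ⊓ centralizer {(w : G)} := by
    intro w
    ext x
    constructor
    · rintro ⟨y, ⟨hy1, hy2⟩, rfl⟩
      refine ⟨hy1, ?_⟩
      have h1 : y ∈ centralizer {w} := hy2
      rw [mem_centralizer_singleton_iff] at h1
      change (y : G) ∈ centralizer {(w : G)}
      rw [mem_centralizer_singleton_iff]
      exact congrArg Subtype.val h1
    · rintro ⟨hx1, hx2⟩
      refine ⟨⟨x, hRN hx1⟩, ⟨hx1, ?_⟩, rfl⟩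
      have h1 : x ∈ centralizer {(w : G)} := hx2
      rw [mem_centralizer_singleton_iff] at h1
      change (⟨x, hRN hx1⟩ : N) ∈ centralizer {w}
      rw [mem_centralizer_singleton_iff]
      exact Subtype.ext h1
  have hmap : ∀ w : N, (⁅R.subgroupOf N ⊓ centralizer {w}, zpowers (⟨z, hzR⟩ : N)⁆ : Subgroup N).map ι =
      ⁅R ⊓ centralizer {(w : G)}, zpowers z⁆ := by
    intro w
    rw [map_commutator, hmcl, hzp]
  have hpg : ∀ w : N, IsPGroup p (⁅R ⊓ centralizer {(w : G)}, zpowers z⁆ : Subgroup G) →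
      IsPGroup p (⁅R.subgroupOf N ⊓ centralizer {w}, zpowers (⟨z, hzR⟩ : N)⁆ : Subgroup N) := by
    intro w hw
    have h2 := (equivMapOfInjective (⁅R.subgroupOf N ⊓ centralizer {w}, zpowers (⟨z, hzR⟩ : N)⁆ : Subgroup N)
      ι hinj)
    refine IsPGroup.of_equiv ?_ h2.symm
    rw [hmap]; exact hw
  have key := isPGroup_of_normal (G := N) (p := p) (R := R.subgroupOf N)
    (z := ⟨z, hzR⟩) (a := ⟨a, haR⟩) (by
      rw [Nat.card_congr (subgroupOfEquivOfLe hRN).toEquiv]; exact hR) (by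
      have := hs
      exact Group.isSolvable_of_isSolvable_injective (f := (subgroupOfEquivOfLe hRN).toMonoidHom)
        (subgroupOfEquivOfLe hRN).injective) (Subtype.ext hz) (Subtype.ext ha) (Subtype.ext hza)
      (hpg _ hca) (hpg _ hcv)
  have h1 : (⁅R.subgroupOf N, zpowers (⟨z, hzR⟩ : N)⁆ : Subgroup N).map ι = ⁅R, zpowers z⁆ := by
    rw [map_commutator, hmR, hzp]
  rw [← h1]
  exact key.map ι

/-! ### The commutator subgroup -/

namespace In

variable {R X : Subgroup G} {z a : G}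

theorem vv (h : In R X z a) : z * a * (z * a) = 1 := by
  calc z * a * (z * a) = z * (a * z) * a := by group
    _ = (z * z) * (a * a) := by rw [← h.za]; group
    _ = 1 := by rw [h.zz, h.aa, one_mul]

theorem zv (h : In R X z a) : z * (z * a) = z * a * z := by
  calc z * (z * a) = z * (a * z) := by rw [← h.za]
    _ = _ := by group

theorem D_le (h : In R X z a) : DD R z ≤ R :=
  Lib.CoprimeCommutator.commutator_le_left (zpowers_le.2 h.zR)

theorem norm_D (h : In R X z a) {w : G} (hw : w * z = z * w) (hR : w ∈ normalizer (R : Set G)) :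
    w ∈ normalizer (DD R z : Set G) := by
  rw [mem_normalizer_iff_cj, DD, cj_commutator, LemmaUQ.In.cj_eq_of_normalizer hR, Parab.cj_zpowers, hw,
    mul_inv_cancel_right]

theorem z_D (h : In R X z a) : z ∈ normalizer (DD R z : Set G) := h.norm_D rfl h.zR

theorem a_D (h : In R X z a) : a ∈ normalizer (DD R z : Set G) := h.norm_D h.za.symm h.aR

theorem v_D (h : In R X z a) : z * a ∈ normalizer (DD R z : Set G) := mul_mem h.z_D h.a_D

/-- elements of `⁅C_R(w), z⁆` commute with `w` -/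
theorem Qw_comm (h : In R X z a) {w q : G} (hw : z * w = w * z) (hq : q ∈ Qw R z w) : q * w = w * q := by
  have h1 : zpowers z ≤ normalizer ((R ⊓ centralizer {w} : Subgroup G) : Set G) := by
    rw [zpowers_le]
    have hz1 : z⁻¹ * w * z = w := by rw [mul_assoc, ← hw]; group
    have hz2 : z * w * z⁻¹ = w := by rw [hw]; group
    refine mem_normalizer_of_forall ?_ ?_
    · rintro x ⟨hx1, hx2⟩
      refine ⟨conj_mem_of_normalizer h.zR hx1, ?_⟩
      have h3 := mem_centralizer_singleton_iff.1 hx2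
      change z * x * z⁻¹ ∈ centralizer {w}
      rw [mem_centralizer_singleton_iff]
      calc z * x * z⁻¹ * w = z * x * (z⁻¹ * w * z) * z⁻¹ := by group
        _ = z * (x * w) * z⁻¹ := by rw [hz1]; group
        _ = (z * w * z⁻¹) * (z * x * z⁻¹) := by rw [h3]; group
        _ = w * (z * x * z⁻¹) := by rw [hz2]
    · rintro x ⟨hx1, hx2⟩
      refine ⟨inv_conj_mem_of_normalizer h.zR hx1, ?_⟩
      have h3 := mem_centralizer_singleton_iff.1 hx2
      change z⁻¹ * x * z ∈ centralizer {w}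
      rw [mem_centralizer_singleton_iff]
      calc z⁻¹ * x * z * w = z⁻¹ * x * (z * w * z⁻¹) * z := by group
        _ = z⁻¹ * (x * w) * z := by rw [hz2]; group
        _ = (z⁻¹ * w * z) * (z⁻¹ * x * z) := by rw [h3]; group
        _ = w * (z⁻¹ * x * z) := by rw [hz1]
  have h2 := Lib.CoprimeCommutator.commutator_le_left h1 hq
  exact mem_centralizer_singleton_iff.1 h2.2

theorem Qw_le_D {w : G} : Qw R z w ≤ DD R z := Subgroup.commutator_mono inf_le_left le_rfl

/-- `D'` -/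
def D' (_ : In R X z a) : Subgroup G := ⁅DD R z, DD R z⁆

/-- `⁅D', D⁆` -/
def C (_ : In R X z a) : Subgroup G := ⁅⁅DD R z, DD R z⁆, DD R z⁆

theorem D'_le (h : In R X z a) : h.D' ≤ DD R z := Subgroup.commutator_le_self _

theorem C_le (h : In R X z a) : h.C ≤ h.D' := Subgroup.commutator_mono h.D'_le le_rfl

theorem sec (h : In R X z a) : Sec (DD R z) h.D' := Sec.self _

theorem norm_D' (h : In R X z a) {w : G} (hw : w ∈ normalizer (DD R z : Set G)) :
    w ∈ normalizer (h.D' : Set G) := normalizer_commutator hw hw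

theorem norm_C (h : In R X z a) {w : G} (hw : w ∈ normalizer (DD R z : Set G)) :
    w ∈ normalizer (h.C : Set G) := normalizer_commutator (h.norm_D' hw) hw

theorem actz (h : In R X z a) : Act (DD R z) h.D' z := Act.of_normalizer h.zz h.z_D (h.norm_D' h.z_D)

theorem acta (h : In R X z a) : Act (DD R z) h.D' a := Act.of_normalizer h.aa h.a_D (h.norm_D' h.a_D)

theorem actv (h : In R X z a) : Act (DD R z) h.D' (z * a) := Act.of_normalizer h.vv h.v_D (h.norm_D' h.v_D)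

variable [Finite G]

theorem D_odd (h : In R X z a) : Odd (Nat.card (DD R z)) := card_odd_of_le h.odd h.D_le

theorem D_comm (h : In R X z a) : ⁅DD R z, zpowers z⁆ = DD R z := by
  refine Lib.CoprimeCommutator.commutator_commutator_eq _ _ (zpowers_le.2 h.zR) ?_
  have h1 : Nat.card (zpowers z) ∣ 2 := by
    rw [Nat.card_zpowers]
    exact orderOf_dvd_of_pow_eq_one (by rw [pow_two, h.zz])
  exact Nat.Coprime.coprime_dvd_left h1 (Nat.coprime_two_left.2 h.odd)

/-- `z` inverts `D / D'`. -/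
theorem inverts (h : In R X z a) : ∀ x ∈ DD R z, z * x * z⁻¹ * x ∈ h.D' :=
  inverts_of_commutator h.sec h.actz h.D_comm

theorem fix_mem (h : In R X z a) {c : G} (hc : c ∈ DD R z) (hz : c * z = z * c) : c ∈ h.D' :=
  Weights.mem_of_commute h.D_odd h.inverts hc hz

/-- `C_D(w) ≤ D' Q_w`. -/
theorem fix_w (h : In R X z a) {w c : G} (hc : c ∈ DD R z) (hw : c * w = w * c) :
    c ∈ h.D' ⊔ Qw R z w := by
  refine Weights.mem_of_sq_mem h.D_odd hc ?_
  have h1 : ⁅c, z⁆ ∈ Qw R z w :=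
    Subgroup.commutator_mem_commutator ⟨h.D_le hc, mem_centralizer_singleton_iff.2 hw⟩ (mem_zpowers z)
  have h2 := h.inverts _ ((DD R z).inv_mem hc)
  have h6 : c * c = (c * (z * c⁻¹ * z⁻¹ * c⁻¹)⁻¹ * c⁻¹) * ⁅c, z⁆ := by
    simp [commutatorElement_def, mul_assoc]
  rw [h6]
  refine mul_mem ((le_sup_left : h.D' ≤ _) ?_) ((le_sup_right : Qw R z w ≤ _) h1)
  exact h.sec.conj_mem hc (inv_mem h2)

/-- `a` centralises `D' / ⁅D', D⁆`. -/
theorem a_triv (h : In R X z a) {d : G} (hd : d ∈ h.D') : a * d * a⁻¹ * d⁻¹ ∈ h.C := by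
  have h1 := fix_commutator h.actz h.inverts d hd
  have hzC : ∀ x ∈ h.C, z * x * z⁻¹ ∈ h.C := fun x hx => conj_mem_of_normalizer (h.norm_C h.z_D) hx
  obtain ⟨n, hn, hc⟩ := exists_commute (card_odd_of_le h.D_odd (h.C_le.trans h.D'_le)) h.zz hzC h1
  have h2 := h.fix _ ((DD R z).mul_mem (h.D'_le (h.C_le hn)) (h.D'_le hd)) hc
  have h3 : a * d * a⁻¹ * d⁻¹ = (a * n * a⁻¹)⁻¹ * (a * (n * d) * a⁻¹) * d⁻¹ := by group
  have h4 : a * (n * d) * a⁻¹ = n * d := by rw [← h2]; group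
  have h5 : a * d * a⁻¹ * d⁻¹ = (a * n * a⁻¹)⁻¹ * n := by rw [h3, h4]; group
  rw [h5]
  exact mul_mem (inv_mem (conj_mem_of_normalizer (h.norm_C h.a_D) hn)) hn

/-- `D = D' Q_a Q_v` -/
theorem gen (h : In R X z a) : DD R z ≤ h.D' ⊔ (Qw R z a ⊔ Qw R z (z * a)) := by
  intro u hu
  set S := h.D' ⊔ (Qw R z a ⊔ Qw R z (z * a)) with hS
  have hDS : h.D' ≤ S := le_sup_left
  have hlift : ∀ w : G, Act (DD R z) h.D' w → Qw R z w ≤ S → ∀ t ∈ DD R z,
      w * t * w⁻¹ * t⁻¹ ∈ h.D' → t ∈ S := by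
    intro w hact hQ t ht htw
    obtain ⟨n, hn, hc⟩ := exists_commute (card_odd_of_le h.D_odd h.D'_le) hact.sq hact.mN htw
    have h1 := h.fix_w ((DD R z).mul_mem (h.D'_le hn) ht) hc
    have h2 : n * t ∈ S := (sup_le hDS hQ) h1
    have h3 : t = n⁻¹ * (n * t) := by group
    rw [h3]
    exact mul_mem (inv_mem (hDS hn)) h2
  refine Weights.mem_of_sq_mem h.D_odd hu ?_
  refine sq_mem h.sec h.acta hDS hu ?_ ?_
  · have ht := (mem_eig_false (fun h : False => h)).mp
      (mul_conj_mem_eig (h := h.sec) (hz := h.acta) (s := False) (fun h => h) hu)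
    exact hlift a h.acta (le_sup_left.trans le_sup_right) _ ht.1 ht.2
  · have ht := (mem_eig_true trivial).mp
      (mul_inv_conj_mem_eig (h := h.sec) (hz := h.acta) (s := True) trivial hu)
    set t := u * (a * u * a⁻¹)⁻¹ with htdef
    refine hlift (z * a) h.actv (le_sup_right.trans le_sup_right) t ht.1 ?_
    have h1 := h.inverts _ ((DD R z).inv_mem ht.1)
    have h2 : z * (a * t * a⁻¹ * t) * z⁻¹ ∈ h.D' := h.actz.mN _ ht.2
    have h3 : z * a * t * (z * a)⁻¹ * t⁻¹ = (z * (a * t * a⁻¹ * t) * z⁻¹) * (z * t⁻¹ * z⁻¹ * t⁻¹) := by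
      group
    rw [h3]
    exact mul_mem h2 h1

theorem D_C (h : In R X z a) {d : G} (hd : d ∈ DD R z) : d ∈ normalizer (h.C : Set G) :=
  h.norm_C (le_normalizer hd)

/-- `D'` is central modulo `C` -/
theorem comm_C (h : In R X z a) {c d : G} (hc : c ∈ h.D') (hd : d ∈ DD R z) : ⁅c, d⁆ ∈ h.C :=
  Subgroup.commutator_mem_commutator hc hd

/-- `⁅Q_v, Q_a⁆ ≤ C` -/
theorem cross (h : In R X z a) {r q : G} (hr : r ∈ Qw R z (z * a)) (hq : q ∈ Qw R z a) : ⁅r, q⁆ ∈ h.C := by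
  have hrD : r ∈ DD R z := Qw_le_D hr
  have hqD : q ∈ DD R z := Qw_le_D hq
  have hrv := h.Qw_comm h.zv hr
  have hqa := h.Qw_comm h.za hq
  have hd : ⁅r, q⁆ ∈ h.D' := Subgroup.commutator_mem_commutator hrD hqD
  -- `a r a⁻¹ = r⁻¹ n`, `n ∈ D'`
  have hz1 : z⁻¹ = z := inv_eq_of_mul_eq_one_left h.zz
  have h1 : a * r * a⁻¹ = z * r * z⁻¹ := by
    have h2 : z * a * r * (z * a)⁻¹ = r := by rw [← hrv]; group
    have h3 : a * r * a⁻¹ = z⁻¹ * (z * a * r * (z * a)⁻¹) * z := by group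
    rw [h3, h2, hz1]
  have h2 : r * (a * r * a⁻¹) ∈ h.D' := by
    rw [h1]
    have h3 : r * (z * r * z⁻¹) = r * (z * r * z⁻¹ * r) * r⁻¹ := by group
    rw [h3]
    exact h.sec.conj_mem hrD (h.inverts r hrD)
  set n := r * (a * r * a⁻¹) with hn
  have h3 : a * r * a⁻¹ = r⁻¹ * n := by rw [hn]; group
  have h4 : a * ⁅r, q⁆ * a⁻¹ = ⁅r⁻¹ * n, q⁆ := by
    have h5 : a * q * a⁻¹ = q := by rw [← hqa]; group
    have h6 : a * ⁅r, q⁆ * a⁻¹ = ⁅a * r * a⁻¹, a * q * a⁻¹⁆ := by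
      simp only [commutatorElement_def]; group
    rw [h6, h5, h3]
  -- `⁅r⁻¹ n, q⁆ = r⁻¹ ⁅n, q⁆ r · ⁅r⁻¹, q⁆`
  have h5 : ⁅r⁻¹ * n, q⁆ = (r⁻¹ * ⁅n, q⁆ * r) * (r⁻¹ * ⁅r, q⁆⁻¹ * r) := by
    simp only [commutatorElement_def]; group
  have h6 : r⁻¹ * ⁅n, q⁆ * r ∈ h.C := by
    have := conj_mem_of_normalizer (h.D_C ((DD R z).inv_mem hrD)) (h.comm_C h2 hqD)
    rwa [inv_inv] at this
  have h7 := h.a_triv hd
  rw [h4, h5] at h7
  have h8 : (r⁻¹ * ⁅r, q⁆⁻¹ * r) * ⁅r, q⁆ ∈ h.C := by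
    have hd' : ⁅⁅r, q⁆⁻¹, r⁻¹⁆ ∈ h.C := h.comm_C (inv_mem hd) ((DD R z).inv_mem hrD)
    have h9 : (r⁻¹ * ⁅r, q⁆⁻¹ * r) * ⁅r, q⁆ = ⁅⁅r, q⁆⁻¹, r⁻¹⁆⁻¹ := by
      simp only [commutatorElement_def]; group
    rw [h9]
    exact inv_mem hd'
  refine Weights.mem_of_sq_mem h.D_odd (h.D'_le hd) ?_
  have h9 : ⁅r, q⁆ * ⁅r, q⁆ = ((r⁻¹ * ⁅n, q⁆ * r) * (r⁻¹ * ⁅r, q⁆⁻¹ * r) * ⁅r, q⁆⁻¹)⁻¹ *
      ((r⁻¹ * ⁅n, q⁆ * r) * ((r⁻¹ * ⁅r, q⁆⁻¹ * r) * ⁅r, q⁆)) := by group
  rw [h9]
  exact mul_mem (inv_mem h7) (mul_mem h6 h8)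

/-- (1) `D` is a `p`-group. -/
theorem isPGroup (h : In R X z a) {p : ℕ} [Fact p.Prime] (hs : Group.IsSolvable R)
    (h1 : IsPGroup p (Qw R z a)) (h2 : IsPGroup p (Qw R z (z * a))) : IsPGroup p (DD R z) :=
  isPGroup_of_solvable h.odd hs h.zz h.aa h.za h.zR h.aR h1 h2

/-- (2) `⁅D, D⁆ ≤ X` -/
theorem commutator_le (h : In R X z a) {p : ℕ} [Fact p.Prime] (hD : IsPGroup p (DD R z))
    (h1 : ⁅Qw R z a, Qw R z a⁆ ≤ X) (h2 : ⁅Qw R z (z * a), Qw R z (z * a)⁆ ≤ X) : ⁅DD R z, DD R z⁆ ≤ X := by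
  set D := DD R z with hDdef
  set N := (X ⊓ D) ⊔ h.C with hN
  have hCN : h.C ≤ N := le_sup_right
  have hDN : ∀ g ∈ D, g ∈ normalizer (N : Set G) := by
    intro g hg
    have h1 : g ∈ normalizer ((X ⊓ D : Subgroup G) : Set G) := by
      refine mem_normalizer_of_forall ?_ ?_
      · rintro x ⟨hx1, hx2⟩
        have h2 : g * x * g⁻¹ = x := by rw [← h.XR x hx1 g (h.D_le hg)]; group
        rw [h2]; exact ⟨hx1, hx2⟩
      · rintro x ⟨hx1, hx2⟩
        have h2 : g⁻¹ * x * g = x := by rw [mul_assoc, h.XR x hx1 g (h.D_le hg)]; group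
        rw [h2]; exact ⟨hx1, hx2⟩
    rw [mem_normalizer_iff_cj, hN, cj_sup, LemmaUQ.In.cj_eq_of_normalizer h1,
      LemmaUQ.In.cj_eq_of_normalizer (h.D_C hg)]
  -- the elements `u` with `⁅u, q⁆ ∈ N`
  have hsub : ∀ q ∈ D, ∀ S : Subgroup G, S ≤ D → (∀ u ∈ S, ⁅u, q⁆ ∈ N) → ∀ T : Subgroup G, T ≤ D →
      (∀ u ∈ T, ⁅u, q⁆ ∈ N) → ∀ u ∈ S ⊔ T, ⁅u, q⁆ ∈ N := by
    intro q hq S hS hS' T hT hT'
    let M : Subgroup G :=
      { carrier := {v | v ∈ D ∧ ⁅v, q⁆ ∈ N}
        one_mem' := ⟨D.one_mem, by rw [commutatorElement_one_left]; exact N.one_mem⟩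
        mul_mem' := by
          rintro a b ⟨ha, ha'⟩ ⟨hb, hb'⟩
          refine ⟨D.mul_mem ha hb, ?_⟩
          have h1 : ⁅a * b, q⁆ = (a * ⁅b, q⁆ * a⁻¹) * ⁅a, q⁆ := by
            simp only [commutatorElement_def]; group
          rw [h1]
          exact N.mul_mem (conj_mem_of_normalizer (hDN a ha) hb') ha'
        inv_mem' := by
          rintro a ⟨ha, ha'⟩
          refine ⟨D.inv_mem ha, ?_⟩
          have h1 : ⁅a⁻¹, q⁆ = a⁻¹ * ⁅a, q⁆⁻¹ * a := by
            simp only [commutatorElement_def]; group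
          rw [h1]
          exact inv_conj_mem_of_normalizer (hDN a ha) (N.inv_mem ha') }
    have h3 : S ⊔ T ≤ M := sup_le (fun u hu => ⟨hS hu, hS' u hu⟩) fun u hu => ⟨hT hu, hT' u hu⟩
    exact fun u hu => (h3 hu).2
  have hXN : ∀ w : G, ⁅Qw R z w, Qw R z w⁆ ≤ X → ∀ u ∈ Qw R z w, ∀ q ∈ Qw R z w, ⁅u, q⁆ ∈ N := by
    intro w hw u hu q hq
    refine (le_sup_left : X ⊓ D ≤ N) ⟨hw (Subgroup.commutator_mem_commutator hu hq), ?_⟩
    exact h.D'_le (Subgroup.commutator_mem_commutator (Qw_le_D hu) (Qw_le_D hq))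
  have hD'N : ∀ u ∈ h.D', ∀ q ∈ D, ⁅u, q⁆ ∈ N := fun u hu q hq => hCN (h.comm_C hu hq)
  have hcross' : ∀ u ∈ Qw R z a, ∀ q ∈ Qw R z (z * a), ⁅u, q⁆ ∈ N := by
    intro u hu q hq
    have h3 := inv_mem (h.cross hq hu)
    rw [commutatorElement_inv] at h3
    exact hCN h3
  -- all commutators `⁅u, q⁆`, `q ∈ Q_a` or `q ∈ Q_v`
  have hall : ∀ q ∈ D, (∀ u ∈ Qw R z a, ⁅u, q⁆ ∈ N) → (∀ u ∈ Qw R z (z * a), ⁅u, q⁆ ∈ N) →
      ∀ u ∈ D, ⁅u, q⁆ ∈ N := by
    intro q hq h3 h4 u hu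
    refine hsub q hq h.D' h.D'_le (fun u hu => hD'N u hu q hq) (Qw R z a ⊔ Qw R z (z * a))
      (sup_le Qw_le_D Qw_le_D) (hsub q hq _ Qw_le_D h3 _ Qw_le_D h4) u (h.gen hu)
  have hA : ∀ q ∈ Qw R z a, ∀ u ∈ D, ⁅u, q⁆ ∈ N := fun q hq =>
    hall q (Qw_le_D hq) (fun u hu => hXN a h1 u hu q hq) fun u hu => hCN (h.cross hu hq)
  have hV : ∀ q ∈ Qw R z (z * a), ∀ u ∈ D, ⁅u, q⁆ ∈ N := fun q hq =>
    hall q (Qw_le_D hq) (fun u hu => hcross' u hu q hq) fun u hu => hXN (z * a) h2 u hu q hq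
  have hflip : ∀ q u : G, ⁅u, q⁆ ∈ N → ⁅q, u⁆ ∈ N := by
    intro q u h3
    rw [← commutatorElement_inv]; exact inv_mem h3
  have h3 : h.D' ≤ N := by
    change ⁅DD R z, DD R z⁆ ≤ N
    rw [Subgroup.commutator_le]
    intro u hu q hq
    refine hsub q hq h.D' h.D'_le (fun u hu => hD'N u hu q hq) (Qw R z a ⊔ Qw R z (z * a))
      (sup_le Qw_le_D Qw_le_D) (hsub q hq _ Qw_le_D (fun u hu => hflip _ _ (hA u hu q hq)) _ Qw_le_D
        (fun u hu => hflip _ _ (hV u hu q hq))) u (h.gen hu)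
  have h4 : h.D' ≤ X ⊓ D := by
    refine le_of_le_sup_commutator hD inf_le_right h.D'_le ?_ h3
    rintro q hq x ⟨hx1, hx2⟩
    have h3 : q * x * q⁻¹ = x := by rw [← h.XR x hx1 q (h.D_le hq)]; group
    rw [h3]; exact ⟨hx1, hx2⟩
  exact h4.trans inf_le_left

/-- (3) `C_D(z) ≤ X` -/
theorem mem_of_commute (h : In R X z a) {p : ℕ} [Fact p.Prime] (hD : IsPGroup p (DD R z))
    (h1 : ⁅Qw R z a, Qw R z a⁆ ≤ X) (h2 : ⁅Qw R z (z * a), Qw R z (z * a)⁆ ≤ X) {c : G}
    (hc : c ∈ DD R z) (hz : c * z = z * c) : c ∈ X := h.commutator_le hD h1 h2 (h.fix_mem hc hz)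

end In

end Cfsg.Agent.Cit.OmB3.Av
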