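import Cfsg.Agent.Cit.OmB3.Form

/-!
# The third factor acts as an orthogonal group (identification of `Ω₇(q)` and `Ω₈⁻(q)`)
-/

set_option autoImplicit false
set_option linter.unusedSectionVars false
set_option linter.unusedVariables false
set_option linter.dupNamespace false

namespace Cfsg.Agent.Cit.OmB3.Big

open scoped commutatorElement
open Module
open Cfsg.Agent.RootAmalgam (Onto Maps PairData)
open Cfsg.Agent.Cit.LemmaATwo Cfsg.Agent.Cit.OmB3.Side Cfsg.Agent.Cit.OmB3.Siegel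
  Cfsg.Agent.Cit.OmB3.Form
open Cfsg.Agent.Cit.OmB3.Form.Four (MG)

variable {G : Type*} [Group G] {F : Type*} [Field F]

/-- The centraliser of the two `SL₂`'s. -/
def CC (S1 S2 : SLSys F G) : Subgroup G where
  carrier := {g | (∀ t, S1.xp t * g = g * S1.xp t) ∧ (∀ t, S1.xm t * g = g * S1.xm t) ∧
    (∀ t, S2.xp t * g = g * S2.xp t) ∧ (∀ t, S2.xm t * g = g * S2.xm t)}
  mul_mem' := by
    rintro a b ⟨h1, h2, h3, h4⟩ ⟨k1, k2, k3, k4⟩
    exact ⟨fun t => Commute.mul_right (h1 t) (k1 t), fun t => Commute.mul_right (h2 t) (k2 t),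
      fun t => Commute.mul_right (h3 t) (k3 t), fun t => Commute.mul_right (h4 t) (k4 t)⟩
  one_mem' := ⟨fun t => Commute.one_right _, fun t => Commute.one_right _,
    fun t => Commute.one_right _, fun t => Commute.one_right _⟩
  inv_mem' := by
    rintro a ⟨h1, h2, h3, h4⟩
    exact ⟨fun t => Commute.inv_right (h1 t), fun t => Commute.inv_right (h2 t),
      fun t => Commute.inv_right (h3 t), fun t => Commute.inv_right (h4 t)⟩

theorem mem_CC {S1 S2 : SLSys F G} {g : G} : g ∈ CC S1 S2 ↔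
    (∀ t, S1.xp t * g = g * S1.xp t) ∧ (∀ t, S1.xm t * g = g * S1.xm t) ∧
    (∀ t, S2.xp t * g = g * S2.xp t) ∧ (∀ t, S2.xm t * g = g * S2.xm t) := Iff.rfl

theorem CC_swap (S1 S2 : SLSys F G) : CC S2 S1 = CC S1 S2 := by
  ext g
  rw [mem_CC, mem_CC]
  tauto

theorem CC_opp1 (S1 S2 : SLSys F G) : CC S1.opp S2 = CC S1 S2 := by
  ext g
  rw [mem_CC, mem_CC]
  show ((∀ t, S1.xm t * g = g * S1.xm t) ∧ (∀ t, S1.xp t * g = g * S1.xp t) ∧ _) ↔ _
  tauto

theorem CC_opp2 (S1 S2 : SLSys F G) : CC S1 S2.opp = CC S1 S2 := by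
  rw [CC_swap, CC_opp1, CC_swap]

section act

variable {S1 S2 : SLSys F G} {z : G} (D : Four S1 S2 z)

theorem h_CC {g : G} (hg : g ∈ CC S1 S2) {u : F} (hu : u ≠ 0) : S1.h u * g = g * S1.h u :=
  comm_h S1 hg.1 hg.2.1 hu

theorem w1_CC {g : G} (hg : g ∈ CC S1 S2) : S1.w * g = g * S1.w := comm_w S1 hg.1 hg.2.1
theorem w2_CC {g : G} (hg : g ∈ CC S1 S2) : S2.w * g = g * S2.w := comm_w S2 hg.2.2.1 hg.2.2.2

theorem dl_CC {g : G} (hg : g ∈ CC S1 S2) (u : F) (x : G) : dl S1 u (ac g x) = ac g (dl S1 u x) := by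
  by_cases hu : u = 0
  · subst hu; rw [dl_zero, dl_zero, ac_one]
  · rw [dl_ne S1 hu, dl_ne S1 hu, ac_ac, ac_ac, h_CC hg hu]

include D

theorem z_CC {g : G} (hg : g ∈ CC S1 S2) : z * g = g * z := by
  rw [← D.s1.hz]
  exact h_CC hg (neg_ne_zero.2 one_ne_zero)

theorem ac_mem_MM {g : G} (hg : g ∈ CC S1 S2) {x : G} : ac g x ∈ MM S1.A S2.A z ↔ x ∈ MM S1.A S2.A z := by
  apply mem_MM_ac
  · apply onto_of_comm
    rintro _ ⟨t, rfl⟩
    exact (hg.1 t).symm
  · apply onto_of_comm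
    rintro _ ⟨t, rfl⟩
    exact (hg.2.2.1 t).symm
  · exact ac_of_comm (z_CC D hg).symm

theorem ac_mem {g : G} (hg : g ∈ CC S1 S2) {x : G} : ac g x ∈ MG S1 S2 z ↔ x ∈ MG S1 S2 z := by
  rw [D.mem, D.mem, ac_mem_MM D hg]

/-- The representation of the centraliser. -/
noncomputable def rho : CC S1 S2 →* Module.End F D.V where
  toFun g :=
    { toFun := fun v => D.s1.dil.vec ⟨ac (g : G) (D.s1.dil.el v),
        (ac_mem D g.2).2 (Dil.el_mem _ _)⟩
      map_add' := fun v w => D.s1.dil.el_inj (ac_mul _ _ _)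
      map_smul' := fun u v => D.s1.dil.el_inj (dl_CC g.2 u _).symm }
  map_one' := by
    apply LinearMap.ext
    intro v
    exact D.s1.dil.el_inj (one_ac _)
  map_mul' g g' := by
    apply LinearMap.ext
    intro v
    exact D.s1.dil.el_inj (ac_ac _ _ _).symm

theorem el_rho (g : CC S1 S2) (v : D.V) : D.s1.dil.el (rho D g v) = ac (g : G) (D.s1.dil.el v) := rfl

theorem rho_isom [Finite F] (h2 : (2 : F) ≠ 0) (g : CC S1 S2) : Isom (D.beta h2) (rho D g) := by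
  intro u v
  apply S1.xp_injective
  rw [D.beta_apply, D.beta_apply, el_rho, el_rho]
  have h1 : ac S2.w (ac (g : G) (D.s1.dil.el v)) = ac (g : G) (ac S2.w (D.s1.dil.el v)) := by
    rw [ac_ac, ac_ac, w2_CC g.2]
  rw [h1, ← ac_comm, ← D.beta_apply h2]
  exact ac_of_comm (g.2.1 _).symm

end act

/-- The full configuration: four groups and the third factor. -/
structure Big (p m : ℕ) (S1 S2 : SLSys F G) (z : G) (Y Y' : Subgroup G) : Prop where
  four : Four S1 S2 z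
  hm : m = 3 ∨ m = 4
  card : Nat.card (MG S1 S2 z) = Nat.card F ^ m
  Yc : Y ≤ CC S1 S2
  Yc' : Y' ≤ CC S1 S2
  Yp : IsPGroup p Y
  Yp' : IsPGroup p Y'
  Ycard : Nat.card F ^ (m - 2) ≤ Nat.card Y
  Ycard' : Nat.card F ^ (m - 2) ≤ Nat.card Y'
  ne : ∀ y ∈ Y, y ≠ 1 → ∀ y' ∈ Y', y' ≠ 1 → ∃ x ∈ MG S1 S2 z, ac (y * y') x ≠ ac (y' * y) x

namespace Big

variable {p m : ℕ} {S1 S2 : SLSys F G} {z : G} {Y Y' : Subgroup G}

theorem MG_swap (S1 S2 : SLSys F G) (z : G) : MG S2 S1 z = MG S1 S2 z := by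
  unfold MG MS
  rw [MM_symm]

theorem symm (D : Big p m S1 S2 z Y Y') : Big p m S1 S2 z Y' Y where
  four := D.four
  hm := D.hm
  card := D.card
  Yc := D.Yc'
  Yc' := D.Yc
  Yp := D.Yp'
  Yp' := D.Yp
  Ycard := D.Ycard'
  Ycard' := D.Ycard
  ne y hy h1 y' hy' h1' := by
    obtain ⟨x, hx, h⟩ := D.ne y' hy' h1' y hy h1
    exact ⟨x, hx, h.symm⟩

theorem swap (D : Big p m S1 S2 z Y Y') : Big p m S2 S1 z Y Y' where
  four := D.four.swap
  hm := D.hm
  card := by rw [MG_swap]; exact D.card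
  Yc := by rw [CC_swap]; exact D.Yc
  Yc' := by rw [CC_swap]; exact D.Yc'
  Yp := D.Yp
  Yp' := D.Yp'
  Ycard := D.Ycard
  Ycard' := D.Ycard'
  ne := by rw [MG_swap]; exact D.ne

/-- `w₁` maps `M(+,+)` to `M(-,+)`. -/
theorem w1_mem (D : Four S1 S2 z) {x : G} : ac S1.w x ∈ MG S1.opp S2 z ↔ x ∈ MG S1 S2 z := by
  rw [D.mem, D.opp1.mem]
  exact D.s1.ac_w_C

theorem opp1 (D : Big p m S1 S2 z Y Y') : Big p m S1.opp S2 z Y Y' where
  four := D.four.opp1
  hm := D.hm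
  card := by
    rw [← D.card]
    refine Nat.card_congr ⟨fun x => ⟨ac S1.w⁻¹ x, ?_⟩, fun x => ⟨ac S1.w x, ?_⟩, ?_, ?_⟩
    · rw [← w1_mem D.four, ac_ac_inv]; exact x.2
    · exact (w1_mem D.four).2 x.2
    · intro x; exact Subtype.ext (ac_ac_inv _ _)
    · intro x; exact Subtype.ext (ac_inv_ac _ _)
  Yc := by rw [CC_opp1]; exact D.Yc
  Yc' := by rw [CC_opp1]; exact D.Yc'
  Yp := D.Yp
  Yp' := D.Yp'
  Ycard := D.Ycard
  Ycard' := D.Ycard'
  ne y hy h1 y' hy' h1' := by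
    obtain ⟨x, hx, h⟩ := D.ne y hy h1 y' hy' h1'
    refine ⟨ac S1.w x, (w1_mem D.four).2 hx, ?_⟩
    intro h3
    apply h
    have e1 := w1_CC (D.Yc hy)
    have e2 := w1_CC (D.Yc' hy')
    apply ac_inj (g := S1.w)
    rw [ac_ac, ac_ac, ← mul_assoc, e1, mul_assoc, e2, ← mul_assoc, ← ac_ac, h3, ac_ac, ← mul_assoc S1.w,
      e2, mul_assoc, mul_assoc, e1]

theorem opp2 (D : Big p m S1 S2 z Y Y') : Big p m S1 S2.opp z Y Y' := D.swap.opp1.swap

section pair

variable [Finite G] [Finite F] [Fact p.Prime] [CharP F p]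

/-- The representation of `Y`. -/
noncomputable def rY (D : Big p m S1 S2 z Y Y') : Y →* Module.End F D.four.V :=
  (rho D.four).comp (Subgroup.inclusion D.Yc)

theorem el_rY (D : Big p m S1 S2 z Y Y') (y : Y) (v : D.four.V) :
    D.four.s1.dil.el (D.rY y v) = ac (y : G) (D.four.s1.dil.el v) := rfl

theorem finrank_V (D : Big p m S1 S2 z Y Y') : finrank F D.four.V = m := by
  have h1 : Nat.card D.four.V = Nat.card F ^ finrank F D.four.V := Module.natCard_eq_pow_finrank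
  have h2 : Nat.card D.four.V = Nat.card F ^ m := D.card
  rw [h1] at h2
  exact Nat.pow_right_injective one_lt_card_F h2

theorem exists_ne (D : Big p m S1 S2 z Y Y') : ∃ y ∈ Y, y ≠ 1 := by
  by_contra hcon
  push Not at hcon
  have h1 : Nat.card Y ≤ 1 := by
    rw [Finite.card_le_one_iff_subsingleton]
    exact ⟨fun a b => Subtype.ext (by rw [hcon a a.2, hcon b b.2])⟩
  have h2 : 1 < Nat.card F ^ (m - 2) := Nat.one_lt_pow (by have := D.hm; omega) one_lt_card_F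
  have := D.Ycard
  omega

theorem rY_injective (D : Big p m S1 S2 z Y Y') : Function.Injective D.rY := by
  rw [injective_iff_map_eq_one]
  intro y hy
  by_contra hne
  obtain ⟨y', hy', h1'⟩ := D.symm.exists_ne
  obtain ⟨x, hx, h⟩ := D.ne y y.2 (fun h => hne (Subtype.ext h)) y' hy' h1'
  have h1 : ∀ x ∈ MG S1 S2 z, ac (y : G) x = x := by
    intro x hx
    obtain ⟨v, rfl⟩ := D.four.s1.dil.exists_el hx
    rw [← el_rY D, hy]; rfl
  apply h
  rw [← ac_ac, ← ac_ac, h1 x hx, h1]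
  exact (ac_mem D.four (D.Yc' hy')).2 hx

/-- The hyperbolic pair of the two groups `Y`, `Y'`. -/
structure Pr (D : Big p m S1 S2 z Y Y') (h2 : (2 : F) ≠ 0) (f f' : D.four.V) : Prop where
  hyp : Hyp (D.four.beta h2) f f'
  sie : ∀ y : Y, IsSiegel (D.four.beta h2) f f' (D.rY y)
  sie' : ∀ y : Y', IsSiegel (D.four.beta h2) f' f (D.symm.rY y)
  full : ∀ w ∈ V0 (D.four.beta h2) f f', ∃ y : Y, wv (D.four.beta h2) f f' (D.rY y) = w
  full' : ∀ w ∈ V0 (D.four.beta h2) f f', ∃ y : Y', wv (D.four.beta h2) f' f (D.symm.rY y) = w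
  aniso : ∀ w ∈ V0 (D.four.beta h2) f f', D.four.beta h2 w w = 0 → w = 0

theorem exists_pr (D : Big p m S1 S2 z Y Y') (h2 : (2 : F) ≠ 0) : ∃ f f', D.Pr h2 f f' := by
  have hfr := D.finrank_V
  obtain ⟨f, f', h3, h4, h5, h6, h7, h8⟩ := exists_pair D.rY (D.four.frm h2) h2
    (by rw [hfr]; exact D.hm) D.symm.rY D.Yp D.rY_injective (fun g => rho_isom D.four h2 _)
    (by rw [hfr]; exact D.Ycard) D.Yp' D.symm.rY_injective (fun g => rho_isom D.four h2 _)
    (by rw [hfr]; exact D.Ycard') (by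
      intro y y' hy hy' heq
      obtain ⟨x, hx, h⟩ := D.ne y y.2 (fun h => hy (Subtype.ext h)) y' y'.2
        (fun h => hy' (Subtype.ext h))
      apply h
      obtain ⟨v, rfl⟩ := D.four.s1.dil.exists_el hx
      have h9 := congrArg (fun a : Module.End F D.four.V => D.four.s1.dil.el (a v)) heq
      rw [← ac_ac, ← ac_ac]
      exact h9)
  exact ⟨f, f', h3, h4, h5, h6, h7, h8⟩

end pair

end Big

end Cfsg.Agent.Cit.OmB3.Big
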