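import Cfsg.Agent.Cit.OmB3.ClsOut
import Cfsg.Agent.Cit.TypeCOut
import Cfsg.Agent.Nodes.Ty

/-!
# The chart of type `B₃` of the group generated by the four groups `M`
-/

set_option autoImplicit false
set_option linter.unusedSectionVars false
set_option linter.unusedVariables false
set_option linter.dupNamespace false

namespace Cfsg.Agent.Cit.OmB3.ChartOut

open scoped commutatorElement
open Module
open CoxeterSystem Cfsg.Agent.ChevalleyStructure.CoxeterGeom Cfsg.Agent.Tits.Roots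
  Cfsg.Agent.Nodes.TypeC Cfsg.Agent.Nodes.TypeCForm Cfsg.Agent.Nodes.Reps
  Cfsg.Agent.Nodes.BNOf Cfsg.Agent.Nodes.Chart Cfsg.Agent.Nodes.RGDLib
  Cfsg.Agent.Nodes.Comb Cfsg.Agent.Nodes.KindBC Cfsg.Agent.Nodes.ClsOfPairs
  Cfsg.Agent.Nodes.ChartOfCls
open Cfsg.Agent.RootAmalgam (Onto Maps PairData mu_unique RD)
open Cfsg.Agent.Cit.LemmaATwo Cfsg.Agent.Cit.OmB3.Side
  Cfsg.Agent.Cit.OmB3.Form Cfsg.Agent.Cit.OmB3.Big Cfsg.Agent.Cit.OmB3.Split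
  Cfsg.Agent.Cit.OmB3.Third Cfsg.Agent.Cit.OmB3.Atwo Cfsg.Agent.Cit.OmB3.Mu
  Cfsg.Agent.Cit.OmB3.Zthree Cfsg.Agent.Cit.OmB3.Short Cfsg.Agent.Cit.OmB3.Ethree
  Cfsg.Agent.Cit.OmB3.Pairs Cfsg.Agent.Cit.OmB3.Rgd Cfsg.Agent.Cit.OmB3.Torus
  Cfsg.Agent.Cit.OmB3.Out Cfsg.Agent.Cit.OmB3.Table Cfsg.Agent.Cit.OmB3.ClsOut
open Cfsg.Agent.Cit.OmB3.Form.Four (MG)
open Cfsg.Agent.Cit (Hyp zz)

variable {G : Type*} [Group G] {F : Type*} [Field F]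
variable {p m : ℕ} {S1 S2 : SLSys F G} {z z3 : G} {Y Y' : Subgroup G}
  [Finite G] [Finite F] [Fact p.Prime] [CharP F p] {Om : Set (Subgroup G)}

/-- The group generated by the four groups `M`. -/
def G0 (S1 S2 : SLSys F G) (z : G) : Subgroup G :=
  (MG S1 S2 z ⊔ MG S1.opp S2 z) ⊔ (MG S1 S2.opp z ⊔ MG S1.opp S2.opp z)

theorem M1_le (S1 S2 : SLSys F G) (z : G) : MG S1 S2 z ≤ G0 S1 S2 z := le_sup_left.trans le_sup_left
theorem M2_le (S1 S2 : SLSys F G) (z : G) : MG S1.opp S2 z ≤ G0 S1 S2 z := le_sup_right.trans le_sup_left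
theorem M3_le (S1 S2 : SLSys F G) (z : G) : MG S1 S2.opp z ≤ G0 S1 S2 z := le_sup_left.trans le_sup_right
theorem M4_le (S1 S2 : SLSys F G) (z : G) : MG S1.opp S2.opp z ≤ G0 S1 S2 z :=
  le_sup_right.trans le_sup_right

section

variable (C : Cfg p m S1 S2 z z3 Y Y')

include C

theorem nel_mem {n : G} (hn : Nel S1 S2 z Y Y' n) : n ∈ G0 S1 S2 z :=
  (sup_le ((PP_le _ _).trans (M2_le _ _ _)) ((PP_le _ _).trans (M3_le _ _ _))) hn.mem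

theorem mem_of_nel {n x : G} (hn : Nel S1 S2 z Y Y' n) (hx : n * x * n⁻¹ ∈ G0 S1 S2 z) :
    x ∈ G0 S1 S2 z := by
  have h1 := nel_mem C hn
  have h3 : x = n⁻¹ * (n * x * n⁻¹) * n := by group
  rw [h3]
  exact mul_mem (mul_mem (inv_mem h1) hx) h1

theorem A1_le : S1.A ≤ G0 S1 S2 z := by
  obtain ⟨n, hn⟩ := exists_n C.D C.h2
  intro x hx
  exact mem_of_nel C hn (M1_le _ _ _ (PP_le _ _ (hn.a1.mem hx)))

theorem A1'_le : S1.A' ≤ G0 S1 S2 z := by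
  obtain ⟨n, hn⟩ := exists_n C.D C.h2
  intro x hx
  exact mem_of_nel C hn (M4_le _ _ _ (PP_le _ _ (hn.a1'.mem hx)))

theorem A2_le : S2.A ≤ G0 S1 S2 z := by
  obtain ⟨n, hn⟩ := exists_n C.D C.h2
  intro x hx
  exact mem_of_nel C hn (M1_le _ _ _ (PP_le _ _ (hn.a2.mem hx)))

theorem A2'_le : S2.A' ≤ G0 S1 S2 z := by
  obtain ⟨n, hn⟩ := exists_n C.D C.h2
  intro x hx
  exact mem_of_nel C hn (M4_le _ _ _ (PP_le _ _ (hn.a2'.mem hx)))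

theorem XX3_le_G0 : XX3 S1 S2 z Y (z3 * z) ≤ G0 S1 S2 z := by
  obtain ⟨n, hn⟩ := exists_n C.D C.h2
  intro x hx
  exact mem_of_nel C hn (M2_le _ _ _ (MZ_le' C.D.opp1 C.h2 ((onto_e3_e2 C.Z C.D C.h2 C.I hn).mem hx)))

theorem M_le {H : Subgroup G} (h1 : PP (MG S1 S2 z) Y ≤ H) (h3 : PP (MG S1 S2 z) Y' ≤ H)
    (h4 : MZ (MG S1 S2 z) Y Y' ≤ H) : MG S1 S2 z ≤ H := by
  obtain ⟨f, f', R⟩ := C.D.exists_pr C.h2
  intro x hx
  obtain ⟨a, ha, b, hb, c, hc, rfl⟩ := exists_decomp R hx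
  exact mul_mem (mul_mem (h1 ha) (h4 hb)) (h3 hc)

end

section G1

variable {W : Type*} [Group W] [Fintype W] {cs : CoxeterSystem (CoxeterMatrix.B 3) W}
  {X : (Fin 3 → ℤ) → Subgroup G}

theorem M_le' (D : Big p m S1 S2 z Y Y') (h2 : (2 : F) ≠ 0) {H : Subgroup G}
    (h1 : PP (MG S1 S2 z) Y ≤ H) (h3 : PP (MG S1 S2 z) Y' ≤ H)
    (h4 : MZ (MG S1 S2 z) Y Y' ≤ H) : MG S1 S2 z ≤ H := by
  obtain ⟨f, f', R⟩ := D.exists_pr h2
  intro x hx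
  obtain ⟨a, ha, b, hb, c, hc, rfl⟩ := exists_decomp R hx
  exact mul_mem (mul_mem (h1 ha) (h4 hb)) (h3 hc)

theorem G1_eq (C : Cfg p m S1 S2 z z3 Y Y') (Tb : Tab S1 S2 z z3 Y Y' X) :
    G1 cs (Nodes.TypeC.isCartan 3) X = G0 S1 S2 z := by
  apply le_antisymm
  · refine RGD.Sup_le fun x hx => ?_
    obtain ⟨a, b, hab, rfl⟩ := exists_rt hx
    have key : ∀ a b : Fin 3 × Bool, (a, b) ∈ L18 → X (rt a b) ≤ G0 S1 S2 z := by
      intro a b h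
      simp only [L18, List.mem_cons, Prod.mk.injEq, List.not_mem_nil, or_false] at h
      rcases h with ⟨rfl, rfl⟩ | ⟨rfl, rfl⟩ | ⟨rfl, rfl⟩ | ⟨rfl, rfl⟩ | ⟨rfl, rfl⟩ | ⟨rfl, rfl⟩ |
        ⟨rfl, rfl⟩ | ⟨rfl, rfl⟩ | ⟨rfl, rfl⟩ | ⟨rfl, rfl⟩ | ⟨rfl, rfl⟩ | ⟨rfl, rfl⟩ | ⟨rfl, rfl⟩ |
        ⟨rfl, rfl⟩ | ⟨rfl, rfl⟩ | ⟨rfl, rfl⟩ | ⟨rfl, rfl⟩ | ⟨rfl, rfl⟩
      · rw [Tb.k1]; exact A1_le C
      · rw [Tb.k1']; exact A1'_le C
      · rw [Tb.k2]; exact A2_le C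
      · rw [Tb.k2']; exact A2'_le C
      · rw [Tb.p1]; exact (PP_le _ _).trans (M1_le _ _ _)
      · rw [Tb.p1']; exact (PP_le _ _).trans (M1_le _ _ _)
      · rw [Tb.p2]; exact (PP_le _ _).trans (M2_le _ _ _)
      · rw [Tb.p2']; exact (PP_le _ _).trans (M2_le _ _ _)
      · rw [Tb.q2]; exact (PP_le _ _).trans (M3_le _ _ _)
      · rw [Tb.q2']; exact (PP_le _ _).trans (M3_le _ _ _)
      · rw [Tb.q1]; exact (PP_le _ _).trans (M4_le _ _ _)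
      · rw [Tb.q1']; exact (PP_le _ _).trans (M4_le _ _ _)
      · rw [Tb.s1]; exact (MZ_le' C.D C.h2).trans (M1_le _ _ _)
      · rw [Tb.s2]; exact (MZ_le' C.D.opp1 C.h2).trans (M2_le _ _ _)
      · rw [Tb.s2']; exact (MZ_le' C.D.opp2 C.h2).trans (M3_le _ _ _)
      · rw [Tb.s1']; exact (MZ_le' C.D.opp1.opp2 C.h2).trans (M4_le _ _ _)
      · rw [Tb.s3]; exact XX3_le_G0 C
      · rw [Tb.s3']; exact XX3_le_G0 C.symm
    rcases mem_L18 a b hab with h | h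
    · exact key a b h
    · rw [rt_comm]; exact key b a h
  · have hr : ∀ {a b : Fin 3 × Bool}, (a.1 ≠ b.1 ∨ a = b) →
        X (rt a b) ≤ G1 cs (Nodes.TypeC.isCartan 3) X := fun h => X_le_G1 (isRoot_rt cs h)
    refine sup_le (sup_le ?_ ?_) (sup_le ?_ ?_)
    · refine M_le' C.D C.h2 ?_ ?_ ?_
      · rw [← Tb.p1]; exact hr (by decide)
      · rw [← Tb.p1']; exact hr (by decide)
      · rw [← Tb.s1]; exact hr (by decide)
    · refine M_le' C.D.opp1 C.h2 ?_ ?_ ?_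
      · rw [← Tb.p2]; exact hr (by decide)
      · rw [← Tb.p2']; exact hr (by decide)
      · rw [← Tb.s2]; exact hr (by decide)
    · refine M_le' C.D.opp2 C.h2 ?_ ?_ ?_
      · rw [← Tb.q2]; exact hr (by decide)
      · rw [← Tb.q2']; exact hr (by decide)
      · rw [← Tb.s2']; exact hr (by decide)
    · refine M_le' C.D.opp1.opp2 C.h2 ?_ ?_ ?_
      · rw [← Tb.q1]; exact hr (by decide)
      · rw [← Tb.q1']; exact hr (by decide)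
      · rw [← Tb.s1']; exact hr (by decide)

end G1

theorem sr_mem_RB_iff (i : Fin 3) : (sr i : Fin 3 → ℤ) ∈ RB 3 ↔ (i : ℕ) + 1 < 3 := by
  have h0 : (sr 0 : Fin 3 → ℤ) ∈ RB 3 ↔ ((0 : Fin 3) : ℕ) + 1 < 3 :=
    iff_of_true (by rw [sr0]; exact rt_mem_RB (by decide)) (by decide)
  have h1 : (sr 1 : Fin 3 → ℤ) ∈ RB 3 ↔ ((1 : Fin 3) : ℕ) + 1 < 3 :=
    iff_of_true (by rw [sr1]; exact rt_mem_RB (by decide)) (by decide)
  have h2 : (sr 2 : Fin 3 → ℤ) ∈ RB 3 ↔ ((2 : Fin 3) : ℕ) + 1 < 3 := by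
    refine iff_of_false (fun hi => ?_) (by decide)
    have h1 : ip (ee (sr 2 : Fin 3 → ℤ)) (ee (sr 2 : Fin 3 → ℤ)) = 2 :=
      (mem_RB_iff_ip (CoxeterMatrix.B 3).toCoxeterSystem (isRoot_sr _ _ 2)).1 hi
    rw [sr2, ee_rt] at h1
    revert h1
    decide
  fin_cases i
  · exact h0
  · exact h1
  · exact h2

/-- **The chart of type `B₃` of `G₀`.** -/
theorem exists_chart {G : Type*} [Group G] {F : Type*} [Field F]
    {p m : ℕ} {S1 S2 : SLSys F G} {z z3 : G} {Y Y' : Subgroup G}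
    [Finite G] [Finite F] [Fact p.Prime] [CharP F p] {Om : Set (Subgroup G)}
    (hyp : Hyp Om) (C : Cfg p m S1 S2 z z3 Y Y') (hK1 : S1.A ⊔ S1.A' ∈ Om)
    (hp2 : p ≠ 2) (S : Sylow 2 G) (hF : ∀ K ∈ Cit.OmS Om (S : Subgroup G), ∃ g ∈ G0 S1 S2 z,
      K = Cit.cj g (S1.A ⊔ S1.A') ∨ K = Cit.cj g (S2.A ⊔ S2.A')) :
    ∃ c : Chart Om p (G0 S1 S2 z), c.IsTy (.B 3) ∧ (∀ r ∈ c.R, c.Z r = c.X r) := by
  let cs := (CoxeterMatrix.B 3).toCoxeterSystem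
  obtain ⟨T, n, X, R, h1, h3, h4, h5, h6⟩ := exists_rgd3 C hp2 cs
  have Tb := tab C R h1 h3 h4
  have Cl := ClsOut.cls hyp C hK1 R Tb hp2
  have hs0 : (sr 0 : Fin 3 → ℤ) ∈ RB 3 := by rw [sr0]; exact rt_mem_RB (by decide)
  have hgen : G1 cs (Nodes.TypeC.isCartan 3) X = G0 S1 S2 z := G1_eq C Tb
  have hT : T ≤ G0 S1 S2 z := by
    rw [← hgen]
    refine h5.trans (iSup_le fun i => sup_le ?_ ?_)
    · rw [← h1]; exact X_le_G1 (isRoot_sr cs _ i)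
    · rw [← h3]; exact X_le_G1 (isRoot_sr cs _ i).neg
  have hk1 : KK X (sr 0) = S1.A ⊔ S1.A' := by unfold KK; rw [nsr0, sr0, Tb.k1, Tb.k1']
  have hk2 : KK X (rt (0, true) (1, true)) = S2.A ⊔ S2.A' := by
    unfold KK
    have e : -(rt (0, true) (1, true) : Fin 3 → ℤ) = rt (0, false) (1, false) := by
      rw [← rt_ng]; rfl
    rw [e, Tb.k2, Tb.k2']
  let c : Chart Om p (G0 S1 S2 z) := chartOfCls hyp S Fact.out hp2 Cl TypeCOut.irr ⟨0⟩ hT hgen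
    (trans_RB cs) ⟨_, hs0⟩ (fun i hi => om_simple hyp C hK1 R Tb hi) (by
      intro K hK
      obtain ⟨g, hg, h | h⟩ := hF K hK
      · exact ⟨sr 0, hs0, g, hg, by rw [hk1]; exact h⟩
      · exact ⟨rt (0, true) (1, true), rt_mem_RB (by decide), g, hg, by rw [hk2]; exact h⟩)
  refine ⟨c, ⟨Equiv.refl (Fin 3), fun _ _ => rfl, fun (i : Fin 3) => ?_⟩, fun r _ => rfl⟩
  exact sr_mem_RB_iff i

end Cfsg.Agent.Cit.OmB3.ChartOut
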