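import Cfsg.Agent.Cit.OmB3.Table

/-!
# The chart of type `B₃`
-/

set_option autoImplicit false
set_option linter.unusedSectionVars false
set_option linter.unusedVariables false
set_option linter.dupNamespace false

namespace Cfsg.Agent.Cit.OmB3.ClsOut

open scoped commutatorElement
open Module
open CoxeterSystem Cfsg.Agent.ChevalleyStructure.CoxeterGeom Cfsg.Agent.Tits.Roots
  Cfsg.Agent.Nodes.TypeC Cfsg.Agent.Nodes.TypeCForm Cfsg.Agent.Nodes.Reps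
  Cfsg.Agent.Nodes.BNOf Cfsg.Agent.Nodes.Chart Cfsg.Agent.Nodes.RGDLib
  Cfsg.Agent.Nodes.Comb Cfsg.Agent.Nodes.KindBC Cfsg.Agent.Nodes.ClsOfPairs
  Cfsg.Agent.Nodes.ChartOfCls
open Cfsg.Agent.RootAmalgam (Onto Maps PairData mu_unique RD)
open Cfsg.Agent.Cit.LemmaATwo Cfsg.Agent.Cit.OmB3.Side
  Cfsg.Agent.Cit.OmB3.Form Cfsg.Agent.Cit.OmB3.Big Cfsg.Agent.Cit.OmB3.Split
  Cfsg.Agent.Cit.OmB3.Third Cfsg.Agent.Cit.OmB3.Atwo Cfsg.Agent.Cit.OmB3.Mu
  Cfsg.Agent.Cit.OmB3.Zthree Cfsg.Agent.Cit.OmB3.Short Cfsg.Agent.Cit.OmB3.Ethree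
  Cfsg.Agent.Cit.OmB3.Pairs Cfsg.Agent.Cit.OmB3.Rgd Cfsg.Agent.Cit.OmB3.Torus
  Cfsg.Agent.Cit.OmB3.Out Cfsg.Agent.Cit.OmB3.Table
open Cfsg.Agent.Cit.OmB3.Form.Four (MG)
open Cfsg.Agent.Cit (Hyp zz)

variable {G : Type*} [Group G] {F : Type*} [Field F]
variable {p m : ℕ} {S1 S2 : SLSys F G} {z z3 : G} {Y Y' : Subgroup G}
  [Finite G] [Finite F] [Fact p.Prime] [CharP F p] {Om : Set (Subgroup G)}

/-- The roots. -/
def L18 : List ((Fin 3 × Bool) × (Fin 3 × Bool)) :=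
  [((0, true), (1, false)), ((0, false), (1, true)), ((0, true), (1, true)), ((0, false), (1, false)),
   ((0, true), (2, true)), ((0, true), (2, false)), ((1, true), (2, true)), ((1, true), (2, false)),
   ((1, false), (2, true)), ((1, false), (2, false)), ((0, false), (2, true)), ((0, false), (2, false)),
   ((0, true), (0, true)), ((1, true), (1, true)), ((1, false), (1, false)), ((0, false), (0, false)),
   ((2, true), (2, true)), ((2, false), (2, false))]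

theorem mem_L18 : ∀ a b : Fin 3 × Bool, (a.1 ≠ b.1 ∨ a = b) → (a, b) ∈ L18 ∨ (b, a) ∈ L18 := by
  decide

section pair

variable (hyp : Hyp Om) (C : Cfg p m S1 S2 z z3 Y Y') (hK1 : S1.A ⊔ S1.A' ∈ Om)
  {W : Type*} [Group W] [Fintype W] {cs : CoxeterSystem (CoxeterMatrix.B 3) W} {T : Subgroup G}
  {n : Fin 3 → G} {X : (Fin 3 → ℤ) → Subgroup G}
  (R : RGD cs (Nodes.TypeC.isCartan 3) p T n X) (Tb : Tab S1 S2 z z3 Y Y' X)

include hyp C hK1 Tb

theorem zz_K1 : zz (S1.A ⊔ S1.A') = z := by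
  symm
  apply hyp.eq_zz hK1
  · rw [← C.D.four.s1.hz]; exact z_mem S1
  · exact z_sq C.D.four
  · exact z_ne C.D C.h2

theorem zf_sr0 : zf X (sr 0) = z := by
  unfold zf KK
  rw [nsr0, sr0, Tb.k1, Tb.k1']
  exact zz_K1 hyp C hK1 Tb

theorem pair_case {a b : Fin 3 × Bool} {P : Subgroup G} (hP : X (rt a b) = P) {e : ℤ}
    (he : ip (wt a + wt b) (wt (0, true) + wt (1, false)) = e)
    (hc : e < 0 ∨ ∀ x ∈ P, ∀ y ∈ S1.A, x * y = y * x) (hi : e = 0 ∨ ∀ x ∈ P, ac z x = x⁻¹) :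
    Pair cs (Nodes.TypeC.isCartan 3) X X (zf X) (rt a b) (sr 0) := by
  have hr : IsRoot cs (Nodes.TypeC.isCartan 3) (sr 0) := isRoot_sr cs _ 0
  have he' : ip (ee (rt a b)) (ee (sr 0 : Fin 3 → ℤ)) = e := by
    rw [sr0, ee_rt, ee_rt]; exact he
  constructor
  · intro h0 x hx y hy
    rw [form_nonneg_iff cs hr, he'] at h0
    rcases hc with hc | hc
    · omega
    · rw [hP] at hx
      rw [sr0, Tb.k1] at hy
      exact hc x hx y hy
  · intro h0 x hx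
    rw [Ne, form_eq_zero_iff cs hr, he'] at h0
    rcases hi with hi | hi
    · exact absurd hi h0
    · rw [zf_sr0 hyp C hK1 Tb]
      rw [hP] at hx
      have h1 := hi x hx
      have hz : z⁻¹ = z := inv_eq_of_mul_eq_one_right (z_sq C.D.four)
      unfold ac at h1
      rwa [hz] at h1

theorem pair_sr0 {y : Fin 3 → ℤ} (hy : IsRoot cs (Nodes.TypeC.isCartan 3) y) (h1 : y ≠ sr 0)
    (h3 : y ≠ -sr 0) : Pair cs (Nodes.TypeC.isCartan 3) X X (zf X) y (sr 0) := by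
  obtain ⟨a, b, hab, rfl⟩ := exists_rt hy
  rw [sr0] at h1
  rw [nsr0] at h3
  have hD := C.D
  have c1 : ∀ {Y Y' : Subgroup G}, Big p m S1 S2 z Y Y' → ∀ x ∈ MG S1 S2 z, ∀ y ∈ S1.A,
      x * y = y * x := fun D x hx y hy => (MG_A1 D hx hy).symm
  have c2 : ∀ x ∈ MG S1 S2.opp z, ∀ y ∈ S1.A, x * y = y * x :=
    fun x hx y hy => (MG_A1 C.D.opp2 hx hy).symm
  have i1 : ∀ x ∈ MG S1 S2 z, ac z x = x⁻¹ := fun x hx => MG_z C.D hx
  have i2 : ∀ x ∈ MG S1.opp S2 z, ac z x = x⁻¹ := fun x hx => MG_z C.D.opp1 hx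
  have i3 : ∀ x ∈ MG S1 S2.opp z, ac z x = x⁻¹ := fun x hx => MG_z C.D.opp2 hx
  have i4 : ∀ x ∈ MG S1.opp S2.opp z, ac z x = x⁻¹ := fun x hx => MG_z C.D.opp1.opp2 hx
  have cE : ∀ {Y : Subgroup G}, ∀ x ∈ XX3 S1 S2 z Y (z3 * z), ∀ y ∈ S1.A, x * y = y * x := by
    rintro Y x hx _ ⟨t, rfl⟩
    exact ((XX3_le _ _ _ _ _ hx).1 t).symm
  have key : ∀ a b : Fin 3 × Bool, (a, b) ∈ L18 → rt a b ≠ rt (0, true) (1, false) →
      rt a b ≠ rt (0, false) (1, true) →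
      Pair cs (Nodes.TypeC.isCartan 3) X X (zf X) (rt a b) (sr 0) := by
    intro a b h h1 h3
    simp only [L18, List.mem_cons, Prod.mk.injEq, List.not_mem_nil, or_false] at h
    rcases h with ⟨rfl, rfl⟩ | ⟨rfl, rfl⟩ | ⟨rfl, rfl⟩ | ⟨rfl, rfl⟩ | ⟨rfl, rfl⟩ | ⟨rfl, rfl⟩ |
      ⟨rfl, rfl⟩ | ⟨rfl, rfl⟩ | ⟨rfl, rfl⟩ | ⟨rfl, rfl⟩ | ⟨rfl, rfl⟩ | ⟨rfl, rfl⟩ | ⟨rfl, rfl⟩ |
      ⟨rfl, rfl⟩ | ⟨rfl, rfl⟩ | ⟨rfl, rfl⟩ | ⟨rfl, rfl⟩ | ⟨rfl, rfl⟩
    · exact absurd rfl h1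
    · exact absurd rfl h3
    · refine pair_case hyp C hK1 Tb Tb.k2 (e := 0) (by decide) (Or.inr ?_) (Or.inl rfl)
      rintro _ ⟨s, rfl⟩ _ ⟨t, rfl⟩
      exact (C.D.four.comm12 t s).symm
    · refine pair_case hyp C hK1 Tb Tb.k2' (e := 0) (by decide) (Or.inr ?_) (Or.inl rfl)
      rintro _ ⟨s, rfl⟩ _ ⟨t, rfl⟩
      exact (C.D.four.comm12' t s).symm
    · exact pair_case hyp C hK1 Tb Tb.p1 (e := 1) (by decide)
        (Or.inr fun x hx => c1 C.D x (PP_le _ _ hx)) (Or.inr fun x hx => i1 x (PP_le _ _ hx))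
    · exact pair_case hyp C hK1 Tb Tb.p1' (e := 1) (by decide)
        (Or.inr fun x hx => c1 C.D x (PP_le _ _ hx)) (Or.inr fun x hx => i1 x (PP_le _ _ hx))
    · exact pair_case hyp C hK1 Tb Tb.p2 (e := -1) (by decide)
        (Or.inl (by decide)) (Or.inr fun x hx => i2 x (PP_le _ _ hx))
    · exact pair_case hyp C hK1 Tb Tb.p2' (e := -1) (by decide)
        (Or.inl (by decide)) (Or.inr fun x hx => i2 x (PP_le _ _ hx))
    · exact pair_case hyp C hK1 Tb Tb.q2 (e := 1) (by decide)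
        (Or.inr fun x hx => c2 x (PP_le _ _ hx)) (Or.inr fun x hx => i3 x (PP_le _ _ hx))
    · exact pair_case hyp C hK1 Tb Tb.q2' (e := 1) (by decide)
        (Or.inr fun x hx => c2 x (PP_le _ _ hx)) (Or.inr fun x hx => i3 x (PP_le _ _ hx))
    · exact pair_case hyp C hK1 Tb Tb.q1 (e := -1) (by decide)
        (Or.inl (by decide)) (Or.inr fun x hx => i4 x (PP_le _ _ hx))
    · exact pair_case hyp C hK1 Tb Tb.q1' (e := -1) (by decide)
        (Or.inl (by decide)) (Or.inr fun x hx => i4 x (PP_le _ _ hx))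
    · exact pair_case hyp C hK1 Tb Tb.s1 (e := 2) (by decide)
        (Or.inr fun x hx => c1 C.D x (MZ_le' C.D C.h2 hx))
        (Or.inr fun x hx => i1 x (MZ_le' C.D C.h2 hx))
    · exact pair_case hyp C hK1 Tb Tb.s2 (e := -2) (by decide)
        (Or.inl (by decide)) (Or.inr fun x hx => i2 x (MZ_le' C.D.opp1 C.h2 hx))
    · exact pair_case hyp C hK1 Tb Tb.s2' (e := 2) (by decide)
        (Or.inr fun x hx => c2 x (MZ_le' C.D.opp2 C.h2 hx))
        (Or.inr fun x hx => i3 x (MZ_le' C.D.opp2 C.h2 hx))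
    · exact pair_case hyp C hK1 Tb Tb.s1' (e := -2) (by decide)
        (Or.inl (by decide)) (Or.inr fun x hx => i4 x (MZ_le' C.D.opp1.opp2 C.h2 hx))
    · exact pair_case hyp C hK1 Tb Tb.s3 (e := 0) (by decide) (Or.inr cE) (Or.inl rfl)
    · exact pair_case hyp C hK1 Tb Tb.s3' (e := 0) (by decide) (Or.inr cE) (Or.inl rfl)
  rcases mem_L18 a b hab with h | h
  · exact key a b h h1 h3
  · rw [rt_comm]
    rw [rt_comm] at h1 h3
    exact key b a h h1 h3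

include R

/-- `⟨X r, X (-r)⟩` is a member for the simple long roots. -/
theorem om_simple {i : Fin 3} (hi : (sr i : Fin 3 → ℤ) ∈ RB 3) : KK X (sr i) ∈ Om := by
  fin_cases i
  · show KK X (sr 0) ∈ Om
    unfold KK
    rw [nsr0, sr0, Tb.k1, Tb.k1']
    exact hK1
  · show KK X (sr 1) ∈ Om
    obtain ⟨g, hg⟩ := exists_gel C.Z C.D C.h2 C.I
    have h1 : cj g (S1.A ⊔ S1.A') = KK X (sr 1) := by
      unfold KK
      rw [nsr1, sr1, Tb.p2', Tb.q2, cj_sup, cj_eq_of_onto hg.a1, cj_eq_of_onto hg.a1']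
    rw [← h1]
    exact hyp.conj _ hK1 g
  · exfalso
    have h1 : ip (ee (sr 2 : Fin 3 → ℤ)) (ee (sr 2 : Fin 3 → ℤ)) = 2 :=
      (mem_RB_iff_ip cs (isRoot_sr cs _ 2)).1 hi
    rw [sr2, ee_rt] at h1
    revert h1
    decide

theorem sr0_mem : (sr 0 : Fin 3 → ℤ) ∈ RB 3 := by
  rw [sr0]; exact rt_mem_RB (by decide)

/-- **`Cls` for the type `B₃`.** -/
theorem cls (hp2 : p ≠ 2) : Cls cs (Nodes.TypeC.isCartan 3) p T n X (RB 3) X (zf X) := by
  have hroot : ∀ r ∈ RB 3, IsRoot cs (Nodes.TypeC.isCartan 3) r := fun r hr => root_RB cs hr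
  have hact : ∀ r ∈ RB 3, ∀ w, rep cs (Nodes.TypeC.isCartan 3) w r ∈ RB 3 :=
    fun r hr w => act_RB cs hr w
  have E := zsys_X (R := RB 3) R hroot hact
  have om' : ∀ r ∈ RB 3, KK X r ∈ Om :=
    E.om_all R.nsys hyp.conj fun i hi => om_simple hyp C hK1 R Tb hi
  refine cls_long Fact.out hp2 hyp R hroot hact ?_ (fun i hi => om_simple hyp C hK1 R Tb hi) ?_
  · intro i hi a ha b hb
    fin_cases i
    · have e : X (sr 0) = S1.A := by rw [sr0, Tb.k1]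
      have ha' : a ∈ S1.A := by rw [← e]; exact ha
      have hb' : b ∈ S1.A := by rw [← e]; exact hb
      exact C.D.four.s2.abZ a ha' b hb'
    · have e : X (sr 1) = PP (MG S1.opp S2 z) Y' := by rw [sr1, Tb.p2']
      have ha' : a ∈ PP (MG S1.opp S2 z) Y' := by rw [← e]; exact ha
      have hb' : b ∈ PP (MG S1.opp S2 z) Y' := by rw [← e]; exact hb
      exact MG_ab C.D.opp1 (PP_le _ _ ha') (PP_le _ _ hb')
    · have e : X (sr 2) = XX3 S1 S2 z Y (z3 * z) := by rw [sr2, Tb.s3]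
      have ha' : a ∈ XX3 S1 S2 z Y (z3 * z) := by rw [← e]; exact ha
      have hb' : b ∈ XX3 S1 S2 z Y (z3 * z) := by rw [← e]; exact hb
      exact XX3_ab C.Z C.D C.h2 C.I ha' hb'
  · intro i j hij hM r hr _ y hy _ h1 h3
    obtain ⟨w, hw⟩ := trans_RB cs (sr 0) (sr0_mem hyp C hK1 R Tb) r hr
    have e1 : rep cs (Nodes.TypeC.isCartan 3) w⁻¹ r = sr 0 := by rw [hw, rep_inv_apply]
    refine Pair.transport R (E.equi hyp om') hr hy w⁻¹ ?_
    rw [e1]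
    apply pair_sr0 hyp C hK1 Tb (hy.act _)
    · intro h4
      apply h1
      rw [← e1] at h4
      exact rep_injective_apply cs _ _ h4
    · intro h4
      apply h3
      rw [← e1, ← map_neg] at h4
      exact rep_injective_apply cs _ _ h4

end pair

end Cfsg.Agent.Cit.OmB3.ClsOut
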