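import Cfsg.Agent.Cit.OmB3.Short

/-!
# The root groups `X_{e₃}`, `X_{-e₃}`
-/

set_option autoImplicit false
set_option linter.unusedSectionVars false
set_option linter.unusedVariables false
set_option linter.dupNamespace false

namespace Cfsg.Agent.Cit.OmB3.Ethree

open scoped commutatorElement
open Module
open Cfsg.Agent.RootAmalgam (Onto Maps PairData mu_unique)
open Cfsg.Agent.Cit.LemmaATwo Cfsg.Agent.Cit.OmB3.Side Cfsg.Agent.Cit.OmB3.Siegel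
  Cfsg.Agent.Cit.OmB3.Form Cfsg.Agent.Cit.OmB3.Big Cfsg.Agent.Cit.OmB3.Split
  Cfsg.Agent.Cit.OmB3.Third Cfsg.Agent.Cit.OmB3.Atwo Cfsg.Agent.Cit.OmB3.Mu
  Cfsg.Agent.Cit.OmB3.Zthree Cfsg.Agent.Cit.OmB3.Short
open Cfsg.Agent.Cit.OmB3.Form.Four (MG)

variable {G : Type*} [Group G] {F : Type*} [Field F]
variable {p m : ℕ} {S1 S2 : SLSys F G} {z z3 : G} {Y Y' : Subgroup G}
  [Finite G] [Finite F] [Fact p.Prime] [CharP F p]

/-- The root group `X_{e₃}` (for `Y`), `X_{-e₃}` (for `Y'`). -/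
def XX3 (S1 S2 : SLSys F G) (z : G) (Y : Subgroup G) (zp : G) : Subgroup G :=
  MS (PP (MG S1 S2.opp z) Y) (PP (MG S1.opp S2 z) Y) zp ⊓ CC S1 S2

theorem mem_XX3 (D : Big p m S1 S2 z Y Y') (h2 : (2 : F) ≠ 0) {g : G}
    (hg : Gel S1 S2 z Y Y' z3 g) {x : G} :
    x ∈ XX3 S1 S2 z Y (z3 * z) ↔
      x ∈ MM (PP (MG S1 S2.opp z) Y) (PP (MG S1.opp S2 z) Y) (z3 * z) ∧ x ∈ CC S1 S2 := by
  unfold XX3
  rw [Subgroup.mem_inf, (two3 D h2 hg).mem]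

/-- The elements of `M` have order dividing `p`. -/
theorem MG_pow (D : Big p m S1 S2 z Y Y') {x : G} (hx : x ∈ MG S1 S2 z) : x ^ p = 1 := by
  obtain ⟨v, rfl⟩ := D.four.s1.dil.exists_el hx
  have h1 : ∀ k : ℕ, D.four.s1.dil.el v ^ k = D.four.s1.dil.el ((k : F) • v) := by
    intro k
    induction k with
    | zero => rw [pow_zero, Nat.cast_zero, zero_smul]; rfl
    | succ k ih =>
      rw [pow_succ, ih, ← Dil.el_add, Nat.cast_succ, add_smul, one_smul]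
  rw [h1, CharP.cast_eq_zero, zero_smul]
  rfl

variable (Z : Z3 S1 S2 z Y Y' z3) (D : Big p m S1 S2 z Y Y') (h2 : (2 : F) ≠ 0) (I : Inp S1 S2 z)

include Z D h2

/-- `n` commutes with `K_{e₂+e₃}`. -/
theorem nel_comm {n : G} (hn : Nel S1 S2 z Y Y' n) {x : G}
    (hx : x ∈ PP (MG S1.opp S2 z) Y ⊔ PP (MG S1 S2.opp z) Y') : n * x = x * n :=
  Z.comm_K D h2 hn.mem hx

theorem nel_onto {n : G} (hn : Nel S1 S2 z Y Y' n) {X : Subgroup G}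
    (hX : X ≤ PP (MG S1.opp S2 z) Y ⊔ PP (MG S1 S2.opp z) Y') : Onto n X X :=
  onto_of_comm fun x hx => nel_comm Z D h2 hn (hX hx)

theorem nel_zp {n : G} (hn : Nel S1 S2 z Y Y' n) : ac n (z3 * z) = z3 * z := by
  rw [← Z.nn D h2 hn]
  exact ac_of_comm (by group)

include I

/-- `n` maps the short root group `e₂` onto `X_{e₃}`. -/
theorem onto_e2_e3 {n : G} (hn : Nel S1 S2 z Y Y' n) :
    Onto n (MZ (MG S1.opp S2 z) Y Y') (XX3 S1 S2 z Y (z3 * z)) := by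
  obtain ⟨g, hg⟩ := exists_gel Z D h2 I
  intro x
  show ac n x ∈ _ ↔ _
  rw [mem_XX3 D h2 hg, mem_MZ_char Z D h2 I]
  have e1 : ac n x ∈ MM (PP (MG S1 S2.opp z) Y) (PP (MG S1.opp S2 z) Y) (z3 * z) ↔
      x ∈ MM (PP (MG S1.opp S2 z) Y') (PP (MG S1.opp S2 z) Y) (z3 * z) :=
    mem_MM_ac hn.b (nel_onto Z D h2 hn le_sup_left) (nel_zp Z D h2 hn)
  rw [e1]
  constructor
  · rintro ⟨h1, h3⟩
    refine ⟨h1, ?_, ?_⟩
    · rw [← comm_onto hn.a2b]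
      rintro _ ⟨t, rfl⟩
      exact h3.2.2.1 t
    · rw [← comm_onto hn.a1'b]
      rintro _ ⟨t, rfl⟩
      exact h3.2.1 t
  · rintro ⟨h1, h3, h4⟩
    refine ⟨h1, ?_⟩
    have hx : x ∈ MZ (MG S1.opp S2 z) Y Y' := (mem_MZ_char Z D h2 I).2 ⟨h1, h3, h4⟩
    obtain ⟨k1, k2, k3, k4⟩ := MZ_comm D h2 hx
    exact ⟨fun t => (comm_onto hn.a1b).2 k2 _ (S1.xp_mem t),
      fun t => (comm_onto hn.a1'b).2 k3 _ (S1.xm_mem t),
      fun t => (comm_onto hn.a2b).2 k1 _ (S2.xp_mem t),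
      fun t => (comm_onto hn.a2'b).2 k4 _ (S2.xm_mem t)⟩

theorem onto_e3_e2 {n : G} (hn : Nel S1 S2 z Y Y' n) :
    Onto n (XX3 S1 S2 z Y (z3 * z)) (MZ (MG S1.opp S2 z) Y Y') := by
  have h1 := onto_e2_e3 Z D h2 I hn
  have h3 : Onto (n * n) (MZ (MG S1.opp S2 z) Y Y') (MZ (MG S1.opp S2 z) Y Y') := by
    rw [Z.nn D h2 hn]
    exact onto_of_inv fun x hx => zp_MZ Z D h2 I hx
  have h4 := h3.mul h1.inv
  rwa [mul_inv_cancel_right] at h4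

/-- `X_{e₃}` is inverted by `z'`. -/
theorem XX3_inv {x : G} (hx : x ∈ XX3 S1 S2 z Y (z3 * z)) : ac (z3 * z) x = x⁻¹ := by
  obtain ⟨g, hg⟩ := exists_gel Z D h2 I
  exact ((mem_XX3 D h2 hg).1 hx).1.2.2.2

omit Z D h2 I in
theorem XX3_le (S1 S2 : SLSys F G) (z : G) (Y : Subgroup G) (zp : G) : XX3 S1 S2 z Y zp ≤ CC S1 S2 :=
  inf_le_right

/-- `X_{e₃}` commutes with `X_{±e_i+e₃}`. -/
theorem XX3_comm {x : G} (hx : x ∈ XX3 S1 S2 z Y (z3 * z)) :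
    (∀ y ∈ PP (MG S1 S2 z) Y, y * x = x * y) ∧ (∀ y ∈ PP (MG S1.opp S2 z) Y, y * x = x * y) ∧
    (∀ y ∈ PP (MG S1 S2.opp z) Y, y * x = x * y) ∧
    ∀ y ∈ PP (MG S1.opp S2.opp z) Y, y * x = x * y := by
  obtain ⟨g, hg⟩ := exists_gel Z D h2 I
  obtain ⟨h1, h3⟩ := (mem_XX3 D h2 hg).1 hx
  have hw1 : ac S1.w x = x := ac_of_comm (w1_CC h3)
  refine ⟨?_, h1.2.2.1, h1.2.1, ?_⟩
  · have h4 : Onto S1.w (PP (MG S1.opp S2 z) Y) (PP (MG S1 S2 z) Y) :=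
      onto_PP (onto_w1' D) (onto_w1_Y D)
    have h5 := (comm_onto h4 (x := x)).2 h1.2.2.1
    rwa [hw1] at h5
  · have h4 : Onto S1.w (PP (MG S1 S2.opp z) Y) (PP (MG S1.opp S2.opp z) Y) :=
      onto_PP (onto_w1 D.opp2) (onto_w1_Y D)
    have h5 := (comm_onto h4 (x := x)).2 h1.2.1
    rwa [hw1] at h5

/-- An element of `X_{e₃}` centralising `M` is trivial. -/
theorem XX3_faithful {x : G} (hx : x ∈ XX3 S1 S2 z Y (z3 * z))
    (h : ∀ y ∈ MG S1 S2 z, x * y = y * x) : x = 1 := by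
  obtain ⟨g, hg⟩ := exists_gel Z D h2 I
  obtain ⟨h1, h3⟩ := (mem_XX3 D h2 hg).1 hx
  obtain ⟨n, hn⟩ := exists_n D h2
  have hw1 : ac S1.w x = x := ac_of_comm (w1_CC h3)
  have hw2 : ac S2.w x = x := ac_of_comm (w2_CC h3)
  have k1 : ∀ y ∈ MG S1.opp S2 z, y * x = x * y := by
    have h5 := (comm_onto (onto_w1 D) (x := x)).2 fun y hy => (h y hy).symm
    rwa [hw1] at h5
  have k2 : ∀ y ∈ MG S1 S2.opp z, y * x = x * y := by
    have h5 := (comm_onto (onto_w2_M D) (x := x)).2 fun y hy => (h y hy).symm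
    rwa [hw2] at h5
  have hnx : n * x = x * n := by
    have hle : PP (MG S1.opp S2 z) Y' ⊔ PP (MG S1 S2.opp z) Y ≤ Subgroup.centralizer {x} := by
      apply sup_le
      · intro y hy
        rw [Subgroup.mem_centralizer_singleton_iff]
        exact k1 y (PP_le _ _ hy)
      · intro y hy
        rw [Subgroup.mem_centralizer_singleton_iff]
        exact k2 y (PP_le _ _ hy)
    exact Subgroup.mem_centralizer_singleton_iff.1 (hle hn.mem)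
  apply inv_of_comm_inv h1.1 (XX3_inv Z D h2 I hx)
  rw [← Z.nn D h2 hn]
  exact Commute.mul_left (show Commute n x from hnx) hnx

theorem XX3_card : Nat.card (XX3 S1 S2 z Y (z3 * z)) = Nat.card F ^ (m - 2) := by
  obtain ⟨n, hn⟩ := exists_n D h2
  obtain ⟨f, f', R⟩ := D.opp1.exists_pr h2
  rw [← card_MZ R]
  have h1 := onto_e2_e3 Z D h2 I hn
  symm
  apply Nat.card_congr
  refine ⟨fun x => ⟨n * x * n⁻¹, h1.mem x.2⟩, fun x => ⟨n⁻¹ * x * n, h1.mem_inv x.2⟩, ?_, ?_⟩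
  · intro x; apply Subtype.ext; show n⁻¹ * (n * x * n⁻¹) * n = x; group
  · intro x; apply Subtype.ext; show n * (n⁻¹ * x * n) * n⁻¹ = x; group

theorem XX3_pow {x : G} (hx : x ∈ XX3 S1 S2 z Y (z3 * z)) : x ^ p = 1 := by
  obtain ⟨n, hn⟩ := exists_n D h2
  have h1 := (onto_e2_e3 Z D h2 I hn).mem_inv hx
  have h3 := MG_pow D.opp1 (MZ_le' D.opp1 h2 h1)
  have h4 : (n⁻¹ * x * n) ^ p = n⁻¹ * x ^ p * n := by
    have := conj_pow (i := p) (a := n⁻¹) (b := x)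
    rwa [inv_inv] at this
  rw [h4] at h3
  have h5 : x ^ p = n * (n⁻¹ * x ^ p * n) * n⁻¹ := by group
  rw [h5, h3]; group

theorem XX3_isPGroup : IsPGroup p (XX3 S1 S2 z Y (z3 * z)) := by
  intro x
  refine ⟨1, Subtype.ext ?_⟩
  rw [pow_one]
  exact XX3_pow Z D h2 I x.2

/-- `X_{e₃}` is abelian. -/
theorem XX3_ab {x y : G} (hx : x ∈ XX3 S1 S2 z Y (z3 * z)) (hy : y ∈ XX3 S1 S2 z Y (z3 * z)) :
    x * y = y * x := by
  obtain ⟨g, hg⟩ := exists_gel Z D h2 I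
  exact (two3 D h2 hg).comm ((mem_XX3 D h2 hg).1 hx).1 ((mem_XX3 D h2 hg).1 hy).1

end Cfsg.Agent.Cit.OmB3.Ethree
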