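import Cfsg.Agent.Cit.OmB3.ChartOut
import Cfsg.Agent.Cit.SLSysOf

/-!
# `C_G(z)` normalises `G₀`
-/

set_option autoImplicit false
set_option linter.unusedSectionVars false
set_option linter.unusedVariables false
set_option linter.dupNamespace false

namespace Cfsg.Agent.Cit.OmB3.FCent

open Subgroup Matrix
open Cfsg.Agent.RootAmalgam (Onto)
open Cfsg.Agent.Cit.LemmaATwo Cfsg.Agent.Cit.OmB3.Side
  Cfsg.Agent.Cit.OmB3.Form Cfsg.Agent.Cit.OmB3.Big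
  Cfsg.Agent.Cit.OmB3.Zthree Cfsg.Agent.Cit.OmB3.Pairs Cfsg.Agent.Cit.OmB3.ChartOut
open Cfsg.Agent.Cit.OmB3.Form.Four (MG)
open Cfsg.Agent.Cit (Hyp zz cj cj_mul mem_cj)

variable {G : Type*} [Group G] {F : Type*} [Field F]

/-- `K` acts transitively on the pairs of different root groups. -/
theorem exists_norm [Fintype F] [Finite G] {K : Subgroup G} (e : SpecialLinearGroup (Fin 2) F ≃* K)
    {X X' Y Y' : Subgroup G}
    (hX : X ≤ K) (hc : Nat.card X = Fintype.card F) (hX' : X' ≤ K) (hc' : Nat.card X' = Fintype.card F)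
    (hne : X' ≠ X)
    (hY : Y ≤ K) (hd : Nat.card Y = Fintype.card F) (hY' : Y' ≤ K) (hd' : Nat.card Y' = Fintype.card F)
    (hne' : Y' ≠ Y) : ∃ k ∈ K, cj k X = Y ∧ cj k X' = Y' := by
  obtain ⟨k, hk, h1⟩ := ParabSL2.exists_conj e hY hd hX (hc.trans hd.symm)
  have h3 : cj k X' ≤ K := by
    rw [← mem_normalizer_iff_cj.1 (le_normalizer hk)]
    exact cj_mono k hX'
  obtain ⟨y, hy, h4⟩ := ParabSL2.exists_cj_of_ne e hY hd h3 (by rw [card_cj]; exact hc') (by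
    rw [← h1]; exact fun h => hne (cj_inj.1 h)) hY' hd' hne'
  refine ⟨y * k, mul_mem (hY hy) hk, ?_, ?_⟩
  · rw [cj_mul, h1]
    exact mem_normalizer_iff_cj.1 (le_normalizer hy)
  · rw [cj_mul, h4]

theorem onto_of_cj {g : G} {P Q : Subgroup G} (h : cj g P = Q) : Onto g P Q := by
  intro x
  rw [← h, mem_cj]
  have e : g⁻¹ * (g * x * g⁻¹) * g = x := by group
  rw [e]

theorem cj_of_onto {g : G} {P Q : Subgroup G} (h : Onto g P Q) : cj g P = Q := by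
  ext x
  rw [mem_cj, ← h]
  have e : g * (g⁻¹ * x * g) * g⁻¹ = x := by group
  rw [e]

section

variable {S1 S2 T1 T2 : SLSys F G} {z : G}

theorem cj_MG (D : Four S1 S2 z) (D' : Four T1 T2 z) {g : G} (hz : ac g z = z) (h1 : cj g S1.A = T1.A)
    (h2 : cj g S2.A = T2.A) : cj g (MG S1 S2 z) = MG T1 T2 z := by
  apply cj_of_onto
  intro x
  show ac g x ∈ _ ↔ _
  rw [D.mem, D'.mem]
  exact mem_MM_ac (onto_of_cj h1) (onto_of_cj h2) hz

theorem cj_G0 (D : Four S1 S2 z) {g : G} (hz : ac g z = z) (h1 : cj g S1.A = S1.A)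
    (h1' : cj g S1.A' = S1.A') (h2 : cj g S2.A = S2.A) (h2' : cj g S2.A' = S2.A') :
    cj g (G0 S1 S2 z) = G0 S1 S2 z := by
  unfold G0
  rw [cj_sup, cj_sup, cj_sup, cj_MG D D hz h1 h2, cj_MG D.opp1 D.opp1 hz h1' h2,
    cj_MG D.opp2 D.opp2 hz h1 h2', cj_MG D.opp1.opp2 D.opp1.opp2 hz h1' h2']

theorem cj_G0_swap (D : Four S1 S2 z) {g : G} (hz : ac g z = z) (h1 : cj g S1.A = S2.A)
    (h1' : cj g S1.A' = S2.A') (h2 : cj g S2.A = S1.A) (h2' : cj g S2.A' = S1.A') :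
    cj g (G0 S1 S2 z) = G0 S1 S2 z := by
  unfold G0
  rw [cj_sup, cj_sup, cj_sup, cj_MG D D.swap hz h1 h2, cj_MG D.opp1 D.swap.opp1 hz h1' h2,
    cj_MG D.opp2 D.swap.opp2 hz h1 h2', cj_MG D.opp1.opp2 D.swap.opp1.opp2 hz h1' h2',
    Big.MG_swap S1 S2, Big.MG_swap S1 S2.opp, Big.MG_swap S1.opp S2, Big.MG_swap S1.opp S2.opp,
    sup_sup_sup_comm]

theorem cj_of_comm {k : G} {P : Subgroup G} (h : ∀ x ∈ P, k * x = x * k) : cj k P = P :=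
  cj_of_onto (onto_of_comm h)

theorem comm_sup {P P' Q Q' : Subgroup G} (h1 : ∀ x ∈ P, ∀ y ∈ Q, x * y = y * x)
    (h2 : ∀ x ∈ P, ∀ y ∈ Q', x * y = y * x) (h3 : ∀ x ∈ P', ∀ y ∈ Q, x * y = y * x)
    (h4 : ∀ x ∈ P', ∀ y ∈ Q', x * y = y * x) : ∀ x ∈ P ⊔ P', ∀ y ∈ Q ⊔ Q', x * y = y * x := by
  intro x hx y hy
  have e1 : ∀ x ∈ P ⊔ P', ∀ y ∈ Q, x * y = y * x := by
    intro x hx y hy
    have hle : P ⊔ P' ≤ centralizer {y} :=
      sup_le (fun a ha => mem_centralizer_singleton_iff.2 (h1 a ha y hy))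
        (fun a ha => mem_centralizer_singleton_iff.2 (h3 a ha y hy))
    exact mem_centralizer_singleton_iff.1 (hle hx)
  have e2 : ∀ x ∈ P ⊔ P', ∀ y ∈ Q', x * y = y * x := by
    intro x hx y hy
    have hle : P ⊔ P' ≤ centralizer {y} :=
      sup_le (fun a ha => mem_centralizer_singleton_iff.2 (h2 a ha y hy))
        (fun a ha => mem_centralizer_singleton_iff.2 (h4 a ha y hy))
    exact mem_centralizer_singleton_iff.1 (hle hx)
  have hle : Q ⊔ Q' ≤ centralizer {x} :=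
    sup_le (fun a ha => mem_centralizer_singleton_iff.2 (e1 x hx a ha).symm)
      (fun a ha => mem_centralizer_singleton_iff.2 (e2 x hx a ha).symm)
  exact (mem_centralizer_singleton_iff.1 (hle hy)).symm

/-- `K₁` and `K₂` commute -/
theorem comm_K12 (D : Four S1 S2 z) :
    ∀ x ∈ S1.A ⊔ S1.A', ∀ y ∈ S2.A ⊔ S2.A', x * y = y * x := by
  apply comm_sup
  · rintro _ ⟨s, rfl⟩ _ ⟨t, rfl⟩; exact D.comm12 s t
  · rintro _ ⟨s, rfl⟩ _ ⟨t, rfl⟩; exact D.comm12' s t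
  · rintro _ ⟨s, rfl⟩ _ ⟨t, rfl⟩; exact D.comm1'2 s t
  · rintro _ ⟨s, rfl⟩ _ ⟨t, rfl⟩; exact D.comm1'2' s t

theorem z_K1 (D : Four S1 S2 z) : ∀ x ∈ S1.A ⊔ S1.A', z * x = x * z := by
  intro x hx
  have hle : S1.A ⊔ S1.A' ≤ centralizer {z} :=
    sup_le (fun a ha => mem_centralizer_singleton_iff.2 (D.s2.z_comm ha).symm)
      (fun a ha => mem_centralizer_singleton_iff.2 (D.s2'.z_comm ha).symm)
  exact (mem_centralizer_singleton_iff.1 (hle hx)).symm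

theorem z_K2 (D : Four S1 S2 z) : ∀ x ∈ S2.A ⊔ S2.A', z * x = x * z := z_K1 D.swap

end

section FC

variable [Fintype F] [Finite G] {S1 S2 : SLSys F G} {z : G}

/-- **(FC).** -/
theorem mem_normalizer (D : Four S1 S2 z) (e1 : SpecialLinearGroup (Fin 2) F ≃* ↥(S1.A ⊔ S1.A'))
    (e2 : SpecialLinearGroup (Fin 2) F ≃* ↥(S2.A ⊔ S2.A')) (hne1 : S1.A' ≠ S1.A) (hne2 : S2.A' ≠ S2.A)
    (hG1 : S1.A ⊔ S1.A' ≤ G0 S1 S2 z) (hG2 : S2.A ⊔ S2.A' ≤ G0 S1 S2 z) {g : G} (hz : ac g z = z)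
    (hg : (cj g (S1.A ⊔ S1.A') = S1.A ⊔ S1.A' ∧ cj g (S2.A ⊔ S2.A') = S2.A ⊔ S2.A') ∨
      (cj g (S1.A ⊔ S1.A') = S2.A ⊔ S2.A' ∧ cj g (S2.A ⊔ S2.A') = S1.A ⊔ S1.A')) :
    g ∈ normalizer (G0 S1 S2 z : Set G) := by
  have c1 : Nat.card S1.A = Fintype.card F := by rw [S1.card_A, Nat.card_eq_fintype_card]
  have c1' : Nat.card S1.A' = Fintype.card F := by rw [S1.card_A', Nat.card_eq_fintype_card]
  have c2 : Nat.card S2.A = Fintype.card F := by rw [S2.card_A, Nat.card_eq_fintype_card]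
  have c2' : Nat.card S2.A' = Fintype.card F := by rw [S2.card_A', Nat.card_eq_fintype_card]
  have key : ∀ k1 ∈ S1.A ⊔ S1.A', ∀ k2 ∈ S2.A ⊔ S2.A',
      cj (k1 * k2 * g) (G0 S1 S2 z) = G0 S1 S2 z → g ∈ normalizer (G0 S1 S2 z : Set G) := by
    intro k1 hk1 k2 hk2 h
    have h1 := mem_normalizer_iff_cj.2 h
    have h3 : k1 * k2 ∈ normalizer (G0 S1 S2 z : Set G) := le_normalizer (mul_mem (hG1 hk1) (hG2 hk2))
    have h4 : g = (k1 * k2)⁻¹ * (k1 * k2 * g) := by group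
    rw [h4]
    exact mul_mem (inv_mem h3) h1
  have hzk : ∀ k1 ∈ S1.A ⊔ S1.A', ∀ k2 ∈ S2.A ⊔ S2.A', ac (k1 * k2 * g) z = z := by
    intro k1 hk1 k2 hk2
    rw [← ac_ac, hz, ← ac_ac, ac_of_comm (z_K2 D k2 hk2).symm, ac_of_comm (z_K1 D k1 hk1).symm]
  have hK := comm_K12 D
  have cm1 : ∀ k1 ∈ S1.A ⊔ S1.A', ∀ P : Subgroup G, P ≤ S2.A ⊔ S2.A' → cj k1 P = P :=
    fun k1 h1 P hP => cj_of_comm fun x hx => hK k1 h1 x (hP hx)
  have cm2 : ∀ k2 ∈ S2.A ⊔ S2.A', ∀ P : Subgroup G, P ≤ S1.A ⊔ S1.A' → cj k2 P = P :=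
    fun k1 h1 P hP => cj_of_comm fun x hx => (hK x (hP hx) k1 h1).symm
  rcases hg with ⟨g1, g2⟩ | ⟨g1, g2⟩
  · have l1 : cj g S1.A ≤ S1.A ⊔ S1.A' := by rw [← g1]; exact cj_mono g le_sup_left
    have l1' : cj g S1.A' ≤ S1.A ⊔ S1.A' := by rw [← g1]; exact cj_mono g le_sup_right
    have l2 : cj g S2.A ≤ S2.A ⊔ S2.A' := by rw [← g2]; exact cj_mono g le_sup_left
    have l2' : cj g S2.A' ≤ S2.A ⊔ S2.A' := by rw [← g2]; exact cj_mono g le_sup_right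
    obtain ⟨k1, hk1, a1, a1'⟩ := exists_norm e1 l1 (by rw [card_cj]; exact c1) l1'
      (by rw [card_cj]; exact c1') (fun h => hne1 (cj_inj.1 h)) le_sup_left c1 le_sup_right c1' hne1
    obtain ⟨k2, hk2, a2, a2'⟩ := exists_norm e2 l2 (by rw [card_cj]; exact c2) l2'
      (by rw [card_cj]; exact c2') (fun h => hne2 (cj_inj.1 h)) le_sup_left c2 le_sup_right c2' hne2
    apply key k1 hk1 k2 hk2
    apply cj_G0 D (hzk k1 hk1 k2 hk2)
    · rw [cj_mul, cj_mul, cm2 k2 hk2 _ l1, a1]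
    · rw [cj_mul, cj_mul, cm2 k2 hk2 _ l1', a1']
    · rw [cj_mul, cj_mul, a2, cm1 k1 hk1 _ le_sup_left]
    · rw [cj_mul, cj_mul, a2', cm1 k1 hk1 _ le_sup_right]
  · have l1 : cj g S1.A ≤ S2.A ⊔ S2.A' := by rw [← g1]; exact cj_mono g le_sup_left
    have l1' : cj g S1.A' ≤ S2.A ⊔ S2.A' := by rw [← g1]; exact cj_mono g le_sup_right
    have l2 : cj g S2.A ≤ S1.A ⊔ S1.A' := by rw [← g2]; exact cj_mono g le_sup_left
    have l2' : cj g S2.A' ≤ S1.A ⊔ S1.A' := by rw [← g2]; exact cj_mono g le_sup_right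
    obtain ⟨k1, hk1, a1, a1'⟩ := exists_norm e1 l2 (by rw [card_cj]; exact c2) l2'
      (by rw [card_cj]; exact c2') (fun h => hne2 (cj_inj.1 h)) le_sup_left c1 le_sup_right c1' hne1
    obtain ⟨k2, hk2, a2, a2'⟩ := exists_norm e2 l1 (by rw [card_cj]; exact c1) l1'
      (by rw [card_cj]; exact c1') (fun h => hne1 (cj_inj.1 h)) le_sup_left c2 le_sup_right c2' hne2
    apply key k1 hk1 k2 hk2
    apply cj_G0_swap D (hzk k1 hk1 k2 hk2)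
    · rw [cj_mul, cj_mul, a2, cm1 k1 hk1 _ le_sup_left]
    · rw [cj_mul, cj_mul, a2', cm1 k1 hk1 _ le_sup_right]
    · rw [cj_mul, cj_mul, cm2 k2 hk2 _ l2, a1]
    · rw [cj_mul, cj_mul, cm2 k2 hk2 _ l2', a1']

end FC

end Cfsg.Agent.Cit.OmB3.FCent
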