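import Mathlib

/-!
# `p`-groups of isometries of quadratic spaces of dimension at most four

Linear algebra for the identification of `Ω₇(q)` and `Ω₈⁻(q)` (project CIT): a `p`-group of isometries of
order at least `q ^ (m - 2)` on a nondegenerate space of dimension `m = 3` or `4` over `F_q` is a full
Siegel group of an isotropic vector.
-/

set_option autoImplicit false
set_option linter.unusedSectionVars false
set_option linter.unusedVariables false

namespace Cfsg.Agent.Cit.OmB3.Siegel

open Module

variable {F V : Type*} [Field F] [AddCommGroup V] [Module F V]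

/-- A symmetric nondegenerate form. -/
structure Frm (B : V →ₗ[F] V →ₗ[F] F) : Prop where
  symm : ∀ u v, B u v = B v u
  nd : ∀ u, (∀ v, B u v = 0) → u = 0

/-- Isometries. -/
def Isom (B : V →ₗ[F] V →ₗ[F] F) (y : Module.End F V) : Prop := ∀ u v, B (y u) (y v) = B u v

theorem Isom.one (B : V →ₗ[F] V →ₗ[F] F) : Isom B 1 := fun _ _ => rfl

theorem Isom.mul {B : V →ₗ[F] V →ₗ[F] F} {x y : Module.End F V} (hx : Isom B x) (hy : Isom B y) :
    Isom B (x * y) := fun u v => by rw [Module.End.mul_apply, Module.End.mul_apply, hx, hy]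

theorem Isom.pow {B : V →ₗ[F] V →ₗ[F] F} {x : Module.End F V} (hx : Isom B x) (n : ℕ) :
    Isom B (x ^ n) := by
  induction n with
  | zero => rw [pow_zero]; exact Isom.one B
  | succ n ih => rw [pow_succ]; exact ih.mul hx

section single

variable {p : ℕ} [Fact p.Prime] [CharP F p]

theorem scalar_eq_one {c : F} {k : ℕ} (hc : c ^ p ^ k = 1) : c = 1 := by
  have h1 : (c - 1) ^ p ^ k = 0 := by rw [sub_pow_char_pow, hc, one_pow, sub_self]
  exact sub_eq_zero.1 (pow_eq_zero_iff (pow_ne_zero _ (Fact.out : p.Prime).ne_zero) |>.1 h1)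

theorem exists_fixed [Nontrivial V] {y : Module.End F V} {k : ℕ} (hy : y ^ p ^ k = 1) :
    ∃ v, v ≠ 0 ∧ y v = v := by
  have : CharP (Module.End F V) p :=
    charP_of_injective_algebraMap (FaithfulSMul.algebraMap_injective F (Module.End F V)) p
  have h1 : (y - 1) ^ p ^ k = 0 := by
    have h2 : Commute y (1 : Module.End F V) := Commute.one_right y
    rw [sub_pow_char_pow_of_commute _ _ h2, hy, one_pow, sub_self]
  by_contra hcon
  push Not at hcon
  have hinj : Function.Injective (y - 1 : Module.End F V) := by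
    rw [← LinearMap.ker_eq_bot, LinearMap.ker_eq_bot']
    intro v hv
    by_contra hne
    apply hcon v hne
    rw [LinearMap.sub_apply, Module.End.one_apply] at hv
    exact sub_eq_zero.1 hv
  obtain ⟨v, hv⟩ := exists_ne (0 : V)
  apply hv
  have h3 : Function.Injective ((y - 1 : Module.End F V) ^ p ^ k) := by
    rw [Module.End.coe_pow]
    exact hinj.iterate _
  apply h3
  rw [h1]; rfl

theorem exists_comb [FiniteDimensional F V] (hd : finrank F V ≤ 2) {v u : V}
    (hind : ∀ a b : F, a • v + b • u = 0 → a = 0 ∧ b = 0) (w : V) : ∃ a b : F, a • v + b • u = w := by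
  have hli : LinearIndependent F ![v, u] := by
    rw [LinearIndependent.pair_iff]
    exact hind
  have h1 : (Submodule.span F (Set.range ![v, u])) = ⊤ := by
    apply Submodule.eq_top_of_finrank_eq
    have h2 := finrank_span_eq_card hli
    have h3 := Submodule.finrank_le (Submodule.span F (Set.range ![v, u]))
    rw [h2] at h3 ⊢
    simp only [Fintype.card_fin] at h3 ⊢
    omega
  have h2 : w ∈ Submodule.span F (Set.range ![v, u]) := by rw [h1]; trivial
  rw [Matrix.range_cons, Matrix.range_cons, Matrix.range_empty, Set.union_empty,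
    Set.singleton_union, Submodule.mem_span_pair] at h2
  exact h2

/-- An isometry of `p`-power order of a nondegenerate space of dimension at most two is trivial. -/
theorem eq_one_of_small [FiniteDimensional F V] {B : V →ₗ[F] V →ₗ[F] F} (hB : Frm B)
    (h2 : (2 : F) ≠ 0) (hd : finrank F V ≤ 2) {y : Module.End F V} (hy : Isom B y) {k : ℕ}
    (hp : y ^ p ^ k = 1) : y = 1 := by
  rcases subsingleton_or_nontrivial V with hV | hV
  · exact Subsingleton.elim _ _
  obtain ⟨v, hv0, hv⟩ := exists_fixed hp
  by_cases hvv : B v v = 0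
  · -- isotropic fixed vector
    obtain ⟨g, hg⟩ : ∃ g, B v g ≠ 0 := by
      by_contra hcon
      push Not at hcon
      exact hv0 (hB.nd v hcon)
    have hind : ∀ a b : F, a • v + b • g = 0 → a = 0 ∧ b = 0 := by
      intro a b hab
      have h3 : B v (a • v + b • g) = 0 := by rw [hab, map_zero]
      rw [map_add, map_smul, map_smul, hvv, smul_zero, zero_add, smul_eq_mul] at h3
      have hb : b = 0 := (mul_eq_zero.1 h3).resolve_right hg
      rw [hb, zero_smul, add_zero] at hab
      exact ⟨(smul_eq_zero.1 hab).resolve_right hv0, hb⟩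
    obtain ⟨a, b, hab⟩ := exists_comb hd hind (y g)
    have h3 : B v (y g) = B v g := by
      have := hy v g
      rwa [hv] at this
    rw [← hab, map_add, map_smul, map_smul, hvv, smul_zero, zero_add, smul_eq_mul] at h3
    have hb : b = 1 := by
      have : (b - 1) * B v g = 0 := by linear_combination h3
      exact sub_eq_zero.1 ((mul_eq_zero.1 this).resolve_right hg)
    have h4 := hy g g
    rw [← hab, hb, one_smul] at h4
    simp only [map_add, LinearMap.add_apply, map_smul, LinearMap.smul_apply, smul_eq_mul, hvv,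
      hB.symm g v, mul_zero, zero_add] at h4
    have ha : a = 0 := by
      have : (2 * a) * B v g = 0 := by linear_combination h4
      rcases mul_eq_zero.1 this with h | h
      · exact (mul_eq_zero.1 h).resolve_left h2
      · exact absurd h hg
    have hg1 : y g = g := by rw [← hab, ha, hb, zero_smul, one_smul, zero_add]
    apply LinearMap.ext
    intro w
    obtain ⟨a', b', hw⟩ := exists_comb hd hind w
    rw [← hw, map_add, map_smul, map_smul, hv, hg1]; rfl
  · -- anisotropic fixed vector
    apply LinearMap.ext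
    intro w
    rw [Module.End.one_apply]
    -- reduce to `w` orthogonal to `v`
    have key : ∀ u, B v u = 0 → y u = u := by
      intro u hu
      by_cases hu0 : u = 0
      · rw [hu0, map_zero]
      have hind : ∀ a b : F, a • v + b • u = 0 → a = 0 ∧ b = 0 := by
        intro a b hab
        have h3 : B v (a • v + b • u) = 0 := by rw [hab, map_zero]
        rw [map_add, map_smul, map_smul, hu, smul_zero, add_zero, smul_eq_mul] at h3
        have ha : a = 0 := (mul_eq_zero.1 h3).resolve_right hvv
        rw [ha, zero_smul, zero_add] at hab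
        exact ⟨ha, (smul_eq_zero.1 hab).resolve_right hu0⟩
      obtain ⟨a, b, hab⟩ := exists_comb hd hind (y u)
      have h3 : B v (y u) = 0 := by
        have := hy v u
        rw [hv, hu] at this
        exact this
      rw [← hab, map_add, map_smul, map_smul, hu, smul_zero, add_zero, smul_eq_mul] at h3
      have ha : a = 0 := (mul_eq_zero.1 h3).resolve_right hvv
      rw [ha, zero_smul, zero_add] at hab
      have hpow : ∀ n : ℕ, (y ^ n) u = b ^ n • u := by
        intro n
        induction n with
        | zero => rw [pow_zero, pow_zero, one_smul]; rfl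
        | succ n ih => rw [pow_succ', Module.End.mul_apply, ih, map_smul, ← hab, smul_smul, ← pow_succ]
      have h5 := hpow (p ^ k)
      rw [hp, Module.End.one_apply] at h5
      have h6 : b ^ p ^ k = 1 := by
        have : (b ^ p ^ k - 1) • u = 0 := by rw [sub_smul, one_smul, ← h5, sub_self]
        exact sub_eq_zero.1 ((smul_eq_zero.1 this).resolve_right hu0)
      rw [← hab, scalar_eq_one h6, one_smul]
    have h5 : y (w - (B v w / B v v) • v) = w - (B v w / B v v) • v := by
      apply key
      rw [map_sub, map_smul, smul_eq_mul, div_mul_cancel₀ _ hvv, sub_self]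
    rw [map_sub, map_smul, hv] at h5
    exact sub_left_injective h5

end single

section Hyp

variable {B : V →ₗ[F] V →ₗ[F] F} {f f' : V}

/-- A hyperbolic pair. -/
structure Hyp (B : V →ₗ[F] V →ₗ[F] F) (f f' : V) : Prop where
  ff : B f f = 0
  ff' : B f f' = 1
  f'f' : B f' f' = 0

theorem Hyp.symm (hB : Frm B) (h : Hyp B f f') : Hyp B f' f :=
  ⟨h.f'f', by rw [hB.symm]; exact h.ff', h.ff⟩

theorem exists_hyp (hB : Frm B) (h2 : (2 : F) ≠ 0) (hf : f ≠ 0) (hff : B f f = 0) :
    ∃ f', Hyp B f f' := by
  obtain ⟨g, hg⟩ : ∃ g, B f g ≠ 0 := by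
    by_contra hcon
    push Not at hcon
    exact hf (hB.nd f hcon)
  refine ⟨(B f g)⁻¹ • g - ((2 : F)⁻¹ * (B f g)⁻¹ * (B f g)⁻¹ * B g g) • f, hff, ?_, ?_⟩
  · simp only [map_sub, map_smul, smul_eq_mul, hff, mul_zero, sub_zero]
    exact inv_mul_cancel₀ hg
  · simp only [map_sub, LinearMap.sub_apply, map_smul, LinearMap.smul_apply, smul_eq_mul, hff,
      hB.symm g f, mul_zero, sub_zero]
    field_simp
    ring

/-- The orthogonal space of a hyperbolic pair. -/
def V0 (B : V →ₗ[F] V →ₗ[F] F) (f f' : V) : Submodule F V where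
  carrier := {v | B v f = 0 ∧ B v f' = 0}
  add_mem' := by
    rintro a b ⟨h1, h2⟩ ⟨h3, h4⟩
    exact ⟨by rw [map_add, LinearMap.add_apply, h1, h3, add_zero],
      by rw [map_add, LinearMap.add_apply, h2, h4, add_zero]⟩
  zero_mem' := ⟨by rw [map_zero]; rfl, by rw [map_zero]; rfl⟩
  smul_mem' := by
    rintro c a ⟨h1, h2⟩
    exact ⟨by rw [map_smul, LinearMap.smul_apply, h1, smul_zero],
      by rw [map_smul, LinearMap.smul_apply, h2, smul_zero]⟩

theorem mem_V0 {v : V} : v ∈ V0 B f f' ↔ B v f = 0 ∧ B v f' = 0 := Iff.rfl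

/-- The projection onto `V0`. -/
def pr (B : V →ₗ[F] V →ₗ[F] F) (f f' : V) : Module.End F V :=
  LinearMap.id - (LinearMap.toSpanSingleton F V f).comp (B.flip f') -
    (LinearMap.toSpanSingleton F V f').comp (B.flip f)

theorem pr_apply (v : V) : pr B f f' v = v - B v f' • f - B v f • f' := rfl

theorem pr_mem (hB : Frm B) (h : Hyp B f f') (v : V) : pr B f f' v ∈ V0 B f f' := by
  have h1 : B f' f = 1 := by rw [hB.symm]; exact h.ff'
  rw [mem_V0, pr_apply]
  simp only [map_sub, LinearMap.sub_apply, map_smul, LinearMap.smul_apply, smul_eq_mul, h.ff, h.ff',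
    h.f'f', h1, mul_zero, mul_one, sub_zero, sub_self, and_self]

theorem decomp (v : V) : v = B v f' • f + B v f • f' + pr B f f' v := by
  rw [pr_apply]; abel

theorem pr_eq {v : V} (hv : v ∈ V0 B f f') : pr B f f' v = v := by
  rw [pr_apply, hv.1, hv.2, zero_smul, zero_smul, sub_zero, sub_zero]

/-- The splitting. -/
noncomputable def split (hB : Frm B) (h : Hyp B f f') : (F × F × V0 B f f') ≃ₗ[F] V :=
  LinearEquiv.ofBijective
    ((LinearMap.toSpanSingleton F V f).coprod
      ((LinearMap.toSpanSingleton F V f').coprod (V0 B f f').subtype)) (by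
    have h1 : B f' f = 1 := by rw [hB.symm]; exact h.ff'
    constructor
    · rw [← LinearMap.ker_eq_bot, LinearMap.ker_eq_bot']
      rintro ⟨a, b, v⟩ hv
      have hv' : a • f + (b • f' + (v : V)) = 0 := hv
      have e1 : B (a • f + (b • f' + (v : V))) f' = 0 := by rw [hv', map_zero]; rfl
      have e2 : B (a • f + (b • f' + (v : V))) f = 0 := by rw [hv', map_zero]; rfl
      simp only [map_add, LinearMap.add_apply, map_smul, LinearMap.smul_apply, smul_eq_mul, h.ff,
        h.ff', h.f'f', h1, v.2.1, v.2.2, mul_zero, mul_one, add_zero, zero_add] at e1 e2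
      rw [e1, e2, zero_smul, zero_smul, zero_add, zero_add] at hv'
      ext <;> simp_all
    · intro v
      refine ⟨(B v f', B v f, ⟨pr B f f' v, pr_mem hB h v⟩), ?_⟩
      show B v f' • f + (B v f • f' + pr B f f' v) = v
      rw [← add_assoc]
      exact (decomp v).symm)

theorem finrank_V0 [FiniteDimensional F V] (hB : Frm B) (h : Hyp B f f') :
    finrank F (V0 B f f') + 2 = finrank F V := by
  have h1 := (split hB h).finrank_eq
  rw [Module.finrank_prod, Module.finrank_prod, Module.finrank_self] at h1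
  omega

theorem card_V0 [Finite V] [Finite F] (hB : Frm B) (h : Hyp B f f') :
    Nat.card F * (Nat.card F * Nat.card (V0 B f f')) = Nat.card V := by
  rw [← Nat.card_prod, ← Nat.card_prod]
  exact Nat.card_congr (split hB h).toEquiv

/-- The form on `V0`. -/
def B0 (B : V →ₗ[F] V →ₗ[F] F) (f f' : V) : V0 B f f' →ₗ[F] V0 B f f' →ₗ[F] F :=
  B.domRestrict₁₂ (V0 B f f') (V0 B f f')

theorem B0_apply (u v : V0 B f f') : B0 B f f' u v = B u v := rfl

theorem B_pr (hB : Frm B) (h : Hyp B f f') {u : V} (hu : u ∈ V0 B f f') (v : V) :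
    B u (pr B f f' v) = B u v := by
  rw [pr_apply, map_sub, map_sub, map_smul, map_smul, hu.1, hu.2, smul_zero, smul_zero, sub_zero,
    sub_zero]

theorem frm0 (hB : Frm B) (h : Hyp B f f') : Frm (B0 B f f') where
  symm u v := hB.symm _ _
  nd u hu := by
    apply Subtype.ext
    apply hB.nd
    intro v
    rw [← B_pr hB h u.2 v]
    exact hu ⟨pr B f f' v, pr_mem hB h v⟩

/-- The action on `V0`. -/
def y0 (hB : Frm B) (h : Hyp B f f') (y : Module.End F V) : Module.End F (V0 B f f') :=
  ((pr B f f').comp (y.comp (V0 B f f').subtype)).codRestrict (V0 B f f') fun v => pr_mem hB h _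

theorem y0_apply (hB : Frm B) (h : Hyp B f f') (y : Module.End F V) (v : V0 B f f') :
    (y0 hB h y v : V) = pr B f f' (y v) := rfl

theorem y0_one (hB : Frm B) (h : Hyp B f f') : y0 hB h 1 = 1 := by
  apply LinearMap.ext
  intro v
  apply Subtype.ext
  rw [y0_apply]
  exact pr_eq v.2

variable (hB : Frm B) (h : Hyp B f f')

include hB h

theorem perp_of_fix {y : Module.End F V} (hy : Isom B y) (hf : y f = f) {v : V} (hv : B v f = 0) :
    B (y v) f = 0 := by
  have := hy v f
  rwa [hf, hv] at this

/-- the action on the orthogonal space of `f` -/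
theorem act_perp {y : Module.End F V} (hy : Isom B y) (hf : y f = f) {v : V} (hv : B v f = 0) :
    y v = B (y v) f' • f + pr B f f' (y v) := by
  have h1 := decomp (B := B) (f := f) (f' := f') (y v)
  rwa [perp_of_fix hB h hy hf hv, zero_smul, add_zero] at h1

theorem pr_f : pr B f f' f = 0 := by
  rw [pr_apply, h.ff, h.ff', one_smul, zero_smul, sub_self, sub_zero]

theorem y0_mul {x y : Module.End F V} (hx : Isom B x) (hy : Isom B y) (hxf : x f = f) (hyf : y f = f) :
    y0 hB h (x * y) = y0 hB h x * y0 hB h y := by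
  apply LinearMap.ext
  intro v
  apply Subtype.ext
  rw [Module.End.mul_apply, y0_apply, y0_apply, y0_apply, Module.End.mul_apply]
  have h1 := act_perp hB h hy hyf v.2.1
  conv_lhs => rw [h1, map_add, map_smul, hxf, map_add, map_smul, pr_f hB h, smul_zero, zero_add]

theorem y0_pow {x : Module.End F V} (hx : Isom B x) (hxf : x f = f) (n : ℕ) :
    y0 hB h (x ^ n) = y0 hB h x ^ n := by
  induction n with
  | zero => rw [pow_zero, pow_zero, y0_one]
  | succ n ih =>
    have h1 : (x ^ n) f = f := by
      clear ih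
      induction n with
      | zero => rfl
      | succ n ih => rw [pow_succ, Module.End.mul_apply, hxf, ih]
    rw [pow_succ, pow_succ, y0_mul hB h (hx.pow n) hx h1 hxf, ih]

theorem y0_isom {x : Module.End F V} (hx : Isom B x) (hxf : x f = f) : Isom (B0 B f f') (y0 hB h x) := by
  intro u v
  rw [B0_apply, B0_apply, y0_apply, y0_apply]
  have h1 := act_perp hB h hx hxf u.2.1
  have h2 := act_perp hB h hx hxf v.2.1
  have h3 := hx u v
  rw [← h3]
  conv_rhs => rw [h1, h2]
  simp only [map_add, LinearMap.add_apply, map_smul, LinearMap.smul_apply, smul_eq_mul, h.ff]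
  have h4 : B f (pr B f f' (x v)) = 0 := by rw [hB.symm]; exact (pr_mem hB h _).1
  have h5 : B (pr B f f' (x u)) f = 0 := (pr_mem hB h _).1
  rw [h4, h5]; ring

/-- An isometry of `p`-power order fixing `f` acts trivially on `f⊥ / f`. -/
theorem unip {p : ℕ} [Fact p.Prime] [CharP F p] [FiniteDimensional F V] (h2 : (2 : F) ≠ 0)
    (hd : finrank F V ≤ 4) {y : Module.End F V} (hy : Isom B y) (hf : y f = f) {k : ℕ}
    (hp : y ^ p ^ k = 1) {v : V} (hv : v ∈ V0 B f f') : y v = v + B (y v) f' • f := by
  have h3 : finrank F (V0 B f f') ≤ 2 := by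
    have := finrank_V0 hB h
    omega
  have h4 : (y0 hB h y) ^ p ^ k = 1 := by rw [← y0_pow hB h hy hf, hp, y0_one]
  have h5 := eq_one_of_small (frm0 hB h) h2 h3 (y0_isom hB h hy hf) h4
  have h6 : pr B f f' (y v) = v := by
    have := congrArg (fun g : Module.End F (V0 B f f') => ((g ⟨v, hv⟩ : V0 B f f') : V)) h5
    exact this
  have h7 := act_perp hB h hy hf hv.1
  rw [h6, add_comm] at h7
  exact h7

/-- The vector of a Siegel element. -/
def wv (B : V →ₗ[F] V →ₗ[F] F) (f f' : V) (y : Module.End F V) : V := pr B f f' (y f')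

/-- `y` is a Siegel element for `f`: it fixes `f` and acts trivially on `f⊥ / f`. -/
structure IsSiegel (B : V →ₗ[F] V →ₗ[F] F) (f f' : V) (y : Module.End F V) : Prop where
  iso : Isom B y
  fix : y f = f
  triv : ∀ v ∈ V0 B f f', y v = v + B (y v) f' • f

theorem IsSiegel.apply_f' (h2 : (2 : F) ≠ 0) {y : Module.End F V} (hy : IsSiegel B f f' y) :
    y f' = f' + wv B f f' y - ((2 : F)⁻¹ * B (wv B f f' y) (wv B f f' y)) • f := by
  have h1 : B f' f = 1 := by rw [hB.symm]; exact h.ff'
  have h3 := decomp (B := B) (f := f) (f' := f') (y f')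
  have h4 : B (y f') f = 1 := by
    have := hy.iso f' f
    rwa [hy.fix, h1] at this
  have h5 : B (y f') (y f') = 0 := by rw [hy.iso]; exact h.f'f'
  have hw := pr_mem hB h (y f')
  rw [h4, one_smul] at h3
  change y f' = B (y f') f' • f + f' + wv B f f' y at h3
  change wv B f f' y ∈ V0 B f f' at hw
  generalize hc : B (y f') f' = c at h3
  generalize wv B f f' y = w at h3 hw
  have h6 : 2 * c + B w w = 0 := by
    rw [← h5, h3]
    simp only [map_add, LinearMap.add_apply, map_smul, LinearMap.smul_apply, smul_eq_mul, h.ff,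
      h.ff', h.f'f', h1, hw.1, hw.2, hB.symm f w, hB.symm f' w]
    ring
  have h7 : c = -((2 : F)⁻¹ * B w w) := by
    field_simp
    linear_combination h6
  rw [h3, h7, neg_smul]; abel

theorem IsSiegel.apply_V0 {y : Module.End F V} (hy : IsSiegel B f f' y) {v : V}
    (hv : v ∈ V0 B f f') : y v = v - B v (wv B f f' y) • f := by
  have h1 : B f' f = 1 := by rw [hB.symm]; exact h.ff'
  have h3 := hy.triv v hv
  have h4 := hy.iso v f'
  rw [hv.2, h3] at h4
  have h5 : B f (y f') = 1 := by
    have := hy.iso f f'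
    rwa [hy.fix, h.ff'] at this
  have h6 : B v (y f') = B v (wv B f f' y) := (B_pr hB h hv (y f')).symm
  simp only [map_add, LinearMap.add_apply, map_smul, LinearMap.smul_apply, smul_eq_mul, h5, h6,
    mul_one] at h4
  rw [h3, sub_eq_add_neg, ← neg_smul]
  congr 2
  linear_combination h4

/-- A Siegel element is determined by its vector. -/
theorem IsSiegel.ext (h2 : (2 : F) ≠ 0) {y x : Module.End F V} (hy : IsSiegel B f f' y)
    (hx : IsSiegel B f f' x) (hw : wv B f f' y = wv B f f' x) : y = x := by
  apply LinearMap.ext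
  intro v
  rw [decomp (B := B) (f := f) (f' := f') v]
  simp only [map_add, map_smul]
  rw [hy.fix, hx.fix, hy.apply_f' hB h h2, hx.apply_f' hB h h2, hy.apply_V0 hB h (pr_mem hB h v),
    hx.apply_V0 hB h (pr_mem hB h v), hw]

theorem IsSiegel.wv_mem {y : Module.End F V} (hy : IsSiegel B f f' y) : wv B f f' y ∈ V0 B f f' :=
  pr_mem hB h _

theorem f'f : B f' f = 1 := by rw [hB.symm]; exact h.ff'

theorem V0_swap : V0 B f' f = V0 B f f' := by
  ext v
  exact And.comm

/-- The product of three Siegel elements which interchanges the two isotropic lines. -/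
theorem mu (h2 : (2 : F) ≠ 0) {y y' : Module.End F V} (hy : IsSiegel B f f' y)
    (hy' : IsSiegel B f' f y') {c : F} (hc0 : c ≠ 0) (hc : B (wv B f' f y') (wv B f' f y') = 2 * c)
    (hw : wv B f f' y = c⁻¹ • wv B f' f y') :
    (y * y' * y) f = -(c • f') ∧ (y * y' * y) f' = -(c⁻¹ • f) ∧
      ∀ v ∈ V0 B f f', (y * y' * y) v ∈ V0 B f f' := by
  have h' := h.symm hB
  have hw' : wv B f' f y' ∈ V0 B f f' := by
    rw [← V0_swap hB h]; exact hy'.wv_mem hB h'
  have hwm := hy.wv_mem hB h
  have e1 := hy.apply_f' hB h h2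
  have e2 := hy'.apply_f' hB h' h2
  have e3 : ∀ v ∈ V0 B f f', y v = v - B v (wv B f f' y) • f := fun v hv => hy.apply_V0 hB h hv
  have e4 : ∀ v ∈ V0 B f f', y' v = v - B v (wv B f' f y') • f' := by
    intro v hv
    apply hy'.apply_V0 hB h'
    rw [V0_swap hB h]; exact hv
  have hyf := hy.fix
  have hyf' := hy'.fix
  rw [hw] at e1 e3 hwm
  generalize wv B f' f y' = w at e1 e2 e3 e4 hw' hc hwm
  have hnf : (y * y' * y) f = -(c • f') := by
    rw [Module.End.mul_apply, Module.End.mul_apply, hyf, e2, map_sub, map_add, map_smul, hyf, e1,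
      e3 w hw']
    simp only [map_smul, LinearMap.smul_apply, smul_eq_mul, hc]
    have a1 : c⁻¹ * (2 * c) = 2 := by field_simp
    have a2 : (2 : F)⁻¹ * (2 * c) = c := by field_simp
    have a3 : (2 : F)⁻¹ * (c⁻¹ * 2) = c⁻¹ := by field_simp
    rw [a1, a2, a3, smul_sub, smul_add, smul_smul, smul_smul, mul_inv_cancel₀ hc0, one_smul,
      one_smul, two_smul]
    abel
  have hnf' : (y * y' * y) f' = -(c⁻¹ • f) := by
    rw [Module.End.mul_apply, Module.End.mul_apply, e1, map_sub, map_add, map_smul, map_smul, hyf',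
      e2, e4 w hw']
    simp only [map_smul, LinearMap.smul_apply, smul_eq_mul, hc]
    have a1 : (2 : F)⁻¹ * (c⁻¹ * (c⁻¹ * (2 * c))) = c⁻¹ := by field_simp
    have a2 : (2 : F)⁻¹ * (2 * c) = c := by field_simp
    rw [a1, a2]
    have : f' + c⁻¹ • (w - (2 * c) • f') - c⁻¹ • (f + w - c • f') = -(c⁻¹ • f) := by
      rw [smul_sub, smul_sub, smul_add, smul_smul, smul_smul, inv_mul_cancel₀ hc0, one_smul,
        show c⁻¹ * (2 * c) = 2 by field_simp, two_smul]
      abel
    rw [this, map_neg, map_smul, hyf]
  refine ⟨hnf, hnf', fun v hv => ?_⟩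
  have hn : Isom B (y * y' * y) := (hy.iso.mul hy'.iso).mul hy.iso
  have h5 := hn v f
  have h6 := hn v f'
  rw [hnf, hv.1, map_neg, map_smul, neg_eq_zero] at h5
  rw [hnf', hv.2, map_neg, map_smul, neg_eq_zero] at h6
  exact ⟨(smul_eq_zero.1 h6).resolve_left (inv_ne_zero hc0), (smul_eq_zero.1 h5).resolve_left hc0⟩

/-- Siegel elements for opposite vectors with the same singular vector commute. -/
theorem comm_singular (h2 : (2 : F) ≠ 0) {y y' : Module.End F V} (hy : IsSiegel B f f' y)
    (hy' : IsSiegel B f' f y') (hw : wv B f f' y = wv B f' f y')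
    (h0 : B (wv B f f' y) (wv B f f' y) = 0) : y * y' = y' * y := by
  have h' := h.symm hB
  have hwm := hy.wv_mem hB h
  have e1 := hy.apply_f' hB h h2
  have e2 := hy'.apply_f' hB h' h2
  have e3 : ∀ v ∈ V0 B f f', y v = v - B v (wv B f f' y) • f := fun v hv => hy.apply_V0 hB h hv
  have e4 : ∀ v ∈ V0 B f f', y' v = v - B v (wv B f' f y') • f' := by
    intro v hv
    apply hy'.apply_V0 hB h'
    rw [V0_swap hB h]; exact hv
  have hyf := hy.fix
  have hyf' := hy'.fix
  rw [← hw] at e2 e4
  generalize wv B f f' y = w at e1 e2 e3 e4 h0 hwm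
  rw [h0, mul_zero, zero_smul, sub_zero] at e1 e2
  have e5 := e3 w hwm
  have e6 := e4 w hwm
  rw [h0, zero_smul, sub_zero] at e5 e6
  apply LinearMap.ext
  intro v
  rw [Module.End.mul_apply, Module.End.mul_apply, decomp (B := B) (f := f) (f' := f') v]
  have hp := pr_mem hB h v
  generalize pr B f f' v = u at hp
  simp only [map_add, map_smul, hyf, hyf', e1, e2, e3 u hp, e4 u hp, map_sub, e5, e6]
  module

/-- Siegel elements for the same vector commute. -/
theorem comm_same (h2 : (2 : F) ≠ 0) {y x : Module.End F V} (hy : IsSiegel B f f' y)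
    (hx : IsSiegel B f f' x) : y * x = x * y := by
  have hwm := hy.wv_mem hB h
  have hum := hx.wv_mem hB h
  have e1 := hy.apply_f' hB h h2
  have e2 := hx.apply_f' hB h h2
  have e3 : ∀ v ∈ V0 B f f', y v = v - B v (wv B f f' y) • f := fun v hv => hy.apply_V0 hB h hv
  have e4 : ∀ v ∈ V0 B f f', x v = v - B v (wv B f f' x) • f := fun v hv => hx.apply_V0 hB h hv
  have hyf := hy.fix
  have hxf := hx.fix
  generalize wv B f f' y = w at e1 e3 hwm
  generalize wv B f f' x = u at e2 e4 hum
  have e5 := e3 u hum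
  have e6 := e4 w hwm
  apply LinearMap.ext
  intro v
  rw [Module.End.mul_apply, Module.End.mul_apply, decomp (B := B) (f := f) (f' := f') v]
  have hp := pr_mem hB h v
  generalize pr B f f' v = t at hp
  simp only [map_add, map_smul, hyf, hxf, e1, e2, e3 t hp, e4 t hp, map_sub, e5, e6, hB.symm w u]
  module

/-- the general formula -/
theorem IsSiegel.apply_singular (h2 : (2 : F) ≠ 0) {y : Module.End F V} (hy : IsSiegel B f f' y)
    (h0 : B (wv B f f' y) (wv B f f' y) = 0) (v : V) :
    y v = v + B v f • wv B f f' y - B v (wv B f f' y) • f := by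
  have hwm := hy.wv_mem hB h
  have e1 := hy.apply_f' hB h h2
  have e3 : ∀ v ∈ V0 B f f', y v = v - B v (wv B f f' y) • f := fun v hv => hy.apply_V0 hB h hv
  have hyf := hy.fix
  generalize wv B f f' y = w at e1 e3 h0 hwm
  rw [h0, mul_zero, zero_smul, sub_zero] at e1
  have hp := pr_mem hB h v
  have hd := decomp (B := B) (f := f) (f' := f') v
  have hvw : B v w = B (pr B f f' v) w := by
    conv_lhs => rw [hd]
    simp only [map_add, LinearMap.add_apply, map_smul, LinearMap.smul_apply, smul_eq_mul,
      hB.symm f w, hB.symm f' w, hwm.1, hwm.2, mul_zero, zero_add]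
  rw [hvw]
  generalize pr B f f' v = t at hp hd
  conv_lhs => rw [hd]
  simp only [map_add, map_smul, hyf, e1, e3 t hp]
  conv_rhs => rw [hd]
  simp only [map_add, LinearMap.add_apply, map_smul, LinearMap.smul_apply, smul_eq_mul, h.ff,
    f'f hB h, hp.1, mul_zero, mul_one, add_zero, zero_add]
  module

/-- The displacement of a Siegel element. -/
theorem IsSiegel.sub_apply (h2 : (2 : F) ≠ 0) {y : Module.End F V} (hy : IsSiegel B f f' y) (v : V) :
    y v - v = B v f • wv B f f' y - (B v f * ((2 : F)⁻¹ * B (wv B f f' y) (wv B f f' y)) +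
      B (pr B f f' v) (wv B f f' y)) • f := by
  have hp := pr_mem hB h v
  have hd := decomp (B := B) (f := f) (f' := f') v
  have e1 := hy.apply_f' hB h h2
  have e3 := hy.apply_V0 hB h hp
  have hyf := hy.fix
  generalize B v f = b at hd
  generalize B v f' = a at hd
  generalize pr B f f' v = u at hp hd e3
  rw [hd, map_add, map_add, map_smul, map_smul, hyf, e1, e3]
  module

/-- Vectors fixed by all Siegel elements. -/
theorem eq_of_fixed (h2 : (2 : F) ≠ 0) (han : ∀ w ∈ V0 B f f', B w w = 0 → w = 0) {w0 : V}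
    (hw0 : w0 ∈ V0 B f f') (hw01 : w0 ≠ 0) {v : V}
    (hfull : ∀ w ∈ V0 B f f', ∃ y, IsSiegel B f f' y ∧ wv B f f' y = w ∧ y v = v) :
    v = B v f' • f := by
  have key : ∀ w ∈ V0 B f f', B v f = 0 ∧ B (pr B f f' v) w = 0 ∨ w = 0 := by
    intro w hw
    by_cases hw1 : w = 0
    · exact Or.inr hw1
    left
    obtain ⟨y, hy, hyw, hyv⟩ := hfull w hw
    have h3 := hy.sub_apply hB h h2 v
    rw [hyv, sub_self, hyw] at h3
    have h4 := congrArg (fun x => B x w) h3
    have h5 := congrArg (fun x => B x f') h3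
    simp only [map_sub, LinearMap.sub_apply, map_smul, LinearMap.smul_apply, smul_eq_mul, h.ff',
      hw.2, hB.symm f w, hw.1, map_zero, LinearMap.zero_apply, mul_zero, mul_one, sub_zero,
      zero_sub] at h4 h5
    have h6 : B v f = 0 := by
      rcases mul_eq_zero.1 h4.symm with h7 | h7
      · exact h7
      · exact absurd (han w hw h7) hw1
    refine ⟨h6, ?_⟩
    rw [h6, zero_mul, zero_add] at h5
    exact neg_eq_zero.1 h5.symm
  have h1 : B v f = 0 := ((key w0 hw0).resolve_right hw01).1
  have h3 : pr B f f' v = 0 := by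
    by_contra hne
    exact hne (han _ (pr_mem hB h v) ((key _ (pr_mem hB h v)).resolve_right hne).2)
  have h4 := decomp (B := B) (f := f) (f' := f') v
  rw [h1, h3, zero_smul, add_zero, add_zero] at h4
  exact h4

/-- An isometry of `p`-power order fixing `f` is a Siegel element. -/
theorem isSiegel {p : ℕ} [Fact p.Prime] [CharP F p] [FiniteDimensional F V] (h2 : (2 : F) ≠ 0)
    (hd : finrank F V ≤ 4) {y : Module.End F V} (hy : Isom B y) (hf : y f = f) {k : ℕ}
    (hp : y ^ p ^ k = 1) : IsSiegel B f f' y :=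
  ⟨hy, hf, fun _ hv => unip hB h h2 hd hy hf hp hv⟩

end Hyp

section group

variable [Finite F] [Finite V] {p : ℕ} [Fact p.Prime] [CharP F p] {Y : Type*} [Group Y] [Finite Y]
  (ρ : Y →* Module.End F V)

theorem rho_pow (hY : IsPGroup p Y) (g : Y) : ∃ k, ρ g ^ p ^ k = 1 := by
  obtain ⟨k, hk⟩ := hY g
  exact ⟨k, by rw [← map_pow, hk, map_one]⟩

theorem exists_common (hY : IsPGroup p Y) [Nontrivial V] : ∃ v, v ≠ 0 ∧ ∀ g, ρ g v = v := by
  let _inst : MulAction Y V :=
    { smul := fun g v => ρ g v
      one_smul := fun v => by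
        show ρ 1 v = v
        rw [map_one]; rfl
      mul_smul := fun g g' v => by
        show ρ (g * g') v = ρ g (ρ g' v)
        rw [map_mul]; rfl }
  have hcard : p ∣ Nat.card V := by
    have h1 : Nat.card V = Nat.card F ^ finrank F V := Module.natCard_eq_pow_finrank
    rw [h1]
    have h2 : p ∣ Nat.card F := by
      have := Fintype.ofFinite F
      rw [Nat.card_eq_fintype_card]
      obtain ⟨n, hn, hc⟩ := FiniteField.card F p
      rw [hc]
      exact dvd_pow_self p n.ne_zero
    exact dvd_pow h2 (finrank_pos).ne'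
  obtain ⟨b, hb, hb0⟩ := hY.exists_fixed_point_of_prime_dvd_card_of_fixed_point V hcard
    (a := (0 : V)) (fun g => map_zero (ρ g))
  exact ⟨b, fun h => hb0 h.symm, fun g => hb g⟩

variable {B : V →ₗ[F] V →ₗ[F] F}

/-- With an anisotropic fixed vector in dimension at most three: trivial. -/
theorem aniso {y : Module.End F V} (hB : Frm B) (h2 : (2 : F) ≠ 0) (hd : finrank F V ≤ 3)
    (hy : Isom B y) {k : ℕ} (hp : y ^ p ^ k = 1) {f : V} (hf : y f = f) (hff : B f f ≠ 0) :
    y = 1 := by
  -- the orthogonal space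
  let P : Submodule F V := LinearMap.ker (B f)
  have hmem : ∀ v, v ∈ P ↔ B f v = 0 := fun v => Iff.rfl
  have hinv : ∀ v ∈ P, y v ∈ P := by
    intro v hv
    rw [hmem] at hv ⊢
    have := hy f v
    rwa [hf, hv] at this
  let yP : Module.End F P := y.restrict hinv
  have hdec : ∀ v : V, v - (B f v / B f f) • f ∈ P := by
    intro v
    rw [hmem, map_sub, map_smul, smul_eq_mul, div_mul_cancel₀ _ hff, sub_self]
  have hfr : finrank F P ≤ 2 := by
    have h3 : finrank F P < finrank F V := by
      apply Submodule.finrank_lt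
      intro htop
      apply hff
      rw [← hmem, htop]; trivial
    omega
  let BP : P →ₗ[F] P →ₗ[F] F := B.domRestrict₁₂ P P
  have hBP : Frm BP := by
    constructor
    · intro u v; exact hB.symm _ _
    · intro u hu
      apply Subtype.ext
      apply hB.nd
      intro v
      have h3 : B (u : V) (v - (B f v / B f f) • f) = 0 := hu ⟨_, hdec v⟩
      rw [map_sub, map_smul, hB.symm (u : V) f, (hmem _).1 u.2, smul_zero, sub_zero] at h3
      exact h3
  have hyP : Isom BP yP := fun u v => hy _ _
  have hpP : yP ^ p ^ k = 1 := by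
    apply LinearMap.ext
    intro v
    apply Subtype.ext
    have : ((yP ^ p ^ k) v : V) = (y ^ p ^ k) v := by
      generalize p ^ k = n
      clear hp
      induction n generalizing v with
      | zero => rfl
      | succ n ih => rw [pow_succ, pow_succ, Module.End.mul_apply, Module.End.mul_apply, ih]; rfl
    rw [this, hp]; rfl
  have h1 := eq_one_of_small hBP h2 hfr hyP hpP
  apply LinearMap.ext
  intro v
  have h3 : y (v - (B f v / B f f) • f) = v - (B f v / B f f) • f := by
    have := congrArg (fun g : Module.End F P => ((g ⟨_, hdec v⟩ : P) : V)) h1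
    exact this
  rw [map_sub, map_smul, hf] at h3
  exact sub_left_injective h3

/-- With an isotropic fixed vector the order is at most `|V0|`. -/
theorem card_le (hB : Frm B) (h2 : (2 : F) ≠ 0) (hd : finrank F V ≤ 4) (hY : IsPGroup p Y)
    (hinj : Function.Injective ρ) (hiso : ∀ g, Isom B (ρ g)) {f f' : V} (h : Hyp B f f')
    (hf : ∀ g, ρ g f = f) : Nat.card Y ≤ Nat.card (V0 B f f') := by
  have hS : ∀ g, IsSiegel B f f' (ρ g) := by
    intro g
    obtain ⟨k, hk⟩ := rho_pow ρ hY g
    exact isSiegel hB h h2 hd (hiso g) (hf g) hk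
  have hw : ∀ g, wv B f f' (ρ g) ∈ V0 B f f' := fun g => pr_mem hB h _
  apply Nat.card_le_card_of_injective (fun g => (⟨wv B f f' (ρ g), hw g⟩ : V0 B f f'))
  intro g g' hgg
  exact hinj ((hS g).ext hB h h2 (hS g') (congrArg Subtype.val hgg))

theorem one_lt_card_F : 1 < Nat.card F := Finite.one_lt_card

/-- Existence of an isotropic fixed vector. -/
theorem exists_isotropic (hB : Frm B) (h2 : (2 : F) ≠ 0) (hd : finrank F V = 3 ∨ finrank F V = 4)
    (hY : IsPGroup p Y) (hinj : Function.Injective ρ) (hiso : ∀ g, Isom B (ρ g))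
    (hcard : Nat.card F ^ (finrank F V - 2) ≤ Nat.card Y) :
    ∃ f, f ≠ 0 ∧ B f f = 0 ∧ ∀ g, ρ g f = f := by
  have hnt : Nontrivial V := by
    apply Module.nontrivial_of_finrank_pos (R := F)
    omega
  obtain ⟨f, hf0, hf⟩ := exists_common ρ hY
  refine ⟨f, hf0, ?_, hf⟩
  by_contra hff
  have hF := one_lt_card_F (F := F)
  rcases hd with hd | hd
  · -- dimension three
    have htriv : ∀ g : Y, g = 1 := by
      intro g
      obtain ⟨k, hk⟩ := rho_pow ρ hY g
      apply hinj
      rw [map_one]
      exact aniso hB h2 hd.le (hiso g) hk (hf g) hff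
    have : Nat.card Y ≤ 1 := by
      rw [Finite.card_le_one_iff_subsingleton]
      exact ⟨fun a b => by rw [htriv a, htriv b]⟩
    rw [hd] at hcard
    norm_num at hcard
    omega
  · -- dimension four
    let P : Submodule F V := LinearMap.ker (B f)
    have hmem : ∀ v, v ∈ P ↔ B f v = 0 := fun v => Iff.rfl
    have hinv : ∀ g : Y, ∀ v ∈ P, ρ g v ∈ P := by
      intro g v hv
      rw [hmem] at hv ⊢
      have := hiso g f v
      rwa [hf, hv] at this
    let ρP : Y →* Module.End F P :=
      { toFun := fun g => (ρ g).restrict (hinv g)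
        map_one' := by
          apply LinearMap.ext; intro v; apply Subtype.ext
          show ρ 1 (v : V) = v
          rw [map_one]; rfl
        map_mul' := fun g g' => by
          apply LinearMap.ext; intro v; apply Subtype.ext
          show ρ (g * g') (v : V) = ρ g (ρ g' v)
          rw [map_mul]; rfl }
    have hdec : ∀ v : V, v - (B f v / B f f) • f ∈ P := by
      intro v
      rw [hmem, map_sub, map_smul, smul_eq_mul, div_mul_cancel₀ _ hff, sub_self]
    have hfr : finrank F P ≤ 3 := by
      have h3 : finrank F P < finrank F V := by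
        apply Submodule.finrank_lt
        intro htop
        apply hff
        rw [← hmem, htop]; trivial
      omega
    have hfr' : 3 ≤ finrank F P := by
      have h3 := LinearMap.finrank_range_add_finrank_ker (B f)
      have h4 : finrank F (LinearMap.range (B f)) ≤ 1 := by
        have := Submodule.finrank_le (LinearMap.range (B f))
        rwa [Module.finrank_self] at this
      change finrank F (LinearMap.range (B f)) + finrank F P = finrank F V at h3
      omega
    let BP : P →ₗ[F] P →ₗ[F] F := B.domRestrict₁₂ P P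
    have hBP : Frm BP := by
      constructor
      · intro u v; exact hB.symm _ _
      · intro u hu
        apply Subtype.ext
        apply hB.nd
        intro v
        have h3 : B (u : V) (v - (B f v / B f f) • f) = 0 := hu ⟨_, hdec v⟩
        rw [map_sub, map_smul, hB.symm (u : V) f, (hmem _).1 u.2, smul_zero, sub_zero] at h3
        exact h3
    have hisoP : ∀ g, Isom BP (ρP g) := fun g u v => hiso g _ _
    have hinjP : Function.Injective ρP := by
      intro g g' hgg
      apply hinj
      apply LinearMap.ext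
      intro v
      have h3 : ρ g (v - (B f v / B f f) • f) = ρ g' (v - (B f v / B f f) • f) := by
        have := congrArg (fun a : Module.End F P => ((a ⟨_, hdec v⟩ : P) : V)) hgg
        exact this
      rw [map_sub, map_sub, map_smul, map_smul, hf, hf] at h3
      exact sub_left_injective h3
    have hntP : Nontrivial P := by
      apply Module.nontrivial_of_finrank_pos (R := F)
      omega
    have hle : Nat.card Y ≤ Nat.card F := by
      obtain ⟨g0, hg0, hg⟩ := exists_common ρP hY
      by_cases hgg : BP g0 g0 = 0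
      · obtain ⟨g1, hh⟩ := exists_hyp hBP h2 hg0 hgg
        have h3 := card_le ρP hBP h2 (by omega) hY hinjP hisoP hh hg
        have h4 : finrank F (V0 BP g0 g1) = 1 := by
          have := finrank_V0 hBP hh
          omega
        have h5 : Nat.card (V0 BP g0 g1) = Nat.card F := by
          have : Nat.card (V0 BP g0 g1) = Nat.card F ^ finrank F (V0 BP g0 g1) :=
            Module.natCard_eq_pow_finrank
          rw [this, h4, pow_one]
        rwa [h5] at h3
      · have htriv : ∀ g : Y, g = 1 := by
          intro g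
          obtain ⟨k, hk⟩ := rho_pow ρP hY g
          apply hinjP
          rw [map_one]
          exact aniso hBP h2 hfr (hisoP g) hk (hg g) hgg
        have : Nat.card Y ≤ 1 := by
          rw [Finite.card_le_one_iff_subsingleton]
          exact ⟨fun a b => by rw [htriv a, htriv b]⟩
        omega
    rw [hd] at hcard
    norm_num at hcard
    nlinarith

/-- The full Siegel group: every vector of `V0` occurs. -/
theorem exists_wv (hB : Frm B) (h2 : (2 : F) ≠ 0) (hd : finrank F V ≤ 4)
    (hY : IsPGroup p Y) (hinj : Function.Injective ρ) (hiso : ∀ g, Isom B (ρ g))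
    (hcard : Nat.card F ^ (finrank F V - 2) ≤ Nat.card Y) {f f' : V} (h : Hyp B f f')
    (hf : ∀ g, ρ g f = f) {w : V} (hw : w ∈ V0 B f f') : ∃ g, wv B f f' (ρ g) = w := by
  have hS : ∀ g, IsSiegel B f f' (ρ g) := by
    intro g
    obtain ⟨k, hk⟩ := rho_pow ρ hY g
    exact isSiegel hB h h2 hd (hiso g) (hf g) hk
  have hw' : ∀ g, wv B f f' (ρ g) ∈ V0 B f f' := fun g => pr_mem hB h _
  let φ : Y → V0 B f f' := fun g => ⟨wv B f f' (ρ g), hw' g⟩
  have hφ : Function.Injective φ := by
    intro g g' hgg
    exact hinj ((hS g).ext hB h h2 (hS g') (congrArg Subtype.val hgg))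
  have hcV : Nat.card (V0 B f f') = Nat.card F ^ (finrank F V - 2) := by
    have h3 : Nat.card (V0 B f f') = Nat.card F ^ finrank F (V0 B f f') :=
      Module.natCard_eq_pow_finrank
    have h4 := finrank_V0 hB h
    rw [h3]
    congr 1
    omega
  have hbij : Function.Bijective φ := by
    rw [Nat.bijective_iff_injective_and_card]
    refine ⟨hφ, le_antisymm (Nat.card_le_card_of_injective φ hφ) ?_⟩
    rw [hcV]; exact hcard
  obtain ⟨g, hg⟩ := hbij.2 ⟨w, hw⟩
  exact ⟨g, congrArg Subtype.val hg⟩

/-- RESULT: two noncommuting `p`-groups of isometries of order at least `q ^ (m - 2)` are the full Siegel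
groups of a hyperbolic pair, and `V0` is anisotropic. -/
theorem exists_pair (hB : Frm B) (h2 : (2 : F) ≠ 0) (hd : finrank F V = 3 ∨ finrank F V = 4)
    {Y' : Type*} [Group Y'] [Finite Y'] (ρ' : Y' →* Module.End F V)
    (hY : IsPGroup p Y) (hinj : Function.Injective ρ) (hiso : ∀ g, Isom B (ρ g))
    (hcard : Nat.card F ^ (finrank F V - 2) ≤ Nat.card Y)
    (hY' : IsPGroup p Y') (hinj' : Function.Injective ρ') (hiso' : ∀ g, Isom B (ρ' g))
    (hcard' : Nat.card F ^ (finrank F V - 2) ≤ Nat.card Y')
    (hne : ∀ g g', g ≠ 1 → g' ≠ 1 → ρ g * ρ' g' ≠ ρ' g' * ρ g) :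
    ∃ f f', Hyp B f f' ∧ (∀ g, IsSiegel B f f' (ρ g)) ∧ (∀ g, IsSiegel B f' f (ρ' g)) ∧
      (∀ w ∈ V0 B f f', ∃ g, wv B f f' (ρ g) = w) ∧ (∀ w ∈ V0 B f f', ∃ g, wv B f' f (ρ' g) = w) ∧
      ∀ w ∈ V0 B f f', B w w = 0 → w = 0 := by
  have hd4 : finrank F V ≤ 4 := by omega
  have hF := one_lt_card_F (F := F)
  have h1F : 1 < Nat.card F ^ (finrank F V - 2) := Nat.one_lt_pow (by omega) hF
  obtain ⟨f, hf0, hff, hf⟩ := exists_isotropic ρ hB h2 hd hY hinj hiso hcard
  obtain ⟨f1, hf10, hff1, hf1⟩ := exists_isotropic ρ' hB h2 hd hY' hinj' hiso' hcard'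
  have hS : ∀ {g0 : V}, Hyp B f g0 → ∀ g, IsSiegel B f g0 (ρ g) := by
    intro g0 hh g
    obtain ⟨k, hk⟩ := rho_pow ρ hY g
    exact isSiegel hB hh h2 hd4 (hiso g) (hf g) hk
  have hS1 : ∀ {g0 : V}, Hyp B f1 g0 → ∀ g, IsSiegel B f1 g0 (ρ' g) := by
    intro g0 hh g
    obtain ⟨k, hk⟩ := rho_pow ρ' hY' g
    exact isSiegel hB hh h2 hd4 (hiso' g) (hf1 g) hk
  have hnt : ∃ g : Y, g ≠ 1 := by
    by_contra hcon
    push Not at hcon
    have : Nat.card Y ≤ 1 := by
      rw [Finite.card_le_one_iff_subsingleton]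
      exact ⟨fun a b => by rw [hcon a, hcon b]⟩
    omega
  have hnt' : ∃ g : Y', g ≠ 1 := by
    by_contra hcon
    push Not at hcon
    have : Nat.card Y' ≤ 1 := by
      rw [Finite.card_le_one_iff_subsingleton]
      exact ⟨fun a b => by rw [hcon a, hcon b]⟩
    omega
  -- the two vectors are not orthogonal
  have hfa : B f f1 ≠ 0 := by
    intro hfa
    obtain ⟨f', hh⟩ := exists_hyp hB h2 hf0 hff
    obtain ⟨g', hg'⟩ := hnt'
    set v := pr B f f' f1 with hv
    have hvm : v ∈ V0 B f f' := pr_mem hB hh f1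
    have hf1e : f1 = B f1 f' • f + v := by
      have h3 := decomp (B := B) (f := f) (f' := f') f1
      rw [hB.symm f1 f, hfa, zero_smul, add_zero] at h3
      exact h3
    have hvv : B v v = 0 := by
      have h3 : B f1 f1 = B v v := by
        conv_lhs => rw [hf1e]
        simp only [map_add, LinearMap.add_apply, map_smul, LinearMap.smul_apply, smul_eq_mul, hh.ff,
          hB.symm f v, hvm.1, mul_zero, zero_add]
      rw [← h3, hff1]
    by_cases hv0 : v = 0
    · -- the same line
      obtain ⟨g, hg⟩ := hnt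
      rw [hv0, add_zero] at hf1e
      have hfix : ρ' g' f = f := by
        have h3 := hf1 g'
        rw [hf1e, map_smul] at h3
        have hne0 : B f1 f' ≠ 0 := by
          intro h0
          rw [h0, zero_smul] at hf1e
          exact hf10 hf1e
        have h4 : (B f1 f') • (ρ' g' f - f) = 0 := by rw [smul_sub, h3, sub_self]
        exact sub_eq_zero.1 ((smul_eq_zero.1 h4).resolve_left hne0)
      obtain ⟨k, hk⟩ := rho_pow ρ' hY' g'
      exact hne g g' hg hg' (comm_same hB hh h2 (hS hh g)
        (isSiegel hB hh h2 hd4 (hiso' g') hfix hk))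
    · obtain ⟨g, hg⟩ := exists_wv ρ hB h2 hd4 hY hinj hiso hcard hh hf hvm
      have hg1 : g ≠ 1 := by
        rintro rfl
        rw [map_one] at hg
        apply hv0
        rw [← hg]
        show pr B f f' f' = 0
        rw [pr_apply, hh.f'f', f'f hB hh, zero_smul, sub_zero, one_smul, sub_self]
      apply hne g g' hg1 hg'
      -- `ρ g x = x + (x,f) f1 - (x,f1) f`
      have hT : ∀ x, ρ g x = x + B x f • f1 - B x f1 • f := by
        intro x
        rw [(hS hh g).apply_singular hB hh h2 (by rw [hg]; exact hvv) x, hg]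
        conv_rhs => rw [hf1e]
        simp only [map_add, map_smul, smul_eq_mul]
        module
      -- `ρ' g' f = f + c f1`
      obtain ⟨c, hc⟩ : ∃ c : F, ρ' g' f = f + c • f1 := by
        obtain ⟨f1', hh1⟩ := exists_hyp hB h2 hf10 hff1
        have h3 := decomp (B := B) (f := f1) (f' := f1') f
        rw [hfa, zero_smul, add_zero] at h3
        have h4 := (hS1 hh1 g').triv (pr B f1 f1' f) (pr_mem hB hh1 f)
        refine ⟨B (ρ' g' (pr B f1 f1' f)) f1', ?_⟩
        generalize B (ρ' g' (pr B f1 f1' f)) f1' = c at h4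
        generalize pr B f1 f1' f = u at h3 h4
        generalize B f f1' = b at h3
        rw [h3, map_add, map_smul, hf1, h4]
        module
      apply LinearMap.ext
      intro x
      rw [Module.End.mul_apply, Module.End.mul_apply, hT, hT x]
      simp only [map_add, map_sub, map_smul, hf1, hc]
      have e1 : B (ρ' g' x) f1 = B x f1 := by
        have := hiso' g' x f1
        rwa [hf1] at this
      have e2 : B (ρ' g' x) f = B x f - c * B x f1 := by
        have := hiso' g' x f
        rw [hc, map_add, map_smul, e1, smul_eq_mul] at this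
        linear_combination this
      rw [e1, e2]
      module
  -- scale
  set f' : V := (B f f1)⁻¹ • f1 with hf'
  have hh : Hyp B f f' := by
    refine ⟨hff, ?_, ?_⟩
    · rw [hf', map_smul, smul_eq_mul, inv_mul_cancel₀ hfa]
    · rw [hf', map_smul, map_smul, LinearMap.smul_apply, hff1, smul_zero, smul_zero]
  have hf'fix : ∀ g, ρ' g f' = f' := fun g => by rw [hf', map_smul, hf1]
  have hS' : ∀ g, IsSiegel B f' f (ρ' g) := by
    intro g
    obtain ⟨k, hk⟩ := rho_pow ρ' hY' g
    exact isSiegel hB (hh.symm hB) h2 hd4 (hiso' g) (hf'fix g) hk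
  have hw : ∀ w ∈ V0 B f f', ∃ g, wv B f f' (ρ g) = w := fun w hw =>
    exists_wv ρ hB h2 hd4 hY hinj hiso hcard hh hf hw
  have hw' : ∀ w ∈ V0 B f f', ∃ g, wv B f' f (ρ' g) = w := fun w hw => by
    apply exists_wv ρ' hB h2 hd4 hY' hinj' hiso' hcard' (hh.symm hB) hf'fix
    rw [V0_swap hB hh]; exact hw
  refine ⟨f, f', hh, hS hh, hS', hw, hw', ?_⟩
  intro w hwm hww
  by_contra hw0
  obtain ⟨g, hg⟩ := hw w hwm
  obtain ⟨g', hg'⟩ := hw' w hwm
  have hz : ∀ {a b : V}, Hyp B a b → wv B a b (1 : Module.End F V) = 0 := by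
    intro a b hab
    show pr B a b b = 0
    rw [pr_apply, hab.f'f', f'f hB hab, zero_smul, sub_zero, one_smul, sub_self]
  refine hne g g' ?_ ?_ (comm_singular hB hh h2 (hS hh g) (hS' g') (by rw [hg, hg'])
    (by rw [hg]; exact hww))
  · rintro rfl
    rw [map_one, hz hh] at hg
    exact hw0 hg.symm
  · rintro rfl
    rw [map_one, hz (hh.symm hB)] at hg'
    exact hw0 hg'.symm

end group

end Cfsg.Agent.Cit.OmB3.Siegel
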