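import Cfsg.Agent.Cit.OmB3.Side
import Cfsg.Agent.Cit.OmB3.Siegel

/-!
# The quadratic space `M = Q₁ ∩ Q₂` (identification of `Ω₇(q)` and `Ω₈⁻(q)`)
-/

set_option autoImplicit false
set_option linter.unusedSectionVars false
set_option linter.unusedVariables false
set_option linter.dupNamespace false

namespace Cfsg.Agent.Cit.OmB3.Form

open scoped commutatorElement
open Cfsg.Agent.RootAmalgam (Onto Maps PairData)
open Cfsg.Agent.Cit.LemmaATwo Cfsg.Agent.Cit.OmB3.Side Cfsg.Agent.Cit.OmB3.Siegel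

variable {G : Type*} [Group G] {F : Type*} [Field F]

/-- The pairing of `MM A Z z` and `MM A Z' z` with values in `A`. -/
structure Pairing (S : SLSys F G) (C B : Subgroup G) : Prop where
  dC : Dil S C
  dB : Dil S B
  comC : ∀ c ∈ C, ∀ a ∈ S.A, a * c = c * a
  comB : ∀ b ∈ B, ∀ a ∈ S.A, a * b = b * a
  pair : ∀ c ∈ C, ∀ b ∈ B, ⁅c, b⁆ ∈ S.A

namespace Pairing

variable {S : SLSys F G} {C B : Subgroup G} (P : Pairing S C B)

include P

theorem mul_left {c d b : G} (hc : c ∈ C) (hd : d ∈ C) (hb : b ∈ B) : ⁅c * d, b⁆ = ⁅c, b⁆ * ⁅d, b⁆ := by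
  have h1 : ⁅c * d, b⁆ = c * ⁅d, b⁆ * c⁻¹ * ⁅c, b⁆ := by simp only [commutatorElement_def]; group
  have h2 : c * ⁅d, b⁆ * c⁻¹ = ⁅d, b⁆ := by
    rw [← P.comC c hc _ (P.pair d hd b hb)]; group
  obtain ⟨s, hs⟩ := S.mem_A.1 (P.pair c hc b hb)
  obtain ⟨t, ht⟩ := S.mem_A.1 (P.pair d hd b hb)
  rw [h1, h2, ← hs, ← ht, ← S.xp_add, ← S.xp_add, add_comm]

theorem mul_right {c b d : G} (hc : c ∈ C) (hb : b ∈ B) (hd : d ∈ B) : ⁅c, b * d⁆ = ⁅c, b⁆ * ⁅c, d⁆ := by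
  have h1 : ⁅c, b * d⁆ = ⁅c, b⁆ * (b * ⁅c, d⁆ * b⁻¹) := by simp only [commutatorElement_def]; group
  have h2 : b * ⁅c, d⁆ * b⁻¹ = ⁅c, d⁆ := by
    rw [← P.comB b hb _ (P.pair c hc d hd)]; group
  rw [h1, h2]

/-- The coordinate of the commutator. -/
noncomputable def phi (c b : G) : F := by
  classical exact if h : c ∈ C ∧ b ∈ B then (S.mem_A.1 (P.pair c h.1 b h.2)).choose else 0

theorem xp_phi {c b : G} (hc : c ∈ C) (hb : b ∈ B) : S.xp (P.phi c b) = ⁅c, b⁆ := by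
  unfold phi
  rw [dif_pos ⟨hc, hb⟩]
  exact (S.mem_A.1 (P.pair c hc b hb)).choose_spec

theorem phi_eq {c b : G} (hc : c ∈ C) (hb : b ∈ B) {t : F} (h : ⁅c, b⁆ = S.xp t) : P.phi c b = t := by
  apply S.xp_injective
  rw [P.xp_phi hc hb, h]

theorem phi_mul_left {c d b : G} (hc : c ∈ C) (hd : d ∈ C) (hb : b ∈ B) :
    P.phi (c * d) b = P.phi c b + P.phi d b := by
  apply P.phi_eq (mul_mem hc hd) hb
  rw [P.mul_left hc hd hb, ← P.xp_phi hc hb, ← P.xp_phi hd hb, ← S.xp_add]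

theorem phi_mul_right {c b d : G} (hc : c ∈ C) (hb : b ∈ B) (hd : d ∈ B) :
    P.phi c (b * d) = P.phi c b + P.phi c d := by
  apply P.phi_eq hc (mul_mem hb hd)
  rw [P.mul_right hc hb hd, ← P.xp_phi hc hb, ← P.xp_phi hc hd, ← S.xp_add]

theorem phi_dl [Finite F] (h2 : (2 : F) ≠ 0) {c b : G} (hc : c ∈ C) (hb : b ∈ B) (u v : F) :
    P.phi (dl S u c) (dl S v b) = u * v * P.phi c b := by
  have hC : ∀ u, dl S u c ∈ C := fun u => P.dC.mem c hc u
  have hB : ∀ v, dl S v b ∈ B := fun v => P.dB.mem b hb v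
  have h1 := BiAdd.eq_mul h2 (fun u v => P.phi (dl S u c) (dl S v b)) ?_ ?_ ?_ u v
  · simp only [dl_one] at h1
    exact h1
  · intro u u' v
    rw [P.dC.add c hc, P.phi_mul_left (hC u) (hC u') (hB v)]
  · intro u v v'
    rw [P.dB.add b hb, P.phi_mul_right (hC u) (hB v) (hB v')]
  · intro s u v
    rw [← dl_dl, ← dl_dl]
    apply P.phi_eq (P.dC.mem _ (hC u) _) (P.dB.mem _ (hB v) _)
    by_cases hs : s = 0
    · subst hs
      rw [dl_zero, dl_zero, mul_zero, zero_mul, S.xp_zero, commutatorElement_one_left]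
    · rw [dl_ne S hs, dl_ne S hs, ← ac_comm, ← P.xp_phi (hC u) (hB v), S.h_xp _ _ hs]

end Pairing

/-- The configuration of two commuting `SL₂`'s with the same involution and the four groups `MM`. -/
structure Four (S1 S2 : SLSys F G) (z : G) : Prop where
  s1 : Side S1 S2.A z
  s1' : Side S1 S2.A' z
  s2 : Side S2 S1.A z
  s2' : Side S2 S1.A' z
  nd1 : ∀ x ∈ MM S1.A S2.A z, (∀ y ∈ MM S1.A S2.A' z, x * y = y * x) → x = 1
  nd2 : ∀ x ∈ MM S1.A S2.A z, (∀ y ∈ MM S1.A' S2.A z, x * y = y * x) → x = 1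

namespace Four

variable {S1 S2 : SLSys F G} {z : G}

theorem swap (D : Four S1 S2 z) : Four S2 S1 z where
  s1 := D.s2
  s1' := D.s2'
  s2 := D.s1
  s2' := D.s1'
  nd1 x hx h := D.nd2 x (by rwa [MM_symm]) fun y hy => h y (by rwa [MM_symm])
  nd2 x hx h := D.nd1 x (by rwa [MM_symm]) fun y hy => h y (by rwa [MM_symm])

theorem opp1 (D : Four S1 S2 z) : Four S1.opp S2 z where
  s1 := D.s1.opp
  s1' := D.s1'.opp
  s2 := D.s2'
  s2' := D.s2
  nd1 x hx h := by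
    have h1 := D.nd1 (ac S1.w x) (D.s1.ac_w_B.2 hx) fun y hy => by
      have h2 := h (ac S1.w⁻¹ y) (by
        show _ ∈ MM S1.A' S2.A' z
        rw [← D.s1'.ac_w_B, ac_ac_inv]; exact hy)
      rw [← ac_comm_iff S1.w, ac_ac_inv] at h2
      exact h2
    exact ac_inj (g := S1.w) (by rw [h1, ac_one])
  nd2 x hx h := by
    have h1 := D.nd2 (ac S1.w x) (D.s1.ac_w_B.2 hx) fun y hy => by
      have h2 := h (ac S1.w⁻¹ y) (by
        show _ ∈ MM S1.A S2.A z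
        rw [← D.s1.ac_w_C, ac_ac_inv]; exact hy)
      rw [← ac_comm_iff S1.w, ac_ac_inv] at h2
      exact h2
    exact ac_inj (g := S1.w) (by rw [h1, ac_one])

theorem opp2 (D : Four S1 S2 z) : Four S1 S2.opp z := D.swap.opp1.swap

/-- The group `M = Q₁ ∩ Q₂`. -/
abbrev MG (S1 S2 : SLSys F G) (z : G) : Subgroup G := MS S1.A S2.A z

variable (D : Four S1 S2 z)

include D

theorem two : Two S1.A S2.A z := D.s1.two

theorem mem {x : G} : x ∈ MG S1 S2 z ↔ x ∈ MM S1.A S2.A z := D.two.mem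

/-- The pairing `(+,+) × (+,-) → A₁`. -/
theorem pairing : Pairing S1 (MG S1 S2 z) (MG S1 S2.opp z) where
  dC := D.s1.dil
  dB := D.s1'.dil
  comC c hc a ha := (D.mem.1 hc).2.1 a ha
  comB c hc a ha := (D.opp2.mem.1 hc).2.1 a ha
  pair c hc b hb := by
    have h1 := D.mem.1 hc
    have h2 := D.opp2.mem.1 hb
    exact D.s1.hA c b h1.1 h2.1 h1.2.1 h2.2.1 h1.2.2.2 h2.2.2.2

theorem comm12 (s t : F) : S1.xp s * S2.xp t = S2.xp t * S1.xp s := D.s1.commp _ (S2.xp_mem t) s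
theorem comm1'2 (s t : F) : S1.xm s * S2.xp t = S2.xp t * S1.xm s := D.s1.commm _ (S2.xp_mem t) s
theorem comm12' (s t : F) : S1.xp s * S2.xm t = S2.xm t * S1.xp s := D.s1'.commp _ (S2.xm_mem t) s
theorem comm1'2' (s t : F) : S1.xm s * S2.xm t = S2.xm t * S1.xm s := D.s1'.commm _ (S2.xm_mem t) s

/-- `w₂` commutes with `S₁`. -/
theorem w2_xp (s : F) : S2.w * S1.xp s = S1.xp s * S2.w :=
  comm_w S2 (fun t => (D.comm12 s t).symm) fun t => (D.comm12' s t).symm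
theorem w2_xm (s : F) : S2.w * S1.xm s = S1.xm s * S2.w :=
  comm_w S2 (fun t => (D.comm1'2 s t).symm) fun t => (D.comm1'2' s t).symm
theorem w2_h {u : F} (hu : u ≠ 0) : S2.w * S1.h u = S1.h u * S2.w :=
  (comm_h S1 (fun t => (D.w2_xp t).symm) (fun t => (D.w2_xm t).symm) hu).symm

theorem w2_mem {x : G} : ac S2.w x ∈ MG S1 S2.opp z ↔ x ∈ MG S1 S2 z := by
  rw [D.mem, D.opp2.mem]
  have := D.s2.ac_w_C (x := x)
  rwa [MM_symm, MM_symm S2.A] at this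

theorem z_sq_w2 {y : G} (hy : y ∈ MG S1 S2 z) : ac S2.w (ac S2.w y) = y⁻¹ := by
  rw [ac_ac, S2.w_sq, D.s2.hz]
  exact (D.mem.1 hy).2.2.2

theorem dl_w2 (u : F) (x : G) : dl S1 u (ac S2.w x) = ac S2.w (dl S1 u x) := by
  by_cases hu : u = 0
  · subst hu; rw [dl_zero, dl_zero, ac_one]
  · rw [dl_ne S1 hu, dl_ne S1 hu, ac_ac, ac_ac, D.w2_h hu]

/-- symmetry of the form -/
theorem comm_symm {x y : G} (hx : x ∈ MG S1 S2 z) (hy : y ∈ MG S1 S2 z) :
    ⁅x, ac S2.w y⁆ = ⁅y, ac S2.w x⁆ := by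
  have P := D.pairing
  have hx' := D.w2_mem.2 hx
  have hy' := D.w2_mem.2 hy
  have h1 : ac S2.w ⁅x, ac S2.w y⁆ = ⁅x, ac S2.w y⁆ := by
    rw [← P.xp_phi hx hy']
    exact ac_of_comm (D.w2_xp _)
  rw [← h1, ac_comm, D.z_sq_w2 hy]
  have h2 : ⁅y⁻¹, ac S2.w x⁆ * ⁅y, ac S2.w x⁆ = 1 := by
    rw [← P.mul_left (inv_mem hy) hy hx', inv_mul_cancel, commutatorElement_one_left]
  have h3 : ⁅ac S2.w x, y⁻¹⁆ = ⁅y⁻¹, ac S2.w x⁆⁻¹ := by rw [commutatorElement_inv]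
  rw [h3, inv_eq_iff_mul_eq_one]
  exact h2

/-- The vector space `M`. -/
abbrev V : Type _ := (D.s1.dil).Vec

/-- The form. -/
noncomputable def beta [Finite F] (h2 : (2 : F) ≠ 0) : D.V →ₗ[F] D.V →ₗ[F] F :=
  LinearMap.mk₂ F (fun v w => D.pairing.phi (D.s1.dil.el v) (ac S2.w (D.s1.dil.el w)))
    (by
      intro v v' w
      rw [Dil.el_add]
      exact D.pairing.phi_mul_left (Dil.el_mem _ _) (Dil.el_mem _ _) (D.w2_mem.2 (Dil.el_mem _ _)))
    (by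
      intro u v w
      rw [Dil.el_smul]
      have := D.pairing.phi_dl h2 (Dil.el_mem D.s1.dil v) (D.w2_mem.2 (Dil.el_mem D.s1.dil w)) u 1
      rw [dl_one, mul_one] at this
      exact this)
    (by
      intro v w w'
      rw [Dil.el_add, ac_mul]
      exact D.pairing.phi_mul_right (Dil.el_mem _ _) (D.w2_mem.2 (Dil.el_mem _ _))
        (D.w2_mem.2 (Dil.el_mem _ _)))
    (by
      intro u v w
      rw [Dil.el_smul, ← D.dl_w2]
      have := D.pairing.phi_dl h2 (Dil.el_mem D.s1.dil v) (D.w2_mem.2 (Dil.el_mem D.s1.dil w)) 1 u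
      rw [dl_one, one_mul] at this
      exact this)

theorem beta_apply [Finite F] (h2 : (2 : F) ≠ 0) (v w : D.V) :
    S1.xp (D.beta h2 v w) = ⁅D.s1.dil.el v, ac S2.w (D.s1.dil.el w)⁆ :=
  D.pairing.xp_phi (Dil.el_mem _ _) (D.w2_mem.2 (Dil.el_mem _ _))

theorem beta_eq_zero [Finite F] (h2 : (2 : F) ≠ 0) (v w : D.V) :
    D.beta h2 v w = 0 ↔ D.s1.dil.el v * ac S2.w (D.s1.dil.el w) = ac S2.w (D.s1.dil.el w) * D.s1.dil.el v := by
  rw [← commutatorElement_eq_one_iff_mul_comm, ← D.beta_apply h2]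
  constructor
  · intro h; rw [h, S1.xp_zero]
  · intro h; exact S1.xp_inj _ h

theorem frm [Finite F] (h2 : (2 : F) ≠ 0) : Frm (D.beta h2) where
  symm u v := by
    apply S1.xp_injective
    rw [D.beta_apply, D.beta_apply]
    exact D.comm_symm (Dil.el_mem _ _) (Dil.el_mem _ _)
  nd u hu := by
    apply D.s1.dil.el_inj
    rw [Dil.el_zero]
    apply D.nd1 _ (D.mem.1 (Dil.el_mem _ _))
    intro y hy
    have hy1 : ac S2.w⁻¹ y ∈ MG S1 S2 z := by
      rw [← D.w2_mem, ac_ac_inv]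
      exact D.opp2.mem.2 hy
    obtain ⟨w, hw⟩ := D.s1.dil.exists_el hy1
    have h3 := (D.beta_eq_zero h2 u w).1 (hu w)
    rw [hw, ac_ac_inv] at h3
    exact h3

end Four

end Cfsg.Agent.Cit.OmB3.Form
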