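import Cfsg.Agent.Cit.OmB3.NeOf
import Cfsg.Agent.Cit.Types
import Cfsg.Agent.Cit.SLSysOf

/-!
# The third factor in the case `m = 3`

`M ≃ SL₂(F)` commutes with `M^z`, the diagonal `{k k^z}` centralises the two `SL₂`'s, and the element of order four of
`M` gives an element which acts nontrivially on `M(+,+)`.  Then the images of the root groups of `M` give `Big`.
-/

set_option autoImplicit false
set_option linter.unusedSectionVars false
set_option linter.unusedVariables false
set_option linter.dupNamespace false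

namespace Cfsg.Agent.Cit.OmB3.NeThree

open scoped commutatorElement
open Matrix Cfsg.Agent.Lib.SL2Mat
open Cfsg.Agent.RootAmalgam (Onto Maps)
open Cfsg.Agent.Cit.LemmaATwo Cfsg.Agent.Cit.OmB3.Side
  Cfsg.Agent.Cit.OmB3.Form Cfsg.Agent.Cit.OmB3.Big
open Cfsg.Agent.Cit.OmB3.Form.Four (MG)

variable {G : Type*} [Group G]

/-- a normal subgroup with an element which is not an involution contains the elements of order dividing 4 -/
theorem mem_of_good {X : Type*} [Group X] [Finite X] (hX : Ty.Good X) (N : Subgroup X) (hN : N.Normal) {x : X}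
    (hx : x ∈ N) (h1 : x ≠ 1) (h2 : orderOf x ≠ 2) {k : X} (hk : k ^ 4 = 1) : k ∈ N := by
  rcases hX.one N hN with h | h
  · have h3 : k ^ N.index ∈ N := Subgroup.pow_index_mem N k
    obtain ⟨r, hr⟩ := h
    rw [hr] at h3
    have h4 : k ^ 2 ∈ N := by
      have h5 : (k ^ (2 * r + 1)) ^ 2 = k ^ 2 := by
        rw [← pow_mul]
        have e : (2 * r + 1) * 2 = 4 * r + 2 := by ring
        rw [e, pow_add, pow_mul, hk, one_pow, one_mul]
      rw [← h5]
      exact pow_mem h3 2
    have h6 : k = (k ^ 2) ^ (2 * r + 1 - r) * (k ^ (2 * r + 1))⁻¹ := by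
      rw [eq_mul_inv_iff_mul_eq, ← pow_mul, ← pow_succ']
      congr 1
      omega
    rw [h6]
    exact mul_mem (pow_mem h4 _) (inv_mem h3)
  · rcases h x hx with h | h
    · exact absurd h h1
    · exact absurd h h2

variable {F : Type} [Field F] [Fintype F]

theorem mul_self_of {X : Type*} [Group X] {x : X} (h : orderOf x = 2) : x * x = 1 := by
  rw [← pow_two, ← h, pow_orderOf_eq_one]

theorem ent01_of_sq (h2 : (2 : F) ≠ 0) {x : SpecialLinearGroup (Fin 2) F} (hx : x * x = 1) :
    ent x 0 1 = 0 := by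
  have e1 : ent (x * x) 0 0 = 1 := by rw [hx]; rfl
  have e2 : ent (x * x) 0 1 = 0 := by rw [hx]; rfl
  rw [ent_mul] at e1 e2
  have e3 := det_eq x
  have h3 : ent x 0 0 * (ent x 0 0 + ent x 1 1) = 2 := by linear_combination e1 + e3
  have h4 : ent x 0 0 + ent x 1 1 ≠ 0 := by
    intro h
    rw [h, mul_zero] at h3
    exact h2 h3.symm
  have h5 : ent x 0 1 * (ent x 0 0 + ent x 1 1) = 0 := by linear_combination e2
  exact (mul_eq_zero.1 h5).resolve_right h4

theorem comm_up_lo (h2 : (2 : F) ≠ 0) {b c : F} (hb : b ≠ 0) (hc : c ≠ 0) :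
    ⁅up b, lo c⁆ ≠ 1 ∧ orderOf ⁅up b, lo c⁆ ≠ 2 := by
  have key : ent ⁅up b, lo c⁆ 0 1 ≠ 0 := by
    rw [commutatorElement_def, up_inv, lo_inv]
    simp only [ent_mul, up_00, up_01, up_10, up_11, lo_00, lo_01, lo_10, lo_11]
    intro h
    have h3 : -(b ^ 2 * c) = 0 := by linear_combination h
    rw [neg_eq_zero] at h3
    exact (mul_ne_zero (pow_ne_zero 2 hb) hc) h3
  constructor
  · intro h
    apply key
    rw [h]; rfl
  · intro h
    apply key
    exact ent01_of_sq h2 (mul_self_of h)

theorem up_ne (h2 : (2 : F) ≠ 0) {b : F} (hb : b ≠ 0) : up b ≠ 1 ∧ orderOf (up b) ≠ 2 := by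
  constructor
  · intro h
    have h3 := congrArg (fun x => ent x 0 1) h
    exact hb h3
  · intro h
    apply hb
    have h3 := ent01_of_sq h2 (x := up b) (mul_self_of h)
    exact h3

theorem lo_ne (h2 : (2 : F) ≠ 0) {b : F} (hb : b ≠ 0) : lo b ≠ 1 ∧ orderOf (lo b) ≠ 2 := by
  constructor
  · intro h
    have h3 := congrArg (fun x => ent x 1 0) h
    exact hb h3
  · intro h
    have h5 : lo b * lo b = 1 := mul_self_of h
    rw [lo_mul, ← lo_zero] at h5
    have h6 := lo_inj h5
    apply hb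
    have h7 : 2 * b = 0 := by rw [two_mul]; exact h6
    exact (mul_eq_zero.1 h7).resolve_left h2

section main

variable [Finite G] {p : ℕ} [Fact p.Prime] [CharP F p] {S1 S2 : SLSys F G} {z : G}
  {M : Subgroup G} (e : SpecialLinearGroup (Fin 2) F ≃* M)

/-- `k ↦ k k^z` -/
noncomputable def phi (hcomm : ∀ x ∈ M, ∀ y ∈ M, x * ac z y = ac z y * x) :
    SpecialLinearGroup (Fin 2) F →* G where
  toFun g := (e g : G) * ac z (e g : G)
  map_one' := by rw [map_one]; simp [ac_one]
  map_mul' g h := by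
    rw [map_mul, Subgroup.coe_mul, ac_mul]
    have := hcomm _ (e h).2 _ (e g).2
    calc (e g : G) * (e h : G) * (ac z (e g : G) * ac z (e h : G))
        = (e g : G) * ((e h : G) * ac z (e g : G)) * ac z (e h : G) := by group
      _ = _ := by rw [this]; group

theorem phi_apply (hcomm : ∀ x ∈ M, ∀ y ∈ M, x * ac z y = ac z y * x) (g : SpecialLinearGroup (Fin 2) F) :
    phi e hcomm g = (e g : G) * ac z (e g : G) := rfl

include e in
/-- **The structure `Big` for `m = 3`.** -/
theorem exists_big (hF : Odd (Fintype.card F)) (h2 : (2 : F) ≠ 0) (D : Four S1 S2 z)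
    (card : Nat.card (MG S1 S2 z) = Nat.card F ^ 3)
    (hcomm : ∀ x ∈ M, ∀ y ∈ M, x * ac z y = ac z y * x) (hE : ∀ k ∈ M, k * ac z k ∈ CC S1 S2)
    (ha : ∃ k ∈ M, k ^ 4 = 1 ∧ ∃ x ∈ MG S1 S2 z, ac (k * ac z k) x ≠ x) :
    ∃ Y Y', Big.Big p 3 S1 S2 z Y Y' := by
  set φ := phi e hcomm with hφ
  have hφC : ∀ g, φ g ∈ CC S1 S2 := fun g => hE _ (e g).2
  -- the kernel of the action
  let N : Subgroup (SpecialLinearGroup (Fin 2) F) :=
    { carrier := {g | ∀ x ∈ MG S1 S2 z, ac (φ g) x = x}
      mul_mem' := by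
        intro a b ha hb x hx
        rw [map_mul, ← ac_ac, hb x hx, ha x hx]
      one_mem' := by
        intro x _
        rw [map_one]; unfold ac; group
      inv_mem' := by
        intro a ha x hx
        have h1 := ha x hx
        rw [map_inv]
        nth_rewrite 1 [← h1]
        exact ac_inv_ac _ _ }
  have hN : N.Normal := by
    constructor
    intro a ha g x hx
    rw [map_mul, map_mul, map_inv, ← ac_ac, ← ac_ac]
    have h1 : ac (φ g)⁻¹ x ∈ MG S1 S2 z := (ac_mem D (inv_mem (hφC g))).2 hx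
    rw [ha _ h1, ac_ac_inv]
  have hgood : Ty.Good (SpecialLinearGroup (Fin 2) F) :=
    IsTy.good (Or.inl ⟨F, inferInstance, inferInstance, hF, ⟨MulEquiv.refl _⟩⟩)
  have key : ∀ g ∈ N, g ≠ 1 → orderOf g ≠ 2 → False := by
    intro g hg h1 h3
    obtain ⟨k, hk, hk4, x, hx, hne⟩ := ha
    apply hne
    have h4 : (e.symm ⟨k, hk⟩) ^ 4 = 1 := by
      rw [← map_pow]
      have h5 : (⟨k, hk⟩ : M) ^ 4 = 1 := Subtype.ext hk4
      rw [h5, map_one]
    have h5 := mem_of_good hgood N hN hg h1 h3 h4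
    have h6 := h5 x hx
    rw [hφ, phi_apply, MulEquiv.apply_symm_apply] at h6
    exact h6
  have hup : Function.Injective fun b : F => φ (up b) := by
    intro b c hbc
    have h1 : φ (up (b - c)) = 1 := by
      rw [sub_eq_add_neg, ← up_mul, ← up_inv, map_mul, map_inv]
      have : φ (up b) = φ (up c) := hbc
      rw [this, mul_inv_cancel]
    by_contra hne
    have h3 : b - c ≠ 0 := sub_ne_zero.2 hne
    obtain ⟨h4, h5⟩ := up_ne h2 h3
    refine key (up (b - c)) ?_ h4 h5
    intro x _
    rw [h1]; unfold ac; group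
  have hlo : Function.Injective fun b : F => φ (lo b) := by
    intro b c hbc
    have h1 : φ (lo (b - c)) = 1 := by
      rw [sub_eq_add_neg, ← lo_mul, ← lo_inv, map_mul, map_inv]
      have : φ (lo b) = φ (lo c) := hbc
      rw [this, mul_inv_cancel]
    by_contra hne
    have h3 : b - c ≠ 0 := sub_ne_zero.2 hne
    obtain ⟨h4, h5⟩ := lo_ne h2 h3
    refine key (lo (b - c)) ?_ h4 h5
    intro x _
    rw [h1]; unfold ac; group
  let YU : Subgroup G :=
    { carrier := Set.range fun b : F => φ (up b)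
      mul_mem' := by
        rintro _ _ ⟨b, rfl⟩ ⟨c, rfl⟩
        exact ⟨b + c, by show φ (up (b + c)) = _; rw [← up_mul, map_mul]⟩
      one_mem' := ⟨0, by show φ (up 0) = 1; rw [up_zero, map_one]⟩
      inv_mem' := by
        rintro _ ⟨b, rfl⟩
        exact ⟨-b, by show φ (up (-b)) = _; rw [← up_inv, map_inv]⟩ }
  let YL : Subgroup G :=
    { carrier := Set.range fun b : F => φ (lo b)
      mul_mem' := by
        rintro _ _ ⟨b, rfl⟩ ⟨c, rfl⟩
        exact ⟨b + c, by show φ (lo (b + c)) = _; rw [← lo_mul, map_mul]⟩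
      one_mem' := ⟨0, by show φ (lo 0) = 1; rw [lo_zero, map_one]⟩
      inv_mem' := by
        rintro _ ⟨b, rfl⟩
        exact ⟨-b, by show φ (lo (-b)) = _; rw [← lo_inv, map_inv]⟩ }
  have powU : ∀ (b : F) (k : ℕ), up b ^ k = up ((k : F) * b) := by
    intro b k
    induction k with
    | zero => rw [pow_zero, Nat.cast_zero, zero_mul, up_zero]
    | succ k ih => rw [pow_succ, ih, up_mul, Nat.cast_succ, add_mul, one_mul]
  have powL : ∀ (b : F) (k : ℕ), lo b ^ k = lo ((k : F) * b) := by
    intro b k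
    induction k with
    | zero => rw [pow_zero, Nat.cast_zero, zero_mul, lo_zero]
    | succ k ih => rw [pow_succ, ih, lo_mul, Nat.cast_succ, add_mul, one_mul]
  refine ⟨YU, YL, ?_⟩
  exact
  { four := D
    hm := Or.inl rfl
    card := card
    Yc := by
      rintro _ ⟨b, rfl⟩
      exact hφC _
    Yc' := by
      rintro _ ⟨b, rfl⟩
      exact hφC _
    Yp := by
      rintro ⟨_, ⟨b, rfl⟩⟩
      refine ⟨1, Subtype.ext ?_⟩
      show (φ (up b)) ^ p ^ 1 = 1
      rw [pow_one, ← map_pow, powU, CharP.cast_eq_zero, zero_mul, up_zero, map_one]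
    Yp' := by
      rintro ⟨_, ⟨b, rfl⟩⟩
      refine ⟨1, Subtype.ext ?_⟩
      show (φ (lo b)) ^ p ^ 1 = 1
      rw [pow_one, ← map_pow, powL, CharP.cast_eq_zero, zero_mul, lo_zero, map_one]
    Ycard := by
      show Nat.card F ^ 1 ≤ _
      rw [pow_one]
      exact Nat.card_le_card_of_injective (fun b : F => (⟨φ (up b), ⟨b, rfl⟩⟩ : YU))
        fun b c h => hup (congrArg Subtype.val h)
    Ycard' := by
      show Nat.card F ^ 1 ≤ _
      rw [pow_one]
      exact Nat.card_le_card_of_injective (fun b : F => (⟨φ (lo b), ⟨b, rfl⟩⟩ : YL))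
        fun b c h => hlo (congrArg Subtype.val h)
    ne := by
      rintro _ ⟨b, rfl⟩ hb _ ⟨c, rfl⟩ hc
      have hb0 : b ≠ 0 := by
        rintro rfl
        apply hb
        show φ (up 0) = 1
        rw [up_zero, map_one]
      have hc0 : c ≠ 0 := by
        rintro rfl
        apply hc
        show φ (lo 0) = 1
        rw [lo_zero, map_one]
      by_contra hcon
      push Not at hcon
      obtain ⟨h4, h5⟩ := comm_up_lo h2 hb0 hc0
      refine key ⁅up b, lo c⁆ ?_ h4 h5
      intro x hx
      have h6 : ac (φ (lo c) * φ (up b))⁻¹ x ∈ MG S1 S2 z :=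
        (ac_mem D (inv_mem (mul_mem (hφC _) (hφC _)))).2 hx
      have h7 := hcon _ h6
      change ac (φ (up b) * φ (lo c)) _ = ac (φ (lo c) * φ (up b)) _ at h7
      rw [ac_ac_inv, ac_ac] at h7
      rw [← h7]
      congr 1
      rw [map_commutatorElement, commutatorElement_def]
      group }

end main

end Cfsg.Agent.Cit.OmB3.NeThree
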