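import Cfsg.Agent.Cit.OmB3.SupFour
import Cfsg.Agent.Cit.OmB3.ChartNon
import Cfsg.Agent.Cit.OmB3.Aniso
import Cfsg.Agent.Cit.OmB3.NeThree
import Cfsg.Agent.Cit.OmB3.GlueB

/-!
# Branch (B): from the exact parabolics and the typed charts of `D_v`, `D_a` to the configuration `Big`

`LocT Om p q n K τ u L` : `LocU` with a chart of type `τ`.

* `exists_fr` : the two members in the chart (`ChartLe.Fr`);
* `exists_root` : in type `C 2`, `C_M(u) = X y`, anisotropic;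
* `big_four` : `m = 4`, one of the charts of type `A 3`, the other of type `C 2`;
* `big_three` : `m = 3`, from a third member `M`.
-/

set_option autoImplicit false
set_option linter.unusedSectionVars false
set_option linter.unusedVariables false
set_option linter.dupNamespace false
set_option linter.style.haveILetI false

namespace Cfsg.Agent.Cit.OmB3.GlueC

open Subgroup Cfsg
open Cfsg.Agent.Cit.Parab Cfsg.Agent.Cit.LemmaUQ Cfsg.Agent.Cit.ParabSL2 Cfsg.Agent.Cit.FrameSign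
  Cfsg.Agent.Cit.FrameOf Cfsg.Agent.Cit.CoreFrame Cfsg.Agent.Cit.TypeD4 Cfsg.Agent.Cit.SLSysOf
  Cfsg.Agent.Cit.LemmaATwo Cfsg.Agent.Cit.TypeD4Prov
open CoxeterSystem Cfsg.Agent.ChevalleyStructure.CoxeterGeom Cfsg.Agent.Nodes.Chart Cfsg.Agent.Nodes.ChartLoc
  Cfsg.Agent.Nodes.Comb Cfsg.Agent.Nodes.ClsNorm Cfsg.Agent.Nodes.Reps Cfsg.Agent.Tits.Roots
  Cfsg.Agent.Tits.Core Cfsg.Agent.Tits.RootComb Cfsg.Agent.Nodes.BNOf Cfsg.Agent.Nodes.Coroot
open Cfsg.Agent.Cit.OmB3.Sup Cfsg.Agent.Cit.OmB3.Side Cfsg.Agent.Cit.OmB3.Form Cfsg.Agent.Cit.OmB3.Big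
open Cfsg.Agent.Cit.OmB3.Form.Four (MG)

variable {G : Type*} [Group G] [Finite G] {Om : Set (Subgroup G)}

/-- `LocU` with a chart of type `τ`. -/
structure LocT (Om : Set (Subgroup G)) (p q n : ℕ) {ι : Type*} (K : ι → Subgroup G) (τ : Nodes.Chart.Ty) (u : G)
    (L : Subgroup G) : Prop where
  piece : FrameOf.Piece Om u L
  le : ∀ i, K i ≤ L
  two : 2 ≤ n
  chart : ∃ c : Chart Om p L, c.IsTy τ ∧ ∀ r ∈ c.R, Nat.card (VV c.cs c.h c.X r) = q ^ n

theorem LocT.locU {p q n : ℕ} {ι : Type*} {K : ι → Subgroup G} {τ : Nodes.Chart.Ty} {u : G} {L : Subgroup G}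
    (U : LocT Om p q n K τ u L) (hτ : τ = .A 3 ∨ τ = .C 2) : LocU Om p q n K u L where
  piece := U.piece
  le := U.le
  two := U.two
  chart := by
    obtain ⟨c, h1, h2⟩ := U.chart
    refine ⟨c, ?_, h2⟩
    rcases hτ with rfl | rfl
    · exact Or.inl h1
    · exact Or.inr h1

/-- `Z = X` on `R` -/
theorem zx {p : ℕ} {L : Subgroup G} (c : Chart Om p L) {r s : c.I → ℤ} (hr : r ∈ c.R) (hs : s ∈ c.R)
    (h0 : form c.cs c.h r s = 0) (hz : c.z r = c.z s) : ∀ y ∈ c.R, c.Z y = c.X y := by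
  have : Fact p.Prime := ⟨c.prime⟩
  intro y hy
  obtain ⟨w, rfl⟩ := c.trans r hr y hy
  obtain ⟨n', hn'⟩ := exists_rp c.cs c.cls.rgd.nsys w
  refine (TwinRoots.X_eq_Z c.cls (c.cls.act r hr w) (c.cls.act s hs w) ?_ ?_ c.odd).symm
  · rw [form_rep, h0]
  · rw [← conj_z c.cls hn' hr, ← conj_z c.cls hn' hs, hz]

section Dat

variable {ι : Type*} {F : Type} [Field F] [Fintype F] {K : ι → Subgroup G}
  {X : ι → SignType → Subgroup G} {p n : ℕ} [CharP F p] (D : Dat Om F K X)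

include D

variable [Finite ι]

/-- the adapted chart -/
theorem exists_chartT {τ : Nodes.Chart.Ty} {u : G} {L : Subgroup G} (U : LocT Om p (Nat.card F) n K τ u L) (i : ι) :
    ∃ (c : Chart Om p L) (gr : ι → c.I → ℤ), Adapted K X c gr ∧ c.IsTy τ ∧
      ∀ r ∈ c.R, Nat.card (VV c.cs c.h c.X r) = Nat.card F ^ n := by
  obtain ⟨c, hty, hc⟩ := U.chart
  have : Fact p.Prime := ⟨c.prime⟩
  obtain ⟨y, hy, gr, hA⟩ := exists_adapted c (z_ne D c U.two hc (U.le i)) D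
  refine ⟨conjChart c hy D.hyp.conj, gr, hA, hty, fun r hr => ?_⟩
  have e1 := congrArg (fun S : Subgroup G => Nat.card S) (VV_conj c hy D.hyp.conj r)
  exact e1.trans ((card_cj _ _).trans (hc r hr))

end Dat

section Main

variable {F : Type} [Field F] [Fintype F] {p na nv : ℕ} {K : Fin 2 → Subgroup G}
  {X : Fin 2 → SignType → Subgroup G} {a : G} {La Lv : Subgroup G} [CharP F p]
  (H : Prov Om F p na nv K X a La Lv)

include H

/-- **The roots of the frame in the chart of type `τ`.** -/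
theorem exists_rcT {τ : Nodes.Chart.Ty} (hτ : τ = .A 3 ∨ τ = .C 2) {u : G} {L : Subgroup G} {n : ℕ}
    (U : LocT Om p (Nat.card F) n K τ u L) :
    ∃ (c : Chart Om p L) (ρ : Fin 2 → SignType → c.I → ℤ), c.IsTy τ ∧
      (∀ i s, s ≠ 0 → ρ i s ∈ c.R ∧ c.Z (ρ i s) = X i s ∧ c.z (ρ i s) = zz (K i) ∧ ρ i (-s) = -ρ i s ∧
        QF K X i s ⊓ centralizer {u} = VV c.cs c.h c.X (ρ i s)) ∧
      ∀ i j s t, i ≠ j → s ≠ 0 → t ≠ 0 → form c.cs c.h (ρ i s) (ρ j t) = 0 := by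
  obtain ⟨c, gr, hA, hty, hcard⟩ := exists_chartT H.dat U 0
  classical
  refine ⟨c, fun i s => if s = 1 then gr i else -gr i, hty, ?_, ?_⟩
  · intro i s hs
    have hi := U.le i
    have key : (if s = 1 then gr i else -gr i) ∈ c.R ∧ c.Z (if s = 1 then gr i else -gr i) = X i s ∧
        c.z (if s = 1 then gr i else -gr i) = zz (K i) ∧
        (if -s = 1 then gr i else -gr i) = -(if s = 1 then gr i else -gr i) := by
      rcases sign_cases hs with rfl | rfl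
      · rw [if_pos rfl, if_neg (by decide)]
        exact ⟨hA.mem i hi, hA.pos i hi, hA.zz i hi, rfl⟩
      · rw [if_neg (by decide), if_pos (by decide)]
        refine ⟨neg_mem c.cls (hA.mem i hi), hA.neg i hi, ?_, (neg_neg _).symm⟩
        rw [c.cls.z_neg _ (hA.mem i hi), hA.zz i hi]
    obtain ⟨k1, k2, k3, k4⟩ := key
    refine ⟨k1, k2, k3, k4, ?_⟩
    rw [H.inf_t_eq hs U.piece hi]
    exact H.inf_L_eq hs c k1 k2 k3
  · intro i j s t hij hs ht
    have h0 := hA.orth i (U.le i) j (U.le j) hij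
    rcases sign_cases hs with rfl | rfl <;> rcases sign_cases ht with rfl | rfl <;>
      simp only [if_true, show ¬ ((-1 : SignType) = 1) from by decide, if_false, form_neg_left,
        form_neg_right, h0, neg_zero]

variable {m : ℕ} {e : ∀ i, Matrix.SpecialLinearGroup (Fin 2) F ≃* K i}
  (I : InB e (fun i => zz (K i)) X (QF K X) m)

include I

/-- **The two members in the chart of type `τ`.** -/
theorem exists_fr {τ : Nodes.Chart.Ty} (hτ : τ = .A 3 ∨ τ = .C 2) {u : G} {L : Subgroup G} {n : ℕ}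
    (U : LocT Om p (Nat.card F) n K τ u L) :
    ∃ (c : Chart Om p L) (r s : c.I → ℤ), c.IsTy τ ∧
      ChartLe.Fr c (ofEquiv (e 0)) (ofEquiv (e 1)) (zz (K 0)) r s ∧ form c.cs c.h r s = 0 ∧ c.z r = c.z s ∧
      QF K X 0 1 ⊓ centralizer {u} = VV c.cs c.h c.X r ∧ QF K X 1 1 ⊓ centralizer {u} = VV c.cs c.h c.X s := by
  obtain ⟨c, ρ, hty, h1, h2⟩ := exists_rcT H hτ U
  have n1 : (1 : SignType) ≠ 0 := by decide
  have n1' : (-1 : SignType) ≠ 0 := by decide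
  obtain ⟨k1, k2, k3, k4, k5⟩ := h1 0 1 n1
  obtain ⟨l1, l2, l3, l4, l5⟩ := h1 1 1 n1
  obtain ⟨-, k2', -, -, -⟩ := h1 0 (-1) n1'
  obtain ⟨-, l2', -, -, -⟩ := h1 1 (-1) n1'
  have h0 := h2 0 1 1 1 (by decide) n1 n1
  have hz : c.z (ρ 0 1) = c.z (ρ 1 1) := by rw [k3, l3]; exact H.zeq
  have hzx := zx c k1 l1 h0 hz
  refine ⟨c, ρ 0 1, ρ 1 1, hty, ?_, h0, hz, k5, l5⟩
  have hty' : c.IsTy (.A 3) ∨ c.IsTy (.C 2) := by
    rcases hτ with rfl | rfl
    · exact Or.inl hty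
    · exact Or.inr hty
  refine ChartNon.fr_of c hty' k1 l1 h0 hzx ?_ ?_ ?_ ?_ k3.symm
  · rw [I.S_A, ← k2, hzx _ k1]
  · rw [I.S_A', ← k2', k4, hzx _ (neg_mem c.cls k1)]
  · rw [I.S_A, ← l2, hzx _ l1]
  · rw [I.S_A', ← l2', l4, hzx _ (neg_mem c.cls l1)]

end Main

section C2

variable {p : ℕ} {L : Subgroup G} (c : Chart Om p L)

/-- **type `C 2`**: `VV r ∩ VV s` is a root group. -/
theorem exists_root (hty : c.IsTy (.C 2)) {r s : c.I → ℤ} (hr : r ∈ c.R) (hs : s ∈ c.R)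
    (h0 : form c.cs c.h r s = 0) (hz : c.z r = c.z s)
    (hne : VV c.cs c.h c.X r ⊓ VV c.cs c.h c.X s ≠ ⊥) :
    ∃ y, IsRoot c.cs c.h y ∧ 0 < form c.cs c.h y r ∧ 0 < form c.cs c.h y s ∧ y ≠ r ∧
      -s - cpr c.cs c.h (-s) (-y) • (-y) = r ∧ VV c.cs c.h c.X r ⊓ VV c.cs c.h c.X s ≤ c.X y := by
  have : Fact p.Prime := ⟨c.prime⟩
  have hf := Nd.form_eq c hr hs
  have hk : ∀ y, IsRoot c.cs c.h y → 0 < form c.cs c.h y r → 0 < form c.cs c.h y s → (2 : ℤ) • y = r + s := by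
    rcases Nd.kind_C2 c hty hr hs h0 with h | h
    · exact h
    intro y hy h1 h2
    exfalso
    have hcard : Fintype.card c.I = 2 := hty.card
    have hfr : 0 < form c.cs c.h r r := form_pos c.cs c.h (c.cls.root r hr).ne_zero
    have t1 := two_form_cpr c.cs c.h y (c.cls.root r hr)
    have t2 := two_form_cpr c.cs c.h y (c.cls.root s hs)
    have b1 : 0 < cpr c.cs c.h y r := (cpr_pos_iff c.cs c.h y (c.cls.root r hr)).2 h1
    have b2 : 0 < cpr c.cs c.h y s := (cpr_pos_iff c.cs c.h y (c.cls.root s hs)).2 h2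
    set u := cpr c.cs c.h y r with hu
    set v := cpr c.cs c.h y s with hv
    have e1 : (2 : ℤ) • y - (u • r + v • s) = 0 := by
      refine Nd.eq_zero_of_orth c.cs c.h hcard hfr.ne' (by rw [← hf]; exact hfr.ne') h0 ?_ ?_
      · rw [sub_eq_add_neg, form_add_left, form_neg_left, form_add_left, form_smul_left, form_smul_left,
          form_smul_left, form_comm c.cs c.h s r, h0]
        linarith
      · rw [sub_eq_add_neg, form_add_left, form_neg_left, form_add_left, form_smul_left, form_smul_left,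
          form_smul_left, h0]
        linarith
    have e2 : (2 : ℤ) • y = u • r + v • s := sub_eq_zero.1 e1
    have e3 : 2 * form c.cs c.h y y = u * form c.cs c.h y r + v * form c.cs c.h y s := by
      calc 2 * form c.cs c.h y y = form c.cs c.h y ((2 : ℤ) • y) := (form_smul_right _ _ _ _ _).symm
        _ = form c.cs c.h y (u • r + v • s) := by rw [e2]
        _ = _ := by rw [form_add_right, form_smul_right, form_smul_right]
    have e4 := (h y hy).2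
    rw [← hf] at t2
    have e5 : (u * u + v * v - 4) * form c.cs c.h r r = 0 := by
      rw [e4] at e3
      nlinarith
    have e6 : u * u + v * v = 4 := by
      have := (mul_eq_zero.1 e5).resolve_right hfr.ne'
      omega
    have u1 : u ≤ 2 := by nlinarith
    have v1 : v ≤ 2 := by nlinarith
    interval_cases u <;> interval_cases v <;> omega
  have hle := Nd.inf_le c.cls hr hs h0 hf hz c.odd
  obtain ⟨y, hy, h1, h2⟩ : ∃ y, IsRoot c.cs c.h y ∧ 0 < form c.cs c.h y r ∧ 0 < form c.cs c.h y s := by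
    by_contra hcon
    push Not at hcon
    apply hne
    rw [eq_bot_iff]
    refine hle.trans (RGD.Sup_le ?_)
    rintro y ⟨hy, h1, h2⟩
    exact absurd h2 (not_lt.2 (hcon y hy h1))
  have h2y := hk y hy h1 h2
  have hfr : 0 < form c.cs c.h r r := form_pos c.cs c.h (c.cls.root r hr).ne_zero
  -- numbers
  have n1 : 2 * form c.cs c.h y r = form c.cs c.h r r := by
    have : 2 * form c.cs c.h y r = form c.cs c.h ((2 : ℤ) • y) r := (form_smul_left _ _ _ _ _).symm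
    rw [this, h2y, form_add_left, form_comm c.cs c.h s r, h0, add_zero]
  have n2 : 2 * form c.cs c.h y s = form c.cs c.h r r := by
    have : 2 * form c.cs c.h y s = form c.cs c.h ((2 : ℤ) • y) s := (form_smul_left _ _ _ _ _).symm
    rw [this, h2y, form_add_left, h0, zero_add, hf]
  have n3 : 2 * form c.cs c.h y y = form c.cs c.h r r := by
    have h3 : 2 * form c.cs c.h y y = form c.cs c.h y r + form c.cs c.h y s := by
      calc 2 * form c.cs c.h y y = form c.cs c.h y ((2 : ℤ) • y) := (form_smul_right _ _ _ _ _).symm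
        _ = form c.cs c.h y (r + s) := by rw [h2y]
        _ = _ := by rw [form_add_right]
    omega
  refine ⟨y, hy, h1, h2, ?_, ?_, ?_⟩
  · rintro rfl
    omega
  · have t1 := two_form_cpr c.cs c.h (-s) hy.neg
    rw [form_neg_left, form_neg_right, form_neg_left, form_neg_right, neg_neg, neg_neg, form_comm c.cs c.h s y] at t1
    have hcp : cpr c.cs c.h (-s) (-y) = 2 := by
      have hyy : 0 < form c.cs c.h y y := form_pos c.cs c.h hy.ne_zero
      have h4 : (cpr c.cs c.h (-s) (-y) - 2) * form c.cs c.h y y = 0 := by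
        have : cpr c.cs c.h (-s) (-y) * form c.cs c.h y y = 2 * form c.cs c.h y s := by rw [t1]
        rw [sub_mul, this]
        omega
      have := (mul_eq_zero.1 h4).resolve_right hyy.ne'
      omega
    rw [hcp]
    have : (2 : ℤ) • (-y) = -(r + s) := by rw [smul_neg, h2y]
    rw [this]
    abel
  · refine hle.trans (RGD.Sup_le ?_)
    rintro y' ⟨hy', h1', h2'⟩
    have h5 := hk y' hy' h1' h2'
    have h6 : y' = y := by
      rw [← h2y] at h5
      exact smul_right_injective _ (two_ne_zero (α := ℤ)) h5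
    rw [h6]

end C2

section Big

variable {F : Type} [Field F] [Fintype F] {p na nv : ℕ} {K : Fin 2 → Subgroup G}
  {X : Fin 2 → SignType → Subgroup G} {a : G} {La Lv : Subgroup G} [CharP F p]
  (H : Prov Om F p na nv K X a La Lv)

include H

variable {m : ℕ} {e : ∀ i, Matrix.SpecialLinearGroup (Fin 2) F ≃* K i}
  (I : InB e (fun i => zz (K i)) X (QF K X) m)

include I

theorem mem_MG {x : G} : x ∈ MG (ofEquiv (e 0)) (ofEquiv (e 1)) (zz (K 0)) ↔ x ∈ QF K X 0 1 ∧ x ∈ QF K X 1 1 := by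
  have := I.MG_eq
  show x ∈ MG (ofEquiv (e 0)) (ofEquiv (e 1)) ((fun i => zz (K i)) 0) ↔ _
  rw [this, Subgroup.mem_inf]

/-- `C_M(u)` is anisotropic if `D_u` has type `C 2`. -/
theorem aniso_u {u : G} {L : Subgroup G} {n : ℕ} (U : LocT Om p (Nat.card F) n K (.C 2) u L) :
    ∀ x ∈ MG (ofEquiv (e 0)) (ofEquiv (e 1)) (zz (K 0)), u * x = x * u →
      x * ac (ofEquiv (e 1)).w x = ac (ofEquiv (e 1)).w x * x → x = 1 := by
  intro x hx hxu hc
  obtain ⟨c, r, s, hty, hf, h0, hz, k1, k2⟩ := exists_fr H I (Or.inr rfl) U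
  have hx' := (mem_MG H I).1 hx
  have hxu' : x ∈ centralizer {u} := mem_centralizer_singleton_iff.2 hxu.symm
  have hxV : x ∈ VV c.cs c.h c.X r ⊓ VV c.cs c.h c.X s := by
    rw [← k1, ← k2]
    exact ⟨⟨hx'.1, hxu'⟩, hx'.2, hxu'⟩
  by_cases hb : VV c.cs c.h c.X r ⊓ VV c.cs c.h c.X s = ⊥
  · rw [hb] at hxV
    exact Subgroup.mem_bot.1 hxV
  obtain ⟨y, hy, h1, h2, h3, h4, h5⟩ := exists_root c hty hf.hr hf.hs h0 hz hb
  exact Aniso.aniso_chart hf I.four hy h1 h2 h3 h4 (h5 hxV) hc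

/-- `|C_M(u)|` -/
theorem card_u {u : G} (hu : ∀ i, ∀ k ∈ K i, u * k = k * u) {L : Subgroup G} {k : ℕ}
    (U : LocU Om p (Nat.card F) (2 * k + 1) K u L) :
    Nat.card (MG (ofEquiv (e 0)) (ofEquiv (e 1)) (zz (K 0)) ⊓ centralizer {u} : Subgroup G) = Nat.card F ^ k := by
  have n1 : (1 : SignType) ≠ 0 := by decide
  have h1 := I.card_inf_u (i := 0) (l := 1) (by decide) n1 n1 hu (H.card_u U 0 n1)
  rw [← h1]
  have : MG (ofEquiv (e 0)) (ofEquiv (e 1)) (zz (K 0)) = QF K X 0 1 ⊓ QF K X 1 1 := I.MG_eq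
  rw [this]

theorem mem_CC {g : G} (hg : ∀ i, ∀ k ∈ K i, g * k = k * g) : g ∈ CC (ofEquiv (e 0)) (ofEquiv (e 1)) :=
  ⟨fun t => (hg 0 _ (xp_mem (e 0) t)).symm, fun t => (hg 0 _ (xm_mem (e 0) t)).symm,
    fun t => (hg 1 _ (xp_mem (e 1) t)).symm, fun t => (hg 1 _ (xm_mem (e 1) t)).symm⟩

/-- **The groups of the charts lie in `G₀`.** -/
theorem le_G0 {Y Y' : Subgroup G} {m' : ℕ} [Fact p.Prime]
    (B : Big p m' (ofEquiv (e 0)) (ofEquiv (e 1)) (zz (K 0)) Y Y')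
    {τ : Nodes.Chart.Ty} (hτ : τ = .A 3 ∨ τ = .C 2) {u : G} {L : Subgroup G} {n : ℕ}
    (U : LocT Om p (Nat.card F) n K τ u L) : L ≤ ChartOut.G0 (ofEquiv (e 0)) (ofEquiv (e 1)) (zz (K 0)) := by
  obtain ⟨c, r, s, hty, hf, h0, hz, k1, k2⟩ := exists_fr H I hτ U
  obtain ⟨z3, C⟩ := Pairs.exists_cfg B I.h2 (H.inp I.root I.rootOp)
  exact hf.le_G0 I.four (ChartOut.A1_le C) (ChartOut.A1'_le C) (ChartOut.A2_le C) (ChartOut.A2'_le C)

omit [CharP F p] H I in
theorem card_Fp : Nat.card F = Fintype.card F := Nat.card_eq_fintype_card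

/-- the covering of `C_M(u)` in type `A 3` -/
theorem exists_lin {u : G} (hu : ∀ i, ∀ k ∈ K i, u * k = k * u) {L : Subgroup G}
    (U : LocT Om p (Nat.card F) 5 K (.A 3) u L) :
    ∃ (n : G) (P P' : Subgroup G), NeOf.LinA (ofEquiv (e 0)) (ofEquiv (e 1)) (zz (K 0)) n L P P' ∧
      ∀ x ∈ MG (ofEquiv (e 0)) (ofEquiv (e 1)) (zz (K 0)), u * x = x * u → ∃ a ∈ P, ∃ b ∈ P', x = a * b := by
  obtain ⟨c, r, s, hty, hf, h0, hz, k1, k2⟩ := exists_fr H I (Or.inl rfl) U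
  obtain ⟨x, y, n, hn, hx, hy, hxy, hxy', hinf, hcomm, cx, cy, LA⟩ := LinChart.exists_linA c hty hf
  refine ⟨n, c.X x, c.X y, LA, ?_⟩
  set C : Subgroup G := MG (ofEquiv (e 0)) (ofEquiv (e 1)) (zz (K 0)) ⊓ centralizer {u} with hC
  have hcard : Nat.card C = Nat.card F ^ 2 := card_u H I hu (k := 2) (U.locU (Or.inl rfl))
  have hPC : ∀ a ∈ c.X x, a ∈ C := fun a ha =>
    ⟨I.four.mem.2 (LA.P_M a ha), mem_centralizer_singleton_iff.2 (U.piece.le a (LA.P_D ha))⟩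
  have hPC' : ∀ a ∈ c.X y, a ∈ C := fun a ha =>
    ⟨I.four.mem.2 (LA.P'_M a ha), mem_centralizer_singleton_iff.2 (U.piece.le a (LA.P'_D ha))⟩
  let f : c.X x × c.X y → C := fun q => ⟨(q.1 : G) * q.2, mul_mem (hPC _ q.1.2) (hPC' _ q.2.2)⟩
  have hfi : Function.Injective f := by
    rintro ⟨a, b⟩ ⟨a', b'⟩ h
    have h1 : (a : G) * b = a' * b' := congrArg Subtype.val h
    have h2 : (a' : G)⁻¹ * a = b' * (b : G)⁻¹ := by
      rw [inv_mul_eq_iff_eq_mul, ← mul_assoc, ← h1, mul_inv_cancel_right]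
    have h3 : (a' : G)⁻¹ * a ∈ c.X x ⊓ c.X y :=
      ⟨(c.X x).mul_mem ((c.X x).inv_mem a'.2) a.2, by
        rw [h2]; exact (c.X y).mul_mem b'.2 ((c.X y).inv_mem b.2)⟩
    rw [hinf, Subgroup.mem_bot] at h3
    rw [h3] at h2
    have e1 : (a : G) = a' := (inv_mul_eq_one.1 h3).symm
    have e2 : (b : G) = b' := (mul_inv_eq_one.1 h2.symm).symm
    exact Prod.ext (Subtype.ext e1) (Subtype.ext e2)
  have hfb : Function.Bijective f := by
    refine hfi.bijective_of_nat_card_le ?_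
    rw [hcard, Nat.card_prod, cx, cy, SLSys.card_A, pow_two]
  intro w hw hwu
  obtain ⟨⟨a, b⟩, hab⟩ := hfb.2 ⟨w, hw, mem_centralizer_singleton_iff.2 hwu.symm⟩
  exact ⟨a, a.2, b, b.2, (congrArg Subtype.val hab).symm⟩

/-- **`Big` for `m = 4`.** -/
theorem big_four [Fact p.Prime] (hna : na = 5) (hnv : nv = 5) (hm : m = 4)
    (Ta : LocT Om p (Nat.card F) 5 K (.A 3) a La)
    (Tv : LocT Om p (Nat.card F) 5 K (.C 2) (zz (K 0) * a) Lv) :
    ∃ Y Y', Big p 4 (ofEquiv (e 0)) (ofEquiv (e 1)) (zz (K 0)) Y Y' := by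
  subst hna hnv hm
  have hzK : ∀ i, ∀ k ∈ K i, zz (K 0) * k = k * zz (K 0) := by
    intro i k hk
    rw [← H.zi i]
    exact (H.dat.hyp.comm_zz (H.dat.mem i) (le_normalizer hk)).symm
  have hzaK : ∀ i, ∀ k ∈ K i, zz (K 0) * a * k = k * (zz (K 0) * a) := by
    intro i k hk
    rw [mul_assoc, H.aK i k hk, ← mul_assoc, hzK i k hk, mul_assoc]
  obtain ⟨n, P, P', LA, cov⟩ := exists_lin H I H.aK Ta
  have L4 := LA.lin4 I.four (v := a) (fun x hx => (Ta.piece.le x hx).symm) (mem_CC H I hzaK) ?_ I.card_MG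
    (card_u H I hzaK (k := 2) H.lv) (aniso_u H I Tv) cov
  · exact ⟨_, _, L4.big I.four I.h2 p⟩
  · have h1 : a * zz (K 0) = zz (K 0) * a := H.az 0
    have h2 : zz (K 0) * zz (K 0) = 1 := H.dat.hyp.zz_mul (H.dat.mem 0)
    calc zz (K 0) * a * (zz (K 0) * a) = zz (K 0) * (a * zz (K 0)) * a := by group
      _ = (zz (K 0) * zz (K 0)) * (a * a) := by rw [h1]; group
      _ = 1 := by rw [h2, H.aa, one_mul]

/-- **`Big` for `m = 3`.** -/
theorem big_three (hm : m = 3) [Fact p.Prime] {M : Subgroup G} (eM : Matrix.SpecialLinearGroup (Fin 2) F ≃* M)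
    (hcomm : ∀ x ∈ M, ∀ y ∈ M, x * ac (zz (K 0)) y = ac (zz (K 0)) y * x)
    (hE : ∀ k ∈ M, ∀ i, ∀ b ∈ K i, k * ac (zz (K 0)) k * b = b * (k * ac (zz (K 0)) k))
    (ha : ∃ k ∈ M, k ^ 4 = 1 ∧ ∃ x ∈ MG (ofEquiv (e 0)) (ofEquiv (e 1)) (zz (K 0)),
      ac (k * ac (zz (K 0)) k) x ≠ x) :
    ∃ Y Y', Big p 3 (ofEquiv (e 0)) (ofEquiv (e 1)) (zz (K 0)) Y Y' := by
  subst hm
  have D4 : Four (ofEquiv (e 0)) (ofEquiv (e 1)) (zz (K 0)) := I.four
  have hc : Nat.card (MG (ofEquiv (e 0)) (ofEquiv (e 1)) (zz (K 0))) = Nat.card F ^ 3 := I.card_MG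
  have hcc : ∀ k ∈ M, k * ac (zz (K 0)) k ∈ CC (ofEquiv (e 0)) (ofEquiv (e 1)) := fun k hk => mem_CC H I (hE k hk)
  exact NeThree.exists_big (p := p) eM H.odd I.h2 D4 hc hcomm hcc ha

end Big

section Symm

variable {F : Type} [Field F] [Fintype F] {p na nv : ℕ} {K : Fin 2 → Subgroup G}
  {X : Fin 2 → SignType → Subgroup G} {a : G} {La Lv : Subgroup G}

theorem z_comm (H : Prov Om F p na nv K X a La Lv) (i : Fin 2) : ∀ k ∈ K i, zz (K 0) * k = k * zz (K 0) := by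
  intro k hk
  rw [← H.zi i]
  exact (H.dat.hyp.comm_zz (H.dat.mem i) (le_normalizer hk)).symm

theorem za_za (H : Prov Om F p na nv K X a La Lv) : zz (K 0) * (zz (K 0) * a) = a := by
  rw [← mul_assoc, H.dat.hyp.zz_mul (H.dat.mem 0), one_mul]

/-- exchange of `a` and `z a` -/
theorem symm (H : Prov Om F p na nv K X a La Lv) : Prov Om F p nv na K X (zz (K 0) * a) Lv La where
  dat := H.dat
  odd := H.odd
  zeq := H.zeq
  aa := by
    have h1 : a * zz (K 0) = zz (K 0) * a := H.az 0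
    have h2 : zz (K 0) * zz (K 0) = 1 := H.dat.hyp.zz_mul (H.dat.mem 0)
    calc zz (K 0) * a * (zz (K 0) * a) = zz (K 0) * (a * zz (K 0)) * a := by group
      _ = (zz (K 0) * zz (K 0)) * (a * a) := by rw [h1]; group
      _ = 1 := by rw [h2, H.aa, one_mul]
  aK i k hk := by rw [mul_assoc, H.aK i k hk, ← mul_assoc, z_comm H i k hk, mul_assoc]
  acore i d hd := by
    have h1 : d * zz (K 0) = zz (K 0) * d := by
      rw [← H.zi i]
      exact Parab.core_commute hd (H.dat.hyp.zz_mem (H.dat.mem i))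
    rw [mul_assoc, H.acore i d hd, ← mul_assoc, ← h1, mul_assoc]
  la := H.lv
  lv := by rw [za_za H]; exact H.la
  solv := H.solv

end Symm

/-- what is used from the branch (B) -/
def Out (Om : Set (Subgroup G)) (F : Type) [Field F] [Fintype F] (p m : ℕ) (K : Fin 2 → Subgroup G)
    (La Lv : Subgroup G) : Prop :=
  ∃ (e : ∀ i, Matrix.SpecialLinearGroup (Fin 2) F ≃* K i) (Y Y' : Subgroup G),
    Big p m (ofEquiv (e 0)) (ofEquiv (e 1)) (zz (K 0)) Y Y' ∧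
    La ≤ ChartOut.G0 (ofEquiv (e 0)) (ofEquiv (e 1)) (zz (K 0)) ∧
    Lv ≤ ChartOut.G0 (ofEquiv (e 0)) (ofEquiv (e 1)) (zz (K 0))

section Final

variable {F : Type} [Field F] [Fintype F] {p na nv : ℕ} {K : Fin 2 → Subgroup G}
  {X : Fin 2 → SignType → Subgroup G} {a : G} {La Lv : Subgroup G} [CharP F p] [Fact p.Prime]

/-- **`m = 4`**: `D_a` linear, `D_v` unitary -/
theorem out_four (H : Prov Om F p 5 5 K X a La Lv)
    (Ta : LocT Om p (Nat.card F) 5 K (.A 3) a La)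
    (Tv : LocT Om p (Nat.card F) 5 K (.C 2) (zz (K 0) * a) Lv) : Out Om F p 4 K La Lv := by
  obtain ⟨e, I⟩ := H.inb (m := 4) (by norm_num)
  obtain ⟨Y, Y', B⟩ := big_four H I rfl rfl rfl Ta Tv
  exact ⟨e, Y, Y', B, le_G0 H I B (Or.inl rfl) Ta, le_G0 H I B (Or.inr rfl) Tv⟩

/-- **`m = 4`**: `D_a` unitary, `D_v` linear -/
theorem out_four' (H : Prov Om F p 5 5 K X a La Lv)
    (Ta : LocT Om p (Nat.card F) 5 K (.C 2) a La)
    (Tv : LocT Om p (Nat.card F) 5 K (.A 3) (zz (K 0) * a) Lv) : Out Om F p 4 K La Lv := by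
  obtain ⟨e, Y, Y', B, h1, h2⟩ := out_four (symm H) Tv (by rw [za_za H]; exact Ta)
  exact ⟨e, Y, Y', B, h2, h1⟩

/-- **`m = 3`** -/
theorem out_three (H : Prov Om F p 3 5 K X a La Lv) {τa τv : Nodes.Chart.Ty} (ha : τa = .A 3 ∨ τa = .C 2)
    (hv : τv = .A 3 ∨ τv = .C 2) (Ta : LocT Om p (Nat.card F) 3 K τa a La)
    (Tv : LocT Om p (Nat.card F) 5 K τv (zz (K 0) * a) Lv) {M : Subgroup G}
    (eM : Matrix.SpecialLinearGroup (Fin 2) F ≃* M)
    (hcomm : ∀ x ∈ M, ∀ y ∈ M, x * (zz (K 0) * y * (zz (K 0))⁻¹) = zz (K 0) * y * (zz (K 0))⁻¹ * x)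
    (hE : ∀ k ∈ M, ∀ i, ∀ b ∈ K i, k * (zz (K 0) * k * (zz (K 0))⁻¹) * b = b * (k * (zz (K 0) * k * (zz (K 0))⁻¹)))
    (hna : ∃ k ∈ M, k ^ 4 = 1 ∧ ¬ ∀ x ∈ QF K X 0 1, x ∈ QF K X 1 1 →
      k * (zz (K 0) * k * (zz (K 0))⁻¹) * x = x * (k * (zz (K 0) * k * (zz (K 0))⁻¹))) :
    Out Om F p 3 K La Lv := by
  obtain ⟨e, I⟩ := H.inb (m := 3) (by norm_num)
  obtain ⟨k, hk, hk4, hk1⟩ := hna
  push Not at hk1
  obtain ⟨x, hx, hx', hkx⟩ := hk1
  obtain ⟨Y, Y', B⟩ := big_three H I rfl eM hcomm hE ⟨k, hk, hk4, x, (mem_MG H I).2 ⟨hx, hx'⟩,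
    fun h => hkx (mul_inv_eq_iff_eq_mul.1 h)⟩
  exact ⟨e, Y, Y', B, le_G0 H I B ha Ta, le_G0 H I B hv Tv⟩

end Final

end Cfsg.Agent.Cit.OmB3.GlueC
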