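import Cfsg.Agent.Cit.OmB3.FCent
import Cfsg.Agent.Cit.LongLeaf

/-!
# `HasPieces` from the configuration
-/

set_option autoImplicit false
set_option linter.unusedSectionVars false
set_option linter.unusedVariables false
set_option linter.dupNamespace false

namespace Cfsg.Agent.Cit.OmB3.HasP

open Subgroup Matrix
open Cfsg.Agent.Cit.LemmaATwo Cfsg.Agent.Cit.OmB3.Form Cfsg.Agent.Cit.OmB3.Big
  Cfsg.Agent.Cit.OmB3.Pairs Cfsg.Agent.Cit.OmB3.ChartOut Cfsg.Agent.Cit.OmB3.FCent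
  Cfsg.Agent.Nodes.Chart
open Cfsg.Agent.Cit.OmB3.Form.Four (MG)
open Cfsg.Agent.Cit (Hyp zz cj OmS OO HasPieces KindOk)

variable {G : Type*} [Group G] [Finite G] {F : Type} [Field F] [Fintype F]
variable {p m : ℕ} [Fact p.Prime] [CharP F p] {S1 S2 : SLSys F G} {z z3 : G} {Y Y' : Subgroup G}
  {Om : Set (Subgroup G)}

theorem G0_eq_top (hs : IsSimpleGroup G) (C : Cfg p m S1 S2 z z3 Y Y')
    (hN : normalizer (G0 S1 S2 z : Set G) = ⊤) : G0 S1 S2 z = ⊤ := by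
  have h1 : (G0 S1 S2 z).Normal := normalizer_eq_top_iff.1 hN
  rcases hs.eq_bot_or_eq_top_of_normal _ h1 with h | h
  · exfalso
    have h3 : S1.xp 1 ∈ G0 S1 S2 z := A1_le C (S1.xp_mem 1)
    rw [h, mem_bot] at h3
    rw [← S1.xp_zero] at h3
    exact one_ne_zero (S1.xp_injective h3)
  · exact h

/-- **The chart of type `B₃` of the whole group.** -/
theorem exists_chart_top (hyp : Hyp Om) (hs : IsSimpleGroup G) (C : Cfg p m S1 S2 z z3 Y Y') (hp2 : p ≠ 2)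
    (hK1 : S1.A ⊔ S1.A' ∈ Om) (S : Sylow 2 G)
    (hS : ∀ K ∈ OmS Om (S : Subgroup G), K = S1.A ⊔ S1.A' ∨ K = S2.A ⊔ S2.A')
    (hN : normalizer (G0 S1 S2 z : Set G) = ⊤) :
    ∃ c : Chart Om p (⊤ : Subgroup G), c.IsTy (.B 3) ∧ (∀ r ∈ c.R, c.Z r = c.X r) := by
  rw [← G0_eq_top hs C hN]
  exact exists_chart hyp C hK1 hp2 S fun K hK => ⟨1, one_mem _, by
    rcases hS K hK with h | h
    · left; rw [h, Cit.cj_one]
    · right; rw [h, Cit.cj_one]⟩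

/-- **The last step of the identification of `Ω₇(q)`, `Ω₈⁻(q)`.** -/
theorem hasPieces (hyp : Hyp Om) (hs : IsSimpleGroup G) (C : Cfg p m S1 S2 z z3 Y Y') (hp2 : p ≠ 2)
    (e1 : SpecialLinearGroup (Fin 2) F ≃* ↥(S1.A ⊔ S1.A')) (hK1 : S1.A ⊔ S1.A' ∈ Om)
    (hcls : ∀ K ∈ Om, ∃ g, K = cj g (S1.A ⊔ S1.A')) (hcore : ∀ K ∈ Om, OO K = ⊥) (S : Sylow 2 G)
    (hS : ∀ K ∈ OmS Om (S : Subgroup G), K = S1.A ⊔ S1.A' ∨ K = S2.A ⊔ S2.A')
    (hN : normalizer (G0 S1 S2 z : Set G) = ⊤) : HasPieces Om := by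
  obtain ⟨c, hc, hZ⟩ := exists_chart_top hyp hs C hp2 hK1 S hS hN
  refine LongLeaf.hasPieces_of_chart hyp ⟨_, hK1⟩ hcore hs c (.B 3) hc (le_refl 3) ?_ ?_ (Or.inl hZ)
  · intro h
    rw [hc.card] at h
    exact absurd h (by decide)
  · refine ⟨F, inferInstance, inferInstance, inferInstance, fun K hK => ?_⟩
    obtain ⟨g, rfl⟩ := hcls K hK
    exact ⟨e1.trans (Cit.cjEquiv g _)⟩

end Cfsg.Agent.Cit.OmB3.HasP
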