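import Cfsg.Agent.Cit.OmB3.NeOf
import Cfsg.Agent.Cit.OmB3.ChartLe
import Cfsg.Agent.Nodes.CommA
import Cfsg.Agent.Nodes.KindA
import Cfsg.Agent.Nodes.TyStd

/-!
# The data `LinA` from a chart of type `A₃`

* `LinA` in standard coordinates: `K₁ = ⟨X_ab, X_ba⟩`, `K₂ = ⟨X_cd, X_dc⟩`, `P = X_ad`, `P' = X_cb`, `n` a Weyl element
  which exchanges `b` and `c`;
* `exists_linA` : for a chart of type `A 3`; `fr_of` : the field `non`.
-/

set_option autoImplicit false
set_option linter.unusedSectionVars false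
set_option linter.unusedVariables false
set_option linter.dupNamespace false
set_option linter.unusedSimpArgs false

namespace Cfsg.Agent.Cit.OmB3.LinChart

open CoxeterSystem Cfsg.Agent.ChevalleyStructure.CoxeterGeom Cfsg.Agent.Tits.Roots Cfsg.Agent.Nodes
  Cfsg.Agent.Nodes.BNOf Cfsg.Agent.Nodes.Chart Cfsg.Agent.Nodes.RGDLib Cfsg.Agent.Nodes.Reps
  Cfsg.Agent.Nodes.RootsA Cfsg.Agent.Nodes.Coroot Cfsg.Agent.Nodes.TyStd
open Cfsg.Agent.LieRecognition.BNCox (cA cA_apply)
open Cfsg.Agent.Cit.LemmaATwo Cfsg.Agent.Cit.OmB3.Side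
  Cfsg.Agent.Cit.OmB3.Form Cfsg.Agent.Cit.OmB3.Big Cfsg.Agent.Cit.OmB3.ChartOut
  Cfsg.Agent.Cit.OmB3.NeOf Cfsg.Agent.Cit.OmB3.ChartLe
open scoped commutatorElement

/-! ### Reflections -/

section refl

variable {n : ℕ}

/-- half of a root -/
def hf (a : Fin (n + 1)) : Fin n → ℤ := fun k => if a.val ≤ k.val then 1 else 0

theorem rtA_eq_hf (a b : Fin (n + 1)) : rtA a b = hf a - hf b := rfl

theorem hf_refl {b c : Fin (n + 1)} (hbc : b ≠ c) (i : Fin (n + 1)) :
    hf i - ((if i = b then 1 else 0) - (if i = c then 1 else 0) : ℤ) • rtA b c = hf (Equiv.swap b c i) := by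
  rw [rtA_eq_hf]
  by_cases h1 : i = b
  · subst h1
    rw [if_pos rfl, if_neg hbc, Equiv.swap_apply_left]
    module
  · by_cases h2 : i = c
    · subst h2
      rw [if_pos rfl, if_neg h1, Equiv.swap_apply_right]
      module
    · rw [if_neg h1, if_neg h2, Equiv.swap_apply_of_ne_of_ne h1 h2]
      module

variable {W : Type*} [Group W] (cs : CoxeterSystem (cA n) W) {A : Fin n → Fin n → ℤ} (h : IsCartan (cA n) A)

theorem refl_rtA {b c : Fin (n + 1)} (hbc : b ≠ c) (i j : Fin (n + 1)) :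
    rtA i j - cpr cs h (rtA i j) (rtA b c) • rtA b c = rtA (Equiv.swap b c i) (Equiv.swap b c j) := by
  rw [CommA.cpr_rtA cs h i j hbc, rtA_eq_hf (Equiv.swap b c i), ← hf_refl hbc i, ← hf_refl hbc j, rtA_eq_hf i j]
  module

end refl

/-! ### Standard coordinates -/

section std

variable {n : ℕ} {W : Type*} [Group W] [Fintype W] {cs : CoxeterSystem (cA n) W} {A : Fin n → Fin n → ℤ}
  {h : IsCartan (cA n) A} {G : Type*} [Group G] {p : ℕ} {T : Subgroup G} {t : Fin n → G}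
  {X : (Fin n → ℤ) → Subgroup G} {R : Set (Fin n → ℤ)} {Z : (Fin n → ℤ) → Subgroup G} {z : (Fin n → ℤ) → G}

/-- Root groups which make acute angles with `r`, `s` lie in `MM`. -/
theorem mem_MM' [Finite G] (C : Cls cs h p T t X R Z z) (hp : p.Prime) (hp2 : p ≠ 2) {r s y : Fin n → ℤ}
    (hr : r ∈ R) (hs : s ∈ R) (hZr : Z r = X r) (hZs : Z s = X s) (hy : IsRoot cs h y)
    (h1 : 0 < cpr cs h y r) (h2 : 0 < cpr cs h y s) (hyr : y ≠ r) {x : G} (hx : x ∈ X y) :
    x ∈ MM (X r) (X s) (z r) := by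
  rw [cpr_pos_iff cs h y (C.root r hr)] at h1
  rw [cpr_pos_iff cs h y (C.root s hs)] at h2
  have hyr' : y ≠ -r := by
    rintro rfl
    rw [form_neg_left] at h1
    have h4 := form_nonneg cs h r
    omega
  refine ⟨?_, ?_, ?_, ?_⟩
  · obtain ⟨k, hk⟩ := C.rgd.pgrp' hy ⟨x, hx⟩
    have h3 : x ^ p ^ k = 1 := congrArg Subtype.val hk
    have h4 : Odd (p ^ k) := (hp.eq_two_or_odd'.resolve_left hp2).pow
    exact h4.of_dvd_nat (orderOf_dvd_of_pow_eq_one h3)
  · intro a ha
    rw [← hZr] at ha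
    exact (C.cent r hr y hy h1.le x hx a ha).symm
  · intro a ha
    rw [← hZs] at ha
    exact (C.cent s hs y hy h2.le x hx a ha).symm
  · have h3 := C.z_inv r hr y hy hyr hyr' h1.ne' x hx
    have h4 : (z r)⁻¹ = z r := inv_eq_of_mul_eq_one_right (C.z_sq r hr)
    unfold ac
    rw [h4]; exact h3

/-- a Weyl element which exchanges `b` and `c` -/
theorem exists_n (D : RGD cs h p T t X) {b c : Fin (n + 1)} (hbc : b ≠ c) :
    ∃ m ∈ X (rtA b c) ⊔ X (rtA c b), ∀ i j, i ≠ j → ∀ x ∈ X (rtA i j),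
      ac m x ∈ X (rtA (Equiv.swap b c i) (Equiv.swap b c j)) ∧
      ac m⁻¹ x ∈ X (rtA (Equiv.swap b c i) (Equiv.swap b c j)) := by
  obtain ⟨v, hv⟩ := Subgroup.ne_bot_iff_exists_ne_one.1 (Bruhat.X_ne_bot D (isRoot_rtA cs h hbc.symm))
  have hv1 : (v : G) ≠ 1 := fun e => hv (Subtype.ext e)
  obtain ⟨u, hu, w, hw, hmap⟩ := PairOf.exists_mu D (isRoot_rtA cs h hbc) (a := (v : G))
    (by rw [rtA_neg]; exact v.2) hv1
  have key : ∀ i j, i ≠ j → Reps.cj (u * v * w) (X (rtA i j)) = X (rtA (Equiv.swap b c i) (Equiv.swap b c j)) := by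
    intro i j hij
    rw [hmap _ (isRoot_rtA cs h hij), refl_rtA cs h hbc]
  have hac : ∀ g x : G, ac g x = g * x * g⁻¹ := fun _ _ => rfl
  refine ⟨u * v * w, mul_mem (mul_mem (Subgroup.mem_sup_left hu) (Subgroup.mem_sup_right v.2))
    (Subgroup.mem_sup_left hw), fun i j hij x hx => ⟨?_, ?_⟩⟩
  · rw [← key i j hij, Reps.mem_cj, hac]
    have e : (u * v * w)⁻¹ * (u * v * w * x * (u * v * w)⁻¹) * (u * v * w) = x := by group
    rw [e]; exact hx
  · have h1 := key (Equiv.swap b c i) (Equiv.swap b c j) (fun e => hij ((Equiv.swap b c).injective e))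
    rw [Equiv.swap_apply_self, Equiv.swap_apply_self] at h1
    rw [← h1, Reps.mem_cj] at hx
    rw [hac, inv_inv]
    exact hx

theorem mem_of_two {N P Q : Subgroup G} {g : G} (h1 : ∀ x ∈ P, g * x * g⁻¹ ∈ N) (h2 : ∀ x ∈ Q, g * x * g⁻¹ ∈ N)
    {x : G} (hx : x ∈ P ⊔ Q) : ac g x ∈ N := by
  have h3 : P ⊔ Q ≤ N.comap (MulAut.conj g).toMonoidHom := sup_le (fun x hx => h1 x hx) fun x hx => h2 x hx
  exact h3 hx

theorem mem_of_comm {N : Subgroup G} {g x : G} (hx : x ∈ N) (h1 : ⁅g, x⁆ ∈ N) : g * x * g⁻¹ ∈ N := by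
  have e : g * x * g⁻¹ = ⁅g, x⁆ * x := by rw [commutatorElement_def]; group
  rw [e]
  exact mul_mem h1 hx

theorem comm_sup {P Q : Subgroup G} (h1 : ∀ x ∈ P, ∀ y ∈ P, x * y = y * x) (h2 : ∀ x ∈ Q, ∀ y ∈ Q, x * y = y * x)
    (h3 : ∀ x ∈ P, ∀ y ∈ Q, x * y = y * x) {x y : G} (hx : x ∈ P ⊔ Q) (hy : y ∈ P ⊔ Q) : x * y = y * x := by
  have hP : P ≤ Subgroup.centralizer (P ⊔ Q : Subgroup G) := by
    rw [Subgroup.le_centralizer_iff]
    refine sup_le ?_ ?_
    · intro a ha
      exact Subgroup.mem_centralizer_iff.2 fun b hb => h1 b hb a ha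
    · intro a ha
      exact Subgroup.mem_centralizer_iff.2 fun b hb => h3 b hb a ha
  have hQ : Q ≤ Subgroup.centralizer (P ⊔ Q : Subgroup G) := by
    rw [Subgroup.le_centralizer_iff]
    refine sup_le ?_ ?_
    · intro a ha
      exact Subgroup.mem_centralizer_iff.2 fun b hb => (h3 a ha b hb).symm
    · intro a ha
      exact Subgroup.mem_centralizer_iff.2 fun b hb => h2 b hb a ha
  exact (Subgroup.mem_centralizer_iff.1 ((sup_le hP hQ) hx) y hy).symm

/-- `w ∈ ⟨A, A'⟩` -/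
theorem ac_w {F : Type*} [Field F] (S : SLSys F G) {N : Subgroup G} (h1 : ∀ g ∈ S.A, ∀ x ∈ N, ac g x ∈ N)
    (h2 : ∀ g ∈ S.A', ∀ x ∈ N, ac g x ∈ N) {x : G} (hx : x ∈ N) : ac S.w x ∈ N := by
  have h3 := S.weyl 1 one_ne_zero
  rw [S.h_one, one_mul] at h3
  rw [← h3, ← ac_ac, ← ac_ac]
  exact h2 _ (S.xm_mem _) _ (h1 _ (S.xp_mem _) _ (h2 _ (S.xm_mem _) _ hx))

/-- **`LinA` in standard coordinates.** -/
theorem linA_std [Finite G] (C : Cls cs h p T t X R Z z) (hp : p.Prime) (hp2 : p ≠ 2)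
    (hall : ∀ i j : Fin (n + 1), i ≠ j → rtA i j ∈ R) (zx : ∀ y ∈ R, Z y = X y)
    {a b c d : Fin (n + 1)} (hab : a ≠ b) (hac : a ≠ c) (had : a ≠ d) (hbc : b ≠ c) (hbd : b ≠ d) (hcd : c ≠ d)
    {F : Type*} [Field F] {S1 S2 : SLSys F G} (a1 : S1.A = X (rtA a b)) (a1' : S1.A' = X (rtA b a))
    (a2 : S2.A = X (rtA c d)) (a2' : S2.A' = X (rtA d c)) {E : Subgroup G} (hE : ∀ i j, i ≠ j → X (rtA i j) ≤ E) :
    ∃ m ∈ E, LinA S1 S2 (z (rtA a b)) m E (X (rtA a d)) (X (rtA c b)) := by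
  obtain ⟨m, hm, hmap⟩ := exists_n C.rgd hbc
  have sa : Equiv.swap b c a = a := Equiv.swap_apply_of_ne_of_ne hab hac
  have sb : Equiv.swap b c b = c := Equiv.swap_apply_left _ _
  have sc : Equiv.swap b c c = b := Equiv.swap_apply_right _ _
  have sd : Equiv.swap b c d = d := Equiv.swap_apply_of_ne_of_ne hbd.symm hcd.symm
  have hz : z (rtA b a) = z (rtA a b) := by
    rw [← rtA_neg a b]
    exact C.z_neg _ (hall a b hab)
  have mem : ∀ {i j k l k' l' : Fin (n + 1)}, i ≠ j → (hkl : k ≠ l) → (hkl' : k' ≠ l') →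
      0 < ((if i = k then 1 else 0) - (if i = l then 1 else 0) - ((if j = k then 1 else 0) - (if j = l then 1 else 0)) : ℤ) →
      0 < ((if i = k' then 1 else 0) - (if i = l' then 1 else 0) -
        ((if j = k' then 1 else 0) - (if j = l' then 1 else 0)) : ℤ) →
      ¬ (i = k ∧ j = l) → ∀ {x : G}, x ∈ X (rtA i j) → x ∈ MM (X (rtA k l)) (X (rtA k' l')) (z (rtA k l)) := by
    intro i j k l k' l' hij hkl hkl' h1 h2 h3 x hx
    refine mem_MM' C hp hp2 (hall k l hkl) (hall k' l' hkl') (zx _ (hall k l hkl)) (zx _ (hall k' l' hkl'))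
      (isRoot_rtA cs h hij) ?_ ?_ (fun e => h3 (rtA_inj hij e)) hx
    · rw [CommA.cpr_rtA cs h i j hkl]; exact h1
    · rw [CommA.cpr_rtA cs h i j hkl']; exact h2
  -- the two abelian groups
  have isoP : ∀ x ∈ X (rtA a d), ∀ y ∈ X (rtA a d), x * ac S2.w y = ac S2.w y * x := by
    intro x hx y hy
    have key : ac S2.w y ∈ X (rtA a d) ⊔ X (rtA a c) := by
      apply ac_w S2 _ _ (Subgroup.mem_sup_left hy)
      · intro g hg
        rw [a2] at hg
        intro x hx
        refine mem_of_two (fun x hx => ?_) (fun x hx => ?_) hx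
        · have h1 : g * x = x * g := CommA.comm_disj C.rgd hcd had had.symm hcd (fun e => hac e.1.symm) hg hx
          rw [h1, mul_inv_cancel_right]
          exact Subgroup.mem_sup_left hx
        · exact mem_of_comm (Subgroup.mem_sup_right hx)
            (Subgroup.mem_sup_left (CommA.comm_mem' C.rgd hac hcd had hx hg))
      · intro g hg
        rw [a2'] at hg
        intro x hx
        refine mem_of_two (fun x hx => ?_) (fun x hx => ?_) hx
        · exact mem_of_comm (Subgroup.mem_sup_left hx)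
            (Subgroup.mem_sup_right (CommA.comm_mem' C.rgd had hcd.symm hac hx hg))
        · have h1 : g * x = x * g := CommA.comm_disj C.rgd hcd.symm hac hac.symm hcd.symm (fun e => had e.1.symm) hg hx
          rw [h1, mul_inv_cancel_right]
          exact Subgroup.mem_sup_right hx
    refine comm_sup (fun x hx y hy => CommA.comm_self C.rgd had hab hbd.symm hx hy)
      (fun x hx y hy => CommA.comm_self C.rgd hac hab hbc.symm hx hy)
      (fun x hx y hy => CommA.comm_disj C.rgd had hac had.symm hac (fun e => hcd e.2.symm) hx hy)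
      (Subgroup.mem_sup_left hx) key
  have isoP' : ∀ x ∈ X (rtA c b), ∀ y ∈ X (rtA c b), x * ac S2.w y = ac S2.w y * x := by
    intro x hx y hy
    have key : ac S2.w y ∈ X (rtA c b) ⊔ X (rtA d b) := by
      apply ac_w S2 _ _ (Subgroup.mem_sup_left hy)
      · intro g hg
        rw [a2] at hg
        intro x hx
        refine mem_of_two (fun x hx => ?_) (fun x hx => ?_) hx
        · have h1 : g * x = x * g := CommA.comm_disj C.rgd hcd hbc.symm hcd.symm hbc.symm (fun e => hbd e.2.symm) hg hx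
          rw [h1, mul_inv_cancel_right]
          exact Subgroup.mem_sup_left hx
        · exact mem_of_comm (Subgroup.mem_sup_right hx)
            (Subgroup.mem_sup_left (CommA.comm_mem C.rgd hcd hbd.symm hbc.symm hg hx))
      · intro g hg
        rw [a2'] at hg
        intro x hx
        refine mem_of_two (fun x hx => ?_) (fun x hx => ?_) hx
        · exact mem_of_comm (Subgroup.mem_sup_left hx)
            (Subgroup.mem_sup_right (CommA.comm_mem C.rgd hcd.symm hbc.symm hbd.symm hg hx))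
        · have h1 : g * x = x * g := CommA.comm_disj C.rgd hcd.symm hbd.symm hcd hbd.symm (fun e => hbc e.2.symm) hg hx
          rw [h1, mul_inv_cancel_right]
          exact Subgroup.mem_sup_right hx
    refine comm_sup (fun x hx y hy => CommA.comm_self C.rgd hbc.symm hcd hbd hx hy)
      (fun x hx y hy => CommA.comm_self C.rgd hbd.symm hcd.symm hbc hx hy)
      (fun x hx y hy => CommA.comm_disj C.rgd hbc.symm hbd.symm hbd hbc.symm (fun e => hcd e.1) hx hy)
      (Subgroup.mem_sup_left hx) key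
  refine ⟨m, ?_, ?_⟩
  · exact (sup_le (hE b c hbc) (hE c b hbc.symm)) hm


  obtain ⟨v, hv⟩ := Subgroup.ne_bot_iff_exists_ne_one.1 (Bruhat.X_ne_bot C.rgd (isRoot_rtA cs h had))
  exact
  { P_ne := ⟨v, v.2, fun e => hv (Subtype.ext e)⟩
    P_D := hE a d had
    P'_D := hE c b hbc.symm
    P_M := by
      intro x hx
      rw [a1, a2]
      refine mem had hab hcd ?_ ?_ (fun e => hbd e.2.symm) hx <;> simp [hab, hac, had, hbc, hbd, hcd, hab.symm, hac.symm, had.symm, hbc.symm, hbd.symm, hcd.symm]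
    P'_M := by
      intro x hx
      rw [a1, a2]
      refine mem hbc.symm hab hcd ?_ ?_ (fun e => hac e.1.symm) hx <;> simp [hab, hac, had, hbc, hbd, hcd, hab.symm, hac.symm, had.symm, hbc.symm, hbd.symm, hcd.symm]
    P_iso := isoP
    P'_iso := isoP'
    nP := by
      intro x hx
      have h1 := (hmap a d had x hx).2
      rw [sa, sd] at h1
      rw [a1, a2]
      refine mem had hab hcd ?_ ?_ (fun e => hbd e.2.symm) h1 <;> simp [hab, hac, had, hbc, hbd, hcd, hab.symm, hac.symm, had.symm, hbc.symm, hbd.symm, hcd.symm]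
    nP' := by
      intro x hx
      have h1 := (hmap c b hbc.symm x hx).2
      rw [sc, sb] at h1
      rw [a1', a2', ← hz]
      refine mem hbc hab.symm hcd.symm ?_ ?_ (fun e => hac e.2.symm) h1 <;> simp [hab, hac, had, hbc, hbd, hcd, hab.symm, hac.symm, had.symm, hbc.symm, hbd.symm, hcd.symm]
    n1 := by
      intro x hx
      rw [a1] at hx
      have h1 := (hmap a b hab x hx).2
      rw [sa, sb] at h1
      refine ⟨?_, hE _ _ hac h1⟩
      rw [a1, a2']
      refine mem hac hab hcd.symm ?_ ?_ (fun e => hbc e.2.symm) h1 <;> simp [hab, hac, had, hbc, hbd, hcd, hab.symm, hac.symm, had.symm, hbc.symm, hbd.symm, hcd.symm]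
    n1' := by
      intro x hx
      rw [a1'] at hx
      have h1 := (hmap b a hab.symm x hx).2
      rw [sa, sb] at h1
      refine ⟨?_, hE _ _ hac.symm h1⟩
      rw [a1', a2, ← hz]
      refine mem hac.symm hab.symm hcd ?_ ?_ (fun e => hbc e.1.symm) h1 <;> simp [hab, hac, had, hbc, hbd, hcd, hab.symm, hac.symm, had.symm, hbc.symm, hbd.symm, hcd.symm]
    n2 := by
      intro x hx
      rw [a2] at hx
      have h1 := (hmap c d hcd x hx).2
      rw [sc, sd] at h1
      refine ⟨?_, hE _ _ hbd h1⟩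
      rw [a1', a2, ← hz]
      refine mem hbd hab.symm hcd ?_ ?_ (fun e => had e.2.symm) h1 <;> simp [hab, hac, had, hbc, hbd, hcd, hab.symm, hac.symm, had.symm, hbc.symm, hbd.symm, hcd.symm]
    n2' := by
      intro x hx
      rw [a2'] at hx
      have h1 := (hmap d c hcd.symm x hx).2
      rw [sc, sd] at h1
      refine ⟨?_, hE _ _ hbd.symm h1⟩
      rw [a1, a2']
      refine mem hbd.symm hab hcd.symm ?_ ?_ (fun e => had e.1.symm) h1 <;> simp [hab, hac, had, hbc, hbd, hcd, hab.symm, hac.symm, had.symm, hbc.symm, hbd.symm, hcd.symm]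
    m1 := by
      intro x hx
      rw [a1] at hx
      have h1 := (hmap a b hab x hx).1
      rw [sa, sb] at h1
      rw [a1, a2']
      refine mem hac hab hcd.symm ?_ ?_ (fun e => hbc e.2.symm) h1 <;> simp [hab, hac, had, hbc, hbd, hcd, hab.symm, hac.symm, had.symm, hbc.symm, hbd.symm, hcd.symm]
    m1' := by
      intro x hx
      rw [a1'] at hx
      have h1 := (hmap b a hab.symm x hx).1
      rw [sa, sb] at h1
      rw [a1', a2, ← hz]
      refine mem hac.symm hab.symm hcd ?_ ?_ (fun e => hbc e.1.symm) h1 <;> simp [hab, hac, had, hbc, hbd, hcd, hab.symm, hac.symm, had.symm, hbc.symm, hbd.symm, hcd.symm] }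

end std

/-! ### Orthogonality in terms of the groups -/

section ortho

variable {I W : Type*} [Fintype I] [DecidableEq I] [Group W] [Fintype W] {M : CoxeterMatrix I}
  {cs : CoxeterSystem M W} {A : I → I → ℤ} {h : IsCartan M A} {G : Type*} [Group G] {p : ℕ} {T : Subgroup G}
  {t : I → G} {X : (I → ℤ) → Subgroup G} {R : Set (I → ℤ)} {Z : (I → ℤ) → Subgroup G} {z : (I → ℤ) → G}

theorem form_ne_zero_iff [Finite G] (C : Cls cs h p T t X R Z z) (hp : p.Prime) (hp2 : p ≠ 2) {r y : I → ℤ}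
    (hr : r ∈ R) (hy : IsRoot cs h y) (h1 : y ≠ r) (h2 : y ≠ -r) :
    form cs h y r ≠ 0 ↔ ∃ a ∈ X y, z r * a ≠ a * z r := by
  constructor
  · intro h3
    by_contra h4
    push Not at h4
    apply Bruhat.X_ne_bot C.rgd hy
    rw [Subgroup.eq_bot_iff_forall]
    intro a ha
    have h5 := C.z_inv r hr y hy h1 h2 h3 a ha
    rw [h4 a ha, mul_assoc, C.z_sq r hr, mul_one] at h5
    have h6 : a ^ 2 = 1 := by
      rw [pow_two]
      nth_rewrite 1 [h5]
      rw [inv_mul_cancel]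
    obtain ⟨k, hk⟩ := C.rgd.pgrp' hy ⟨a, ha⟩
    have h7 : a ^ p ^ k = 1 := congrArg Subtype.val hk
    have h8 : Nat.Coprime 2 (p ^ k) :=
      Nat.Coprime.pow_right k ((Nat.coprime_primes Nat.prime_two hp).2 (Ne.symm hp2))
    have h9 : orderOf a ∣ 1 := by
      rw [← h8]
      exact Nat.dvd_gcd (orderOf_dvd_of_pow_eq_one h6) (orderOf_dvd_of_pow_eq_one h7)
    exact orderOf_eq_one_iff.1 (Nat.dvd_one.1 h9)
  · rintro ⟨a, ha, h3⟩ h4
    apply h3
    have h5 : Z r ⊔ Z (-r) ≤ Subgroup.centralizer {a} := by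
      refine sup_le ?_ ?_
      · intro b hb
        rw [Subgroup.mem_centralizer_singleton_iff]
        exact (C.cent r hr y hy h4.ge a ha b hb).symm
      · intro b hb
        rw [Subgroup.mem_centralizer_singleton_iff]
        have hr' : -r ∈ R := ClsNorm.neg_mem C hr
        exact (C.cent (-r) hr' y hy (by rw [form_neg_right, h4]; simp) a ha b hb).symm
    exact Subgroup.mem_centralizer_singleton_iff.1 (h5 (C.z_mem r hr))

end ortho

/-! ### Charts -/

section chart

variable {G : Type*} [Group G] {Om : Set (Subgroup G)} {p : ℕ} {D : Subgroup G}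

/-- standard coordinates of a chart of type `A n` -/
theorem exists_std (c : Chart Om p D) {n : ℕ} (hτ : c.IsTy (.A n)) :
    ∃ (e : c.I ≃ Fin n) (W' : Type) (_ : Group W') (_ : Fintype W') (cs' : CoxeterSystem (cA n) W')
      (A' : Fin n → Fin n → ℤ) (h' : IsCartan (cA n) A'),
      (∀ x, IsRoot c.cs c.h (fun i => x (e i)) ↔ IsRoot cs' h' x) ∧
      (∀ x, IsRoot cs' h' x → (fun i => x (e i)) ∈ c.R) ∧
      Cls cs' h' p c.T (fun j => c.n (e.symm j)) (fun x => c.X (fun i => x (e i)))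
        {x | IsRoot cs' h' x} (fun x => c.Z (fun i => x (e i))) (fun x => c.z (fun i => x (e i))) := by
  let cs' : CoxeterSystem (cA n) (cA n).Group := (cA n).toCoxeterSystem
  have hf : Finite (cA n).Group := finite_of_isTy c hτ cs'
  let _ : Fintype (cA n).Group := Fintype.ofFinite _
  obtain ⟨e, hA, hl⟩ := hτ
  have hM : ∀ i j, c.M i j = (Ty.A n).M (e i) (e j) := fun i j => c.M_apply hA i j
  have hact : ∀ r ∈ {x | IsRoot cs' (Ty.A n).isCartan x}, ∀ w, rep cs' (Ty.A n).isCartan w r ∈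
      {x | IsRoot cs' (Ty.A n).isCartan x} := fun r hr w => IsRoot.act hr w
  have hsr : ∀ i, sr i ∈ c.R ↔ (sr (e i) : Fin n → ℤ) ∈ {x | IsRoot cs' (Ty.A n).isCartan x} := fun i =>
    ⟨fun _ => isRoot_sr _ _ _, fun _ => (hl i).2 trivial⟩
  refine ⟨e, (cA n).Group, inferInstance, inferInstance, cs', (Ty.A n).cartan, (Ty.A n).isCartan,
    fun x => isRoot_comp_iff e hM hA cs' _, ?_,
    cls_reindex c.cls e hM hA cs' _ (fun r hr => hr) hact hsr⟩
  intro x hx
  exact (mem_R_iff (cs := c.cs) (h := c.h) e hM hA cs' _ c.cls.act hact hsr hx).2 hx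

theorem fin4_compl : ∀ a b : Fin 4, a ≠ b → ∃ k l : Fin 4, k ≠ l ∧ k ≠ a ∧ k ≠ b ∧ l ≠ a ∧ l ≠ b := by decide

variable {F : Type*} [Field F] {S1 S2 : SLSys F G} {z : G}

/-- **`LinA` from a chart of type `A₃`.** -/
theorem exists_linA [Finite G] (c : Chart Om p D) (hτ : c.IsTy (.A 3)) {r s : c.I → ℤ} (H : ChartLe.Fr c S1 S2 z r s) :
    ∃ x y : c.I → ℤ, ∃ m ∈ D, x ∈ c.R ∧ y ∈ c.R ∧ x ≠ y ∧ x ≠ -y ∧ c.X x ⊓ c.X y = ⊥ ∧
      (∀ a ∈ c.X x, ∀ b ∈ c.X y, a * b = b * a) ∧
      Nat.card (c.X x) = Nat.card S1.A ∧ Nat.card (c.X y) = Nat.card S1.A ∧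
      LinA S1 S2 z m D (c.X x) (c.X y) := by
  obtain ⟨e, W', _, _, cs', A', h', hroot, hR, C⟩ := exists_std c hτ
  have inv : ∀ x : c.I → ℤ, (fun i => (fun j => x (e.symm j)) (e i)) = x := fun x => by funext i; simp
  have lift : ∀ x ∈ c.R, ∃ a b : Fin 4, a ≠ b ∧ x = fun i => rtA a b (e i) := by
    intro x hx
    have h1 : IsRoot cs' h' (fun j => x (e.symm j)) := by
      rw [← hroot, inv]
      exact c.cls.root x hx
    obtain ⟨a, b, hab, h2⟩ := exists_of_isRoot cs' _ h1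
    exact ⟨a, b, hab, by rw [← h2, inv]⟩
  have neg : ∀ a b : Fin 4, (fun i => rtA b a (e i)) = -(fun i => rtA a b (e i) : c.I → ℤ) := by
    intro a b
    funext i
    rw [← rtA_neg a b]
    rfl
  have inj : ∀ {a b a' b' : Fin 4}, a ≠ b → ((fun i => rtA a b (e i)) : c.I → ℤ) = (fun i => rtA a' b' (e i)) →
      a = a' ∧ b = b' := by
    intro a b a' b' hab h1
    apply rtA_inj hab (n := 3)
    funext j
    have h2 := congrFun h1 (e.symm j)
    simpa using h2
  obtain ⟨a, b, hab, hr⟩ := lift r H.hr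
  obtain ⟨c0, d, hcd, hs⟩ := lift s H.hs
  -- the four indices are distinct
  have hdist : a ≠ c0 ∧ a ≠ d ∧ b ≠ c0 ∧ b ≠ d := by
    obtain ⟨k, l, hkl, hka, hkb, hla, hlb⟩ := fin4_compl a b hab
    have hy := (hroot _).2 (isRoot_rtA cs' h' hkl)
    by_cases e3 : (fun i => rtA k l (e i)) = s
    · rw [hs] at e3
      obtain ⟨rfl, rfl⟩ := inj hkl e3
      exact ⟨hka.symm, hla.symm, hkb.symm, hlb.symm⟩
    by_cases e4 : (fun i => rtA k l (e i)) = -s
    · rw [hs, ← neg] at e4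
      obtain ⟨rfl, rfl⟩ := inj hkl e4
      exact ⟨hla.symm, hka.symm, hlb.symm, hkb.symm⟩
    exfalso
    have e1 : (fun i => rtA k l (e i)) ≠ r := by
      intro e1
      rw [hr] at e1
      exact hka (inj hkl e1).1
    have e2 : (fun i => rtA k l (e i)) ≠ -r := by
      intro e2
      rw [hr, ← neg] at e2
      exact hkb (inj hkl e2).1
    obtain ⟨h1, -⟩ := H.non _ hy e1 e2 e3 e4
    rw [form_ne_zero_iff c.cls c.prime c.odd H.hr hy e1 e2] at h1
    have h2 := (form_ne_zero_iff C c.prime c.odd (r := rtA a b) (y := rtA k l) (isRoot_rtA cs' _ hab)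
      (isRoot_rtA cs' _ hkl) (fun e5 => hka (rtA_inj hkl e5).1)
      (fun e5 => hkb (rtA_inj hkl (e5.trans (rtA_neg a b))).1)).2 (by
        obtain ⟨g, hg, hg'⟩ := h1
        refine ⟨g, hg, ?_⟩
        rw [hr] at hg'
        exact hg')
    apply h2
    rw [← cpr_zero_iff cs' h' _ (isRoot_rtA cs' _ hab), CommA.cpr_rtA cs' _ k l hab,
      if_neg hka, if_neg hkb, if_neg hla, if_neg hlb]
    norm_num
  obtain ⟨hac, had, hbc, hbd⟩ := hdist
  have hX : ∀ i j : Fin 4, i ≠ j → c.X (fun k => rtA i j (e k)) ≤ D := by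
    intro i j hij
    exact (X_le_G1 ((hroot _).2 (isRoot_rtA cs' h' hij))).trans c.gen.le
  obtain ⟨m, hm, L⟩ := linA_std (S1 := S1) (S2 := S2) C c.prime c.odd (fun i j hij => isRoot_rtA cs' _ hij)
    (fun y hy => H.zx _ (hR y hy)) hab hac had hbc hbd hcd (by rw [H.a1, hr]) (by rw [H.a1', hr, ← neg])
    (by rw [H.a2, hs]) (by rw [H.a2', hs, ← neg]) hX
  have hz : c.z (fun i => rtA a b (e i)) = z := by rw [← hr, ← H.hz]
  rw [hz] at L
  have hcard : ∀ i j : Fin 4, i ≠ j → Nat.card (c.X (fun k => rtA i j (e k))) = Nat.card S1.A := by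
    intro i j hij
    obtain ⟨w, hw⟩ := KindA.trans cs' h' (isRoot_rtA cs' _ hab) (isRoot_rtA cs' _ hij)
    obtain ⟨g, hg⟩ := exists_rp cs' C.rgd.nsys w
    have h1 := C.rgd.conj_rp hg (isRoot_rtA cs' h' hab)
    rw [hw] at h1
    rw [H.a1, hr]
    have h2 : c.X (fun k => rtA i j (e k)) = Reps.cj g (c.X (fun i => rtA a b (e i))) := h1.symm
    rw [h2]
    exact Subgroup.card_map_of_injective (MulAut.conj g).injective
  have hne : ((fun i => rtA a d (e i)) : c.I → ℤ) ≠ fun i => rtA c0 b (e i) := fun e5 => hac (inj had e5).1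
  refine ⟨fun i => rtA a d (e i), fun i => rtA c0 b (e i), m, hm, hR _ (isRoot_rtA cs' _ had),
    hR _ (isRoot_rtA cs' _ hbc.symm), hne, ?_, ?_, ?_, hcard a d had, hcard c0 b hbc.symm, L⟩
  · intro e5
    rw [← neg] at e5
    exact hab (inj had e5).1
  · exact OppDec.X_inf_X c.cls.rgd ((hroot _).2 (isRoot_rtA cs' _ had)) ((hroot _).2 (isRoot_rtA cs' _ hbc.symm)) hne
  · intro g hg k hk
    exact CommA.comm_disj C.rgd had hbc.symm hcd.symm hab (fun e5 => hac e5.1) hg hk

end chart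

end Cfsg.Agent.Cit.OmB3.LinChart
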