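import Cfsg.Agent.Cit.OmB3.Atwo

/-!
# The Weyl elements `n` for the root `e₂ - e₃` and the involution `z₃ = zⁿ`
-/

set_option autoImplicit false
set_option linter.unusedSectionVars false
set_option linter.unusedVariables false
set_option linter.dupNamespace false

namespace Cfsg.Agent.Cit.OmB3.Mu

open scoped commutatorElement
open Module
open Cfsg.Agent.RootAmalgam (Onto Maps PairData mu_unique)
open Cfsg.Agent.Cit.LemmaATwo Cfsg.Agent.Cit.OmB3.Side Cfsg.Agent.Cit.OmB3.Siegel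
  Cfsg.Agent.Cit.OmB3.Form Cfsg.Agent.Cit.OmB3.Big Cfsg.Agent.Cit.OmB3.Split
  Cfsg.Agent.Cit.OmB3.Third Cfsg.Agent.Cit.OmB3.Atwo
open Cfsg.Agent.Cit.OmB3.Form.Four (MG)

variable {G : Type*} [Group G] {F : Type*} [Field F]
variable {p m : ℕ} {S1 S2 : SLSys F G} {z : G} {Y Y' : Subgroup G}
  [Finite G] [Finite F] [Fact p.Prime] [CharP F p]

/-- The properties of the Weyl elements for `e₂ - e₃`. -/
structure Nel (S1 S2 : SLSys F G) (z : G) (Y Y' : Subgroup G) (n : G) : Prop where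
  a1 : Onto n S1.A (PP (MG S1 S2 z) Y')
  a1b : Onto n (PP (MG S1 S2 z) Y') S1.A
  a1' : Onto n S1.A' (PP (MG S1.opp S2.opp z) Y)
  a1'b : Onto n (PP (MG S1.opp S2.opp z) Y) S1.A'
  a2 : Onto n S2.A (PP (MG S1 S2 z) Y)
  a2b : Onto n (PP (MG S1 S2 z) Y) S2.A
  a2' : Onto n S2.A' (PP (MG S1.opp S2.opp z) Y')
  a2'b : Onto n (PP (MG S1.opp S2.opp z) Y') S2.A'
  b : Onto n (PP (MG S1.opp S2 z) Y') (PP (MG S1 S2.opp z) Y)
  bb : Onto n (PP (MG S1 S2.opp z) Y) (PP (MG S1.opp S2 z) Y')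
  inv : ac z n = n⁻¹
  mem : n ∈ PP (MG S1.opp S2 z) Y' ⊔ PP (MG S1 S2.opp z) Y

theorem inf_eq_one (D : Big p m S1 S2 z Y Y') {x : G} (h1 : x ∈ MG S1.opp S2 z)
    (h3 : x ∈ MG S1 S2.opp z) : x = 1 := by
  have hx := D.opp1.four.mem.1 h1
  have hx' := D.opp2.four.mem.1 h3
  apply inv_of_comm_inv hx.1 hx.2.2.2
  rw [← D.four.s1.hz]
  exact comm_h S1 (fun t => hx'.2.1 _ (S1.xp_mem t)) (fun t => hx.2.1 _ (S1.xm_mem t))
    (neg_ne_zero.2 one_ne_zero)

theorem ne_B (D : Big p m S1 S2 z Y Y') (h2 : (2 : F) ≠ 0) :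
    PP (MG S1.opp S2 z) Y' ≠ PP (MG S1 S2.opp z) Y := by
  intro heq
  obtain ⟨x, hx, hx1⟩ := PP_ne_bot D.opp1.symm h2
  apply hx1
  have hx' := hx
  rw [heq] at hx'
  exact inf_eq_one D (PP_le _ _ hx) (PP_le _ _ hx')

theorem exists_nel (D : Big p m S1 S2 z Y Y') (h2 : (2 : F) ≠ 0) {a : G}
    (ha : a ∈ PP (MG S1 S2.opp z) Y) (ha1 : a ≠ 1) :
    ∃ x ∈ PP (MG S1.opp S2 z) Y', Nel S1 S2 z Y Y' (x * a * x) := by
  have A1 := atwo D h2
  have A2 := (atwo D.swap.symm h2).symm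
  rw [Big.MG_swap S1 S2 z, Big.MG_swap S1.opp S2 z, Big.MG_swap S1 S2.opp z,
    Big.MG_swap S1.opp S2.opp z] at A2
  obtain ⟨x, hx, hM⟩ := A1.exists_mu ha ha1
  obtain ⟨x', hx', hM'⟩ := A2.exists_mu ha ha1
  set A := S1.A
  set B := PP (MG S1.opp S2 z) Y' with hB
  set B' := PP (MG S1 S2.opp z) Y with hB'
  have o1 : Onto (x * a * x) B B' := by
    have := hM.onto (k := 3) (l := 0) (by norm_num)
    rwa [ZZ_three (by norm_num), ZZ_zero (by norm_num)] at this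
  have o1' : Onto (x * a * x) B' B := by
    have := hM.onto (k := 0) (l := 3) (by norm_num)
    rwa [ZZ_zero (by norm_num), ZZ_three (by norm_num)] at this
  have o2 : Onto (x' * a * x') B B' := by
    have := hM'.onto (k := 3) (l := 0) (by norm_num)
    rwa [ZZ_three (by norm_num), ZZ_zero (by norm_num)] at this
  have o2' : Onto (x' * a * x') B' B := by
    have := hM'.onto (k := 0) (l := 3) (by norm_num)
    rwa [ZZ_zero (by norm_num), ZZ_three (by norm_num)] at this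
  have hxx : x' = x := by
    refine (mu_unique (X := B) (Xn := B') ?_ (ne_B D h2) ?_ hx hx hx' hx' ⟨o1, o1'⟩ ⟨o2, o2'⟩).1
    · intro c hc hc1
      obtain ⟨u, hu, hN⟩ := A1.exists_mu hc hc1
      refine ⟨u, hu, u, hu, ?_, ?_⟩
      · have := hN.onto (k := 3) (l := 0) (by norm_num)
        rwa [ZZ_three (by norm_num), ZZ_zero (by norm_num)] at this
      · have := hN.onto (k := 0) (l := 3) (by norm_num)
        rwa [ZZ_zero (by norm_num), ZZ_three (by norm_num)] at this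
    · rw [Subgroup.ne_bot_iff_exists_ne_one]
      exact ⟨⟨a, ha⟩, fun h => ha1 (congrArg Subtype.val h)⟩
  rw [hxx] at hM'
  refine ⟨x, hx, ?_, ?_, ?_, ?_, ?_, ?_, ?_, ?_, o1, o1', ?_, ?_⟩
  · have := hM.onto (k := 1) (l := 2) (by norm_num)
    rwa [ZZ_one (by norm_num), ZZ_two (by norm_num)] at this
  · have := hM.onto (k := 2) (l := 1) (by norm_num)
    rwa [ZZ_two (by norm_num), ZZ_one (by norm_num)] at this
  · have := hM.onto (k := 4) (l := -1) (by norm_num)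
    rwa [ZZ_four (by norm_num), ZZ_five (by norm_num)] at this
  · have := hM.onto (k := 5) (l := -2) (by norm_num)
    rwa [ZZ_five (by norm_num), ZZ_four (by norm_num)] at this
  · have := hM'.onto (k := 4) (l := -1) (by norm_num)
    rwa [ZZ_four (by norm_num), ZZ_five (by norm_num)] at this
  · have := hM'.onto (k := 5) (l := -2) (by norm_num)
    rwa [ZZ_five (by norm_num), ZZ_four (by norm_num)] at this
  · have := hM'.onto (k := 1) (l := 2) (by norm_num)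
    rwa [ZZ_one (by norm_num), ZZ_two (by norm_num)] at this
  · have := hM'.onto (k := 2) (l := 1) (by norm_num)
    rwa [ZZ_two (by norm_num), ZZ_one (by norm_num)] at this
  · rw [ac_mul, ac_mul, MG_z D.opp1 (PP_le _ _ hx), MG_z D.opp2 (PP_le _ _ ha)]
    group
  · exact mul_mem (mul_mem (Subgroup.mem_sup_left hx) (Subgroup.mem_sup_right ha))
      (Subgroup.mem_sup_left hx)

/-- The remaining local facts. -/
structure Inp (S1 S2 : SLSys F G) (z : G) : Prop where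
  uniq1 : ∀ x ∈ S1.A ⊔ S1.A', x * x = 1 → x = 1 ∨ x = z
  uniq2 : ∀ x ∈ S2.A ⊔ S2.A', x * x = 1 → x = 1 ∨ x = z
  cen1 : ∀ x, Odd (orderOf x) → z * x = x * z → (∀ a ∈ S1.A, a * x = x * a) →
    ∃ a ∈ S1.A, ∀ b ∈ S1.A ⊔ S1.A', b * (a⁻¹ * x) = (a⁻¹ * x) * b
  cen2 : ∀ x, Odd (orderOf x) → z * x = x * z → (∀ a ∈ S2.A, a * x = x * a) →
    ∃ a ∈ S2.A, ∀ b ∈ S2.A ⊔ S2.A', b * (a⁻¹ * x) = (a⁻¹ * x) * b

section conj

variable {X X1 X' X1' : Subgroup G} {g z1 : G}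

theorem onto_sup (h : Onto g X X1) (h' : Onto g X' X1') : Onto g (X ⊔ X') (X1 ⊔ X1') := by
  have hmap : ∀ {A B : Subgroup G}, Onto g A B → A.map (MulAut.conj g).toMonoidHom = B := by
    intro A B hAB
    ext x
    simp only [Subgroup.mem_map, MulEquiv.coe_toMonoidHom, MulAut.conj_apply]
    constructor
    · rintro ⟨a, ha, rfl⟩; exact hAB.mem ha
    · intro hx; exact ⟨g⁻¹ * x * g, hAB.mem_inv hx, by group⟩
  intro x
  have h1 : (X ⊔ X').map (MulAut.conj g).toMonoidHom = X1 ⊔ X1' := by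
    rw [Subgroup.map_sup, hmap h, hmap h']
  rw [← h1]
  constructor
  · rintro ⟨a, ha, hx⟩
    have : a = x := (MulAut.conj g).injective hx
    rw [← this]; exact ha
  · intro hx
    exact ⟨x, hx, rfl⟩

theorem uniq_conj (h : Onto g X X1) (h' : Onto g X' X1') (hz : ac g z = z1)
    (hu : ∀ x ∈ X ⊔ X', x * x = 1 → x = 1 ∨ x = z) : ∀ x ∈ X1 ⊔ X1', x * x = 1 → x = 1 ∨ x = z1 := by
  intro x hx hxx
  have h1 := (onto_sup h h').mem_inv hx
  have h3 : g⁻¹ * x * g * (g⁻¹ * x * g) = 1 := by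
    have : g⁻¹ * x * g * (g⁻¹ * x * g) = g⁻¹ * (x * x) * g := by group
    rw [this, hxx]; group
  rcases hu _ h1 h3 with h4 | h4
  · left
    have : x = g * (g⁻¹ * x * g) * g⁻¹ := by group
    rw [this, h4]; group
  · right
    have : x = g * (g⁻¹ * x * g) * g⁻¹ := by group
    rw [this, h4]
    exact hz

theorem cen_conj (h : Onto g X X1) (h' : Onto g X' X1') (hz : ac g z = z1)
    (hu : ∀ x, Odd (orderOf x) → z * x = x * z → (∀ a ∈ X, a * x = x * a) →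
      ∃ a ∈ X, ∀ b ∈ X ⊔ X', b * (a⁻¹ * x) = (a⁻¹ * x) * b) :
    ∀ x, Odd (orderOf x) → z1 * x = x * z1 → (∀ a ∈ X1, a * x = x * a) →
      ∃ a ∈ X1, ∀ b ∈ X1 ⊔ X1', b * (a⁻¹ * x) = (a⁻¹ * x) * b := by
  intro x hx hxz hxX
  have hs := onto_sup h h'
  set u := ac g⁻¹ x with hu'
  have e : ac g u = x := ac_ac_inv g x
  obtain ⟨a, ha, hb⟩ := hu u (by rw [hu', orderOf_ac]; exact hx)
    (by rw [← ac_comm_iff g, hz, e]; exact hxz) (by
      rw [← comm_onto h, e]; exact hxX)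
  refine ⟨ac g a, h.mem ha, ?_⟩
  have h1 : (ac g a)⁻¹ * x = ac g (a⁻¹ * u) := by rw [ac_mul, e, ac_inv]
  rw [h1]
  exact (comm_onto hs).2 hb

end conj

namespace Inp

variable {S1 S2 : SLSys F G} {z : G} (I : Inp S1 S2 z)

include I

theorem swap : Inp S2 S1 z := ⟨I.uniq2, I.uniq1, I.cen2, I.cen1⟩

theorem opp1 (D : Four S1 S2 z) : Inp S1.opp S2 z where
  uniq1 := by
    have h := I.uniq1
    rw [sup_comm] at h
    exact h
  uniq2 := I.uniq2
  cen1 := cen_conj (onto_w_A S1) (onto_w_A' S1) D.s1.w_z I.cen1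
  cen2 := I.cen2

end Inp

theorem z_mem (S : SLSys F G) : S.h (-1) ∈ S.A ⊔ S.A' := by
  have hw : S.w ∈ S.A ⊔ S.A' := by
    rw [w_eq]
    exact mul_mem (mul_mem (Subgroup.mem_sup_right (S.xm_mem _)) (Subgroup.mem_sup_left (S.xp_mem _)))
      (Subgroup.mem_sup_right (S.xm_mem _))
  rw [← S.w_sq]
  exact mul_mem hw hw

theorem z_sq (D : Four S1 S2 z) : z * z = 1 := by rw [← D.s1.hz]; exact S1.h_neg_one_sq

theorem z_ne (D : Big p m S1 S2 z Y Y') (h2 : (2 : F) ≠ 0) : z ≠ 1 := by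
  intro h
  obtain ⟨x, hx, hx1⟩ := PP_ne_bot D h2
  have h3 := MG_z D (PP_le _ _ hx)
  rw [h, one_ac] at h3
  apply hx1
  apply sq_one_of_odd (MG_odd D (PP_le _ _ hx))
  nth_rewrite 2 [h3]
  exact mul_inv_cancel x

/-- The two kinds of Weyl elements give the same involution `z₃`. -/
theorem z3_eq (D : Big p m S1 S2 z Y Y') (h2 : (2 : F) ≠ 0) (I : Inp S1 S2 z) {n n' : G}
    (hn : Nel S1 S2 z Y Y' n) (hn' : Nel S1 S2 z Y' Y n') : ac n z = ac n' z := by
  have h1 := uniq_conj hn.a1 hn.a1' rfl I.uniq1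
  have h3 : ac n' z ∈ PP (MG S1 S2 z) Y' ⊔ PP (MG S1.opp S2.opp z) Y := by
    have h4 := (onto_sup hn'.a2 hn'.a2').mem (z_mem S2)
    rw [D.four.s2.hz] at h4
    exact h4
  rcases h1 _ h3 (by rw [← ac_mul, z_sq D.four, ac_one]) with h5 | h5
  · exfalso
    apply z_ne D h2
    apply ac_inj (g := n')
    rw [h5, ac_one]
  · exact h5.symm

end Cfsg.Agent.Cit.OmB3.Mu
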