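import Cfsg.Agent.Cit.TwinRoots
import Cfsg.Agent.Cit.SplitQuad
import Cfsg.Agent.Nodes.Ty
import Cfsg.Agent.Nodes.PosPair
import Cfsg.Agent.Cit.QTwo.ChartPart

/-!
# Nondegeneracy in a chart (identification of `Ω₇(q)` and `Ω₈⁻(q)`)

`C : Cls cs h p T n X R Z z`, `r, r' ∈ R` orthogonal, of the same length, `z r = z r'`.

* `splitC` : `VV r = Z r (VV r ∩ VV r') (VV r ∩ VV (-r'))`; `inf_eq` : `VV r ∩ VV r'` is generated by root groups;
* `Kind` : every root `y` with `(y, r), (y, r') > 0` satisfies `2 y = r + r'`, or all roots are classical of the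
  same length;
* `nd` : an element of `VV r ∩ VV r'` centralising `VV r` is trivial.
-/

set_option autoImplicit false
set_option linter.unusedSectionVars false

namespace Cfsg.Agent.Cit.OmB3.Nd

open CoxeterSystem Cfsg.Agent.ChevalleyStructure.CoxeterGeom Cfsg.Agent.Tits.Roots Cfsg.Agent.Tits.Core
  Cfsg.Agent.Tits.RootComb Cfsg.Agent.Nodes.Comb Cfsg.Agent.Nodes.Reps Cfsg.Agent.Nodes.BNOf
  Cfsg.Agent.Nodes.RGDLib Cfsg.Agent.Nodes.Chart Cfsg.Agent.Nodes.StabComb Cfsg.Agent.Nodes.Bruhat
  Cfsg.Agent.Nodes.ClsNorm Cfsg.Agent.Nodes.ChartLoc Cfsg.Agent.Nodes.Coroot Cfsg.Agent.Nodes.SubComb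
  Cfsg.Agent.Cit.TwinRoots
open scoped commutatorElement

variable {I W Y : Type*} [Fintype I] [DecidableEq I] [Group W] [Fintype W] [Group Y] {M : CoxeterMatrix I}
  {cs : CoxeterSystem M W} {A : I → I → ℤ} {h : IsCartan M A}
variable {p : ℕ} {T : Subgroup Y} {n : I → Y} {X : (I → ℤ) → Subgroup Y} {R : Set (I → ℤ)}
  {Z : (I → ℤ) → Subgroup Y} {z : (I → ℤ) → Y}

variable (C : Cls cs h p T n X R Z z)

include C

/-- The Weyl elements of a root. -/
theorem exists_mu {y : I → ℤ} (hy : IsRoot cs h y) {x : Y} (hx : x ∈ X y) (hne : x ≠ 1) :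
    ∃ a ∈ X (-y), ∃ b ∈ X (-y), ∀ s ∈ R, s - cpr cs h s y • y ∈ R ∧
      Nodes.Reps.cj (a * x * b) (Z s) = Z (s - cpr cs h s y • y) := by
  obtain ⟨w, i, e⟩ := hy.neg
  have ey : y = rep cs h w (-sr i) := by rw [map_neg, ← e, neg_neg]
  obtain ⟨k, hk⟩ := exists_rp cs C.rgd.nsys w
  have hu : k⁻¹ * x * k ∈ X (-sr i) := by
    have h1 : x ∈ Nodes.Reps.cj k (X (-sr i)) := by
      rw [C.rgd.conj_rp hk (isRoot_sr cs h i).neg, ← ey]; exact hx
    exact Nodes.Reps.mem_cj.1 h1
  have hu1 : k⁻¹ * x * k ≠ 1 := by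
    intro h1
    apply hne
    have : x = k * (k⁻¹ * x * k) * k⁻¹ := by group
    rw [this, h1]; group
  obtain ⟨a, ha, t, ht, b, hb, e1⟩ := C.rgd.rk1 i _ hu hu1
  have hconj : ∀ c ∈ X (sr i), k * c * k⁻¹ ∈ X (-y) := by
    intro c hc
    rw [e]
    exact C.rgd.conj_mem hk (isRoot_sr cs h i) hc
  refine ⟨(k * a * k⁻¹)⁻¹, inv_mem (hconj a ha), (k * b * k⁻¹)⁻¹, inv_mem (hconj b hb), fun s hs => ?_⟩
  have e2 : (k * a * k⁻¹)⁻¹ * x * (k * b * k⁻¹)⁻¹ = k * (t * n i) * k⁻¹ := by
    have : x = k * (k⁻¹ * x * k) * k⁻¹ := by group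
    rw [this, e1]; group
  have hm : Rp cs C.rgd.nsys (rfl' cs w i) (k * (t * n i) * k⁻¹) := by
    have h1 := (rp_of_mem (cs := cs) (hN := C.rgd.nsys) ht).mul (rp_simple cs C.rgd.nsys i)
    rw [one_mul] at h1
    exact (hk.mul h1).mul hk.inv
  have e3 : rep cs h (rfl' cs w i) s = s - cpr cs h s y • y := by
    rw [rep_rfl'_eq, ← e, cpr_neg_right cs h s hy, neg_smul, smul_neg, neg_neg]
  refine ⟨?_, ?_⟩
  · rw [← e3]; exact C.act s hs _
  · rw [e2, conj_Z C hm hs, e3]

/-- An element of a root group centralising `Z s`, `(s, y) < 0`, is trivial. -/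
theorem eq_one_of_comm {y s : I → ℤ} (hy : IsRoot cs h y) (hs : s ∈ R) (hsy : form cs h s y < 0) {x : Y}
    (hx : x ∈ X y) (hc : ∀ c ∈ Z s, x * c = c * x) : x = 1 := by
  by_contra hne
  obtain ⟨a, ha, b, hb, hmu⟩ := exists_mu C hy hx hne
  obtain ⟨hs', h1⟩ := hmu s hs
  have hneg : 0 ≤ form cs h (-y) s := by rw [form_neg_left, form_comm]; omega
  have hcen : a * x * b ∈ Subgroup.centralizer (Z s : Set Y) := by
    refine mul_mem (mul_mem (X_le_centralizer C hs hy.neg hneg ha) ?_) (X_le_centralizer C hs hy.neg hneg hb)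
    rw [Subgroup.mem_centralizer_iff]
    exact fun c hc' => (hc c hc').symm
  have h2 : Nodes.Reps.cj (a * x * b) (Z s) = Z s := by
    rw [← Nodes.Reps.mem_normalizer_iff_cj]
    exact Subgroup.centralizer_le_normalizer _ hcen
  rw [h2] at h1
  have h3 := Z_injective C hs hs' h1
  have h4 : cpr cs h s y • y = 0 := by
    have : s - cpr cs h s y • y = s - 0 := by rw [sub_zero, ← h3]
    exact sub_right_injective this
  have h5 : cpr cs h s y = 0 := by
    by_contra h6
    exact hy.ne_zero ((smul_eq_zero.1 h4).resolve_left h6)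
  rw [cpr_zero_iff cs h s hy] at h5
  omega

section Twin

variable {r r' : I → ℤ} (hr : r ∈ R) (hr' : r' ∈ R) (h0 : form cs h r r' = 0)
  (hf : form cs h r r = form cs h r' r') (hzz : z r = z r')

theorem neg_hyp (hr' : r' ∈ R) (h0 : form cs h r r' = 0)
    (hf : form cs h r r = form cs h r' r') (hzz : z r = z r') :
    -r' ∈ R ∧ form cs h r (-r') = 0 ∧ form cs h r r = form cs h (-r') (-r') ∧ z r = z (-r') := by
  refine ⟨neg_mem C hr', by rw [form_neg_right, h0, neg_zero], ?_, by rw [C.z_neg r' hr', hzz]⟩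
  rw [form_neg_left, form_neg_right, neg_neg, hf]

include hr hr' h0 hf hzz

/-- **The splitting of `VV r`.** -/
theorem splitC (hp2 : p ≠ 2) [Fact p.Prime] [Finite Y] :
    SplitQuad.Split (VV cs h X r) (Z r) (Z r') (Z (-r')) (VV cs h X r ⊓ VV cs h X r')
      (VV cs h X r ⊓ VV cs h X (-r')) (z r') := by
  obtain ⟨hrn, h0n, hfn, hzn⟩ := neg_hyp C hr' h0 hf hzz
  have hzi : (z r')⁻¹ = z r' := inv_eq_of_mul_eq_one_left (C.z_sq r' hr')
  have hmem : ∀ {s : I → ℤ}, s ∈ R → z r = z s → form cs h r s = 0 → ∀ v, v ∈ VV cs h X r ⊓ VV cs h X s ↔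
      v ∈ VV cs h X r ∧ (∀ x ∈ Z s, v * x = x * v) ∧ z r' * v * z r' = v⁻¹ := by
    intro s hs hzs h0s v
    have hzs' : z s = z r' := by rw [← hzs, hzz]
    constructor
    · rintro ⟨h1, h2⟩
      refine ⟨h1, fun x hx => (VV_comm C hs hx h2).symm, ?_⟩
      -- `v v^z` lies in `Z r ∩ Z s`
      have key : ∀ {a : I → ℤ}, a ∈ R → z a = z r' → v ∈ VV cs h X a → v * (z r' * v * z r') ∈ Z a := by
        intro a ha hza hv
        have hzn := z_mem_normalizer_VV C ha
        rw [hza] at hzn
        have hzv : z r' * v * z r' ∈ VV cs h X a := by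
          have := (Subgroup.mem_normalizer_iff.1 hzn v).1 hv
          rwa [hzi] at this
        set u := v * (z r' * v * z r') with hu
        have huV : u ∈ VV cs h X a := mul_mem hv hzv
        have hzu : z r' * u * z r' ∈ VV cs h X a := by
          have := (Subgroup.mem_normalizer_iff.1 hzn u).1 huV
          rwa [hzi] at this
        have h3 : z r' * u * z r' = (z r' * v * z r') * v := by
          rw [hu]
          calc z r' * (v * (z r' * v * z r')) * z r' = (z r' * v * z r') * v * (z r' * z r') := by group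
            _ = _ := by rw [C.z_sq r' hr', mul_one]
        set c := u⁻¹ * (z r' * u * z r') with hc
        have hcZ : c ∈ Z a := by
          have h4 : c = ⁅(z r' * v * z r')⁻¹, v⁻¹⁆ := by rw [hc, h3, hu, commutatorElement_def]; group
          rw [h4]
          exact commutator_VV_le C hp2 ha (Subgroup.commutator_mem_commutator (inv_mem hzv) (inv_mem hv))
        have h5 : z r' * u * z r' = u * c := by rw [hc]; group
        have h6 : z r' * c * z r' = c := by
          have := C.z_cent a ha c hcZ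
          rw [hza] at this
          rw [this, mul_assoc, C.z_sq r' hr', mul_one]
        have h7 : u * (c * c) = u := by
          calc u * (c * c) = (u * c) * c := by group
            _ = (z r' * u * z r') * (z r' * c * z r') := by rw [h5, h6]
            _ = z r' * u * (z r' * z r') * c * z r' := by group
            _ = z r' * (u * c) * z r' := by rw [C.z_sq r' hr']; group
            _ = z r' * (z r' * u * z r') * z r' := by rw [h5]
            _ = (z r' * z r') * u * (z r' * z r') := by group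
            _ = u := by rw [C.z_sq r' hr', one_mul, mul_one]
        have h8 : c * c = 1 := mul_eq_left.1 h7
        have h9 : c = 1 := by
          have := mem_of_odd_sq C hp2 (S := ⊥) (odd_of_mem_VV C hp2 (Z_le_VV C ha hcZ)) (by rw [h8]; exact one_mem _)
          exact Subgroup.mem_bot.1 this
        refine mem_Z_of_commute C hp2 ha huV ?_
        rw [h9, mul_one] at h5
        rw [hza]
        calc u * z r' = (z r' * u * z r') * z r' := by rw [h5]
          _ = z r' * u * (z r' * z r') := by group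
          _ = z r' * u := by rw [C.z_sq r' hr', mul_one]
      have k1 := key hr (by rw [hzz]) h1
      have k2 := key hs hzs' h2
      -- `Z r ∩ Z s = 1`
      have k3 : v * (z r' * v * z r') = 1 := by
        set u := v * (z r' * v * z r') with hu
        by_contra hne
        refine hne (eq_one_of_comm C (y := r) (s := -r) (C.root r hr) (neg_mem C hr) ?_ (C.le r hr k1) ?_)
        · rw [form_neg_left]
          have := form_pos cs h (C.root r hr).ne_zero
          omega
        · intro c hc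
          have h3 : (0 : ℤ) ≤ form cs h (-r) s := by rw [form_neg_left, h0s]; omega
          exact (C.cent s hs (-r) (C.root r hr).neg h3 c (C.le _ (neg_mem C hr) hc) u k2).symm
      exact eq_inv_of_mul_eq_one_right k3
    · rintro ⟨h1, h2, h3⟩
      refine ⟨h1, ?_⟩
      have hN : v ∈ Subgroup.normalizer (Z s : Set Y) := by
        refine (Subgroup.centralizer_le_normalizer (Z s : Set Y) : _) ?_
        rw [Subgroup.mem_centralizer_iff]
        exact fun x hx => (h2 x hx).symm
      have h4 := comm_mem_VV C hs (VV_le_GG C r h1) hN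
      rw [hzs', hzi] at h4
      have h5 : v * z r' * v⁻¹ * z r' = v * v := by
        have : z r' * v⁻¹ * z r' = v := by
          have h6 : z r' * v⁻¹ * z r' = (z r' * v * z r')⁻¹ := by
            simp only [mul_inv_rev, hzi, mul_assoc]
          rw [h6, h3, inv_inv]
        calc v * z r' * v⁻¹ * z r' = v * (z r' * v⁻¹ * z r') := by group
          _ = v * v := by rw [this]
      rw [h5] at h4
      exact mem_of_odd_sq C hp2 (odd_of_mem_VV C hp2 h1) h4
  exact
    { odd := odd_card_VV C hp2 r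
      Z_le := Z_le_VV C hr
      Z_cent := fun a ha b hb => VV_comm C hr ha hb
      der := fun a ha b hb => commutator_VV_le C hp2 hr (Subgroup.commutator_mem_commutator ha hb)
      fix := fun v hv hvz => mem_Z_of_commute C hp2 hr hv (by rw [hzz]; exact hvz.symm)
      z_sq := C.z_sq r' hr'
      z_mem := C.z_mem r' hr'
      z_cent := fun k hk => (cls_commute_z C hr' hk).symm
      norm := by
        intro k hk v hv
        have h1 : Z r' ⊔ Z (-r') ≤ Subgroup.normalizer (VV cs h X r : Set Y) := by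
          refine sup_le (fun x hx => ?_) (fun x hx => ?_)
          · exact X_le_normalizer_VV C (C.root r' hr') (by rw [form_comm]; exact h0) (C.le r' hr' hx)
          · exact X_le_normalizer_VV C (C.root _ hrn) (by rw [form_comm]; exact h0n) (C.le _ hrn hx)
        exact (Subgroup.mem_normalizer_iff.1 (h1 hk) v).1 hv
      ZK := by
        intro a ha k hk
        have h1 : Z r' ⊔ Z (-r') ≤ Subgroup.centralizer {a} := by
          refine sup_le (fun x hx => ?_) (fun x hx => ?_)
          · rw [Subgroup.mem_centralizer_singleton_iff]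
            exact (C.cent r' hr' r (C.root r hr) h0.ge a (C.le r hr ha) x hx).symm
          · rw [Subgroup.mem_centralizer_singleton_iff]
            exact (C.cent _ hrn r (C.root r hr) h0n.ge a (C.le r hr ha) x hx).symm
        exact (Subgroup.mem_centralizer_singleton_iff.1 (h1 hk)).symm
      quadp := fun v hv x hx y hy => quad C hp2 hr hr' h0 hf hv hx hy
      quadm := fun v hv x hx y hy => quad C hp2 hr hrn h0n hfn hv hx hy
      mem_Pp := hmem hr' hzz h0
      mem_Pm := hmem hrn hzn h0n }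

/-- `VV r ∩ VV r'` is generated by root groups. -/
theorem inf_le (hp2 : p ≠ 2) [Fact p.Prime] [Finite Y] : VV cs h X r ⊓ VV cs h X r' ≤
    RGD.Sup X {y | IsRoot cs h y ∧ 0 < form cs h y r ∧ 0 < form cs h y r'} := by
  obtain ⟨hrn, h0n, hfn, hzn⟩ := neg_hyp C hr' h0 hf hzz
  have S := splitC C hr hr' h0 hf hzz hp2
  set Sp : Subgroup Y := RGD.Sup X {y | IsRoot cs h y ∧ 0 < form cs h y r ∧ 0 < form cs h y r'} with hSp
  set Sm : Subgroup Y := RGD.Sup X {y | IsRoot cs h y ∧ 0 < form cs h y r ∧ 0 < form cs h y (-r')} with hSm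
  have hSp' : Sp ≤ VV cs h X r ⊓ VV cs h X r' :=
    RGD.Sup_le fun y hy => le_inf (RGD.le_Sup (S := {y | IsRoot cs h y ∧ 0 < form cs h y r}) ⟨hy.1, hy.2.1⟩)
      (RGD.le_Sup (S := {y | IsRoot cs h y ∧ 0 < form cs h y r'}) ⟨hy.1, hy.2.2⟩)
  have hSm' : Sm ≤ VV cs h X r ⊓ VV cs h X (-r') :=
    RGD.Sup_le fun y hy => le_inf (RGD.le_Sup (S := {y | IsRoot cs h y ∧ 0 < form cs h y r}) ⟨hy.1, hy.2.1⟩)
      (RGD.le_Sup (S := {y | IsRoot cs h y ∧ 0 < form cs h y (-r')}) ⟨hy.1, hy.2.2⟩)
  let N : Subgroup Y :=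
    { carrier := {v | ∃ a ∈ Z r, ∃ b ∈ Sp, ∃ c ∈ Sm, v = a * b * c}
      one_mem' := ⟨1, one_mem _, 1, one_mem _, 1, one_mem _, by group⟩
      mul_mem' := by
        rintro _ _ ⟨a, ha, b, hb, c, hc, rfl⟩ ⟨a', ha', b', hb', c', hc', rfl⟩
        have hbV := (hSp' hb).1
        have hbV' := (hSp' hb').1
        have hcV := (hSm' hc).1
        have hk := S.der c hcV b' hbV'
        refine ⟨a * a' * ⁅c, b'⁆, mul_mem (mul_mem ha ha') hk, b * b', mul_mem hb hb', c * c', mul_mem hc hc', ?_⟩
        have h1 : c * b' = ⁅c, b'⁆ * b' * c := by rw [commutatorElement_def]; group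
        have h2 := S.Z_cent a' ha' (b * c) (mul_mem hbV hcV)
        have h3 := S.Z_cent _ hk b hbV
        calc a * b * c * (a' * b' * c') = a * ((b * c) * a') * b' * c' := by group
          _ = a * a' * b * (c * b') * c' := by rw [← h2]; group
          _ = a * a' * (b * ⁅c, b'⁆) * b' * c * c' := by rw [h1]; group
          _ = _ := by rw [← h3]; group
      inv_mem' := by
        rintro _ ⟨a, ha, b, hb, c, hc, rfl⟩
        have hbV := (hSp' hb).1
        have hcV := (hSm' hc).1
        have hk := S.der c⁻¹ (inv_mem hcV) b⁻¹ (inv_mem hbV)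
        refine ⟨⁅c⁻¹, b⁻¹⁆ * a⁻¹, mul_mem hk (inv_mem ha), b⁻¹, inv_mem hb, c⁻¹, inv_mem hc, ?_⟩
        have h1 : c⁻¹ * b⁻¹ = ⁅c⁻¹, b⁻¹⁆ * b⁻¹ * c⁻¹ := by rw [commutatorElement_def]; group
        have h2 := S.Z_cent a⁻¹ (inv_mem ha) (b⁻¹ * c⁻¹) (mul_mem (inv_mem hbV) (inv_mem hcV))
        calc (a * b * c)⁻¹ = (c⁻¹ * b⁻¹) * a⁻¹ := by group
          _ = ⁅c⁻¹, b⁻¹⁆ * ((b⁻¹ * c⁻¹) * a⁻¹) := by rw [h1]; group
          _ = _ := by rw [← h2]; group }
  have hN : VV cs h X r ≤ N := by
    refine RGD.Sup_le fun y hy x hx => ?_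
    by_cases h1 : y = r
    · subst h1
      rw [X_eq_Z C hr hr' h0 hzz hp2] at hx
      exact ⟨x, hx, 1, one_mem _, 1, one_mem _, by group⟩
    have h2 : y ≠ -r := by
      rintro rfl
      have := hy.2
      rw [form_neg_left] at this
      have := form_pos cs h (C.root r hr).ne_zero
      omega
    have h3 := form_ne C hr hr' h0 hzz hp2 hy.1 h1 h2 hy.2.ne'
    rcases lt_or_gt_of_ne h3 with h4 | h4
    · refine ⟨1, one_mem _, 1, one_mem _, x, RGD.le_Sup
        (S := {y | IsRoot cs h y ∧ 0 < form cs h y r ∧ 0 < form cs h y (-r')}) ⟨hy.1, hy.2, ?_⟩ hx, by group⟩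
      rw [form_neg_right]; omega
    · exact ⟨1, one_mem _, x, RGD.le_Sup
        (S := {y | IsRoot cs h y ∧ 0 < form cs h y r ∧ 0 < form cs h y r'}) ⟨hy.1, hy.2, h4⟩ hx, 1, one_mem _,
        by group⟩
  intro x hx
  obtain ⟨a, ha, b, hb, c, hc, e⟩ := hN hx.1
  have e' : a * b * c = 1 * x * 1 := by rw [← e]; group
  have h1 := (S.ext_mul ha (one_mem _) (hSp' hb) hx (hSm' hc) (one_mem _) e').2.1
  rw [← h1]
  exact hb

end Twin

/-- The two kinds of pairs `r, r'`. -/
def Kind (cs : CoxeterSystem M W) {A : I → I → ℤ} (h : IsCartan M A) (R : Set (I → ℤ)) (r r' : I → ℤ) : Prop :=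
  (∀ y, IsRoot cs h y → 0 < form cs h y r → 0 < form cs h y r' → (2 : ℤ) • y = r + r') ∨
    (∀ y, IsRoot cs h y → y ∈ R ∧ form cs h y y = form cs h r r)

/-- `Z r ∩ Z s = 1` for orthogonal `r, s` -/
theorem eq_one_of_mem_Z {r s : I → ℤ} (hr : r ∈ R) (hs : s ∈ R) (h0s : form cs h r s = 0) {u : Y}
    (k1 : u ∈ Z r) (k2 : u ∈ Z s) : u = 1 := by
  refine eq_one_of_comm C (y := r) (s := -r) (C.root r hr) (neg_mem C hr) ?_ (C.le r hr k1) ?_
  · rw [form_neg_left]
    have := form_pos cs h (C.root r hr).ne_zero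
    omega
  · intro c hc
    have h3 : (0 : ℤ) ≤ form cs h (-r) s := by rw [form_neg_left, h0s]; omega
    exact (C.cent s hs (-r) (C.root r hr).neg h3 c (C.le _ (neg_mem C hr) hc) u k2).symm

section Twin

variable {r r' : I → ℤ} (hr : r ∈ R) (hr' : r' ∈ R) (h0 : form cs h r r' = 0)
  (hf : form cs h r r = form cs h r' r') (hzz : z r = z r')

include hr hr' h0 hf hzz

/-- The first kind. -/
theorem nd_one (hp2 : p ≠ 2) [Fact p.Prime] [Finite Y] {y : I → ℤ} (hy : IsRoot cs h y)
    (h2y : (2 : ℤ) • y = r + r') {x : Y} (hx : x ∈ X y) (hc : ∀ v ∈ VV cs h X r, x * v = v * x) : x = 1 := by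
  obtain ⟨hrn, h0n, hfn, hzn⟩ := neg_hyp C hr' h0 hf hzz
  have S := (splitC C hr hr' h0 hf hzz hp2).symm
  -- numbers
  have n1 : 2 * form cs h y r = form cs h r r := by
    rw [← form_smul_left, h2y, form_add_left, form_comm cs h r' r, h0, add_zero]
  have n2 : 2 * form cs h y r' = form cs h r' r' := by
    rw [← form_smul_left, h2y, form_add_left, h0, zero_add]
  have n3 : 2 * form cs h y y = form cs h r r := by
    have h1 : 2 * form cs h y y = form cs h y r + form cs h y r' := by
      rw [← form_smul_right, h2y, form_add_right]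
    rw [← hf] at n2
    omega
  have hfp := form_pos cs h (C.root r hr).ne_zero
  have hxV : x ∈ VV cs h X r := RGD.le_Sup (S := {y | IsRoot cs h y ∧ 0 < form cs h y r}) ⟨hy, by omega⟩ hx
  have hxV' : x ∈ VV cs h X r' := RGD.le_Sup (S := {y | IsRoot cs h y ∧ 0 < form cs h y r'}) ⟨hy, by omega⟩ hx
  by_contra hne
  obtain ⟨a, ha, b, hb, hmu⟩ := exists_mu C hy hx hne
  obtain ⟨-, h1⟩ := hmu (-r') hrn
  have hcpr : cpr cs h (-r') y = -2 := by
    apply cpr_eq_of_form cs h hy
    rw [form_neg_left, form_comm]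
    omega
  have e1 : -r' - cpr cs h (-r') y • y = r := by
    rw [hcpr, neg_smul, sub_neg_eq_add, h2y]; abel
  rw [e1] at h1
  have hneg : X (-y) ≤ VV cs h X (-r') := RGD.le_Sup (S := {y | IsRoot cs h y ∧ 0 < form cs h y (-r')})
    ⟨hy.neg, by rw [form_neg_left, form_neg_right, neg_neg]; omega⟩
  apply C.ne_bot (-r') hrn
  rw [Subgroup.eq_bot_iff_forall]
  intro c hcZ
  have hbc : b * c = c * b := C.cent (-r') hrn (-y) hy.neg (by rw [form_neg_left, form_neg_right, neg_neg]; omega)
    b hb c hcZ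
  -- `[x, c]`
  have hu : ⁅x, c⁆ ∈ VV cs h X (-r') := by
    obtain ⟨α, hα, β, hβ, e2⟩ := S.comm_mem hxV hcZ
    have hxz : z r' * x * z r' = x⁻¹ := ((S.symm.mem_Pp x).1 ⟨hxV, hxV'⟩).2.2
    have hβz : z r' * β * z r' = β⁻¹ := ((S.mem_Pp β).1 hβ).2.2
    have hαz : z r' * α * z r' = α := S.zz_Z hα
    have hcz : z r' * c * z r' = c := by
      have := C.z_cent _ hrn c hcZ
      rw [C.z_neg r' hr'] at this
      rw [this, mul_assoc, C.z_sq r' hr', mul_one]
    have h3 : z r' * ⁅x, c⁆ * z r' = ⁅x, c⁆⁻¹ := by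
      have h4 : z r' * ⁅x, c⁆ * z r' = x⁻¹ * c * x * c⁻¹ := by
        rw [commutatorElement_def, S.zz_mul, S.zz_mul, S.zz_mul, S.zz_inv, S.zz_inv, hxz, hcz, inv_inv]
      have hxu : ⁅x, c⁆ ∈ VV cs h X r := S.comm_mem_V hxV (Subgroup.mem_sup_left hcZ)
      have h5 := hc _ hxu
      have h6 : x⁻¹ * ⁅x, c⁆⁻¹ * x = ⁅x, c⁆⁻¹ := by
        have : Commute x ⁅x, c⁆⁻¹ := (show Commute x ⁅x, c⁆ from h5).inv_right
        rw [mul_assoc, ← this.eq, inv_mul_cancel_left]
      rw [h4, ← h6, commutatorElement_def]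
      group
    rw [e2] at h3 ⊢
    rw [S.zz_mul, hαz, hβz, mul_inv_rev, ← S.Z_cent _ (inv_mem hα) _ (inv_mem (S.Pp_le hβ))] at h3
    have h4 : α * α = 1 := by
      have := mul_right_cancel h3
      rw [this]; nth_rewrite 2 [← this]; exact inv_mul_cancel α
    rw [S.eq_one_of_sq (S.Z_le hα) h4, one_mul]
    exact hβ.2
  have hcV : c ∈ VV cs h X (-r') := Z_le_VV C hrn hcZ
  have e3 : (a * x * b) * c * (a * x * b)⁻¹ = a * (⁅x, c⁆ * c) * a⁻¹ := by
    calc (a * x * b) * c * (a * x * b)⁻¹ = a * x * (b * c) * b⁻¹ * x⁻¹ * a⁻¹ := by group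
      _ = a * (⁅x, c⁆ * c) * a⁻¹ := by rw [hbc, commutatorElement_def]; group
  have h5 : (a * x * b) * c * (a * x * b)⁻¹ ∈ VV cs h X (-r') := by
    rw [e3]
    exact mul_mem (mul_mem (hneg ha) (mul_mem hu hcV)) (inv_mem (hneg ha))
  have h6 : (a * x * b) * c * (a * x * b)⁻¹ ∈ Z r := by
    rw [← h1]
    exact Nodes.Reps.conj_mem_cj.2 hcZ
  have h7 : (a * x * b) * c * (a * x * b)⁻¹ ∈ Z (-r') := by
    refine mem_Z_of_commute C hp2 hrn h5 ?_
    rw [← hzn]
    exact (C.z_cent r hr _ h6).symm
  have h8 := eq_one_of_mem_Z C hr hrn h0n h6 h7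
  have h9 : c = (a * x * b)⁻¹ * ((a * x * b) * c * (a * x * b)⁻¹) * (a * x * b) := by group
  rw [h9, h8]; group

omit hf hzz in
/-- The second kind. -/
theorem nd_two (hsl : ∀ y, IsRoot cs h y → y ∈ R ∧ form cs h y y = form cs h r r) (U : Finset (I → ℤ)) :
    (∀ y ∈ U, IsRoot cs h y ∧ 0 < form cs h y r ∧ 0 < form cs h y r') → ∀ x ∈ RGD.Sup X (U : Set (I → ℤ)),
    (∀ v ∈ VV cs h X r, x * v = v * x) → x = 1 := by
  classical
  have hfp := form_pos cs h (C.root r hr).ne_zero
  have hle : ∀ {y y' : I → ℤ}, IsRoot cs h y → IsRoot cs h y' → y ≠ y' → y ≠ -y' →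
      2 * form cs h y y' ≤ form cs h r r := by
    intro y y' hy hy' h1 h2
    have h3 := Nodes.PosPair.gram_pos cs h hy hy' h1 h2
    rw [(hsl y hy).2, (hsl y' hy').2] at h3
    have h4 := two_form_cpr cs h y hy'
    rw [(hsl y' hy').2] at h4
    have h5 : form cs h y y' < form cs h r r := by
      by_contra h6
      push Not at h6
      nlinarith
    have h6 : cpr cs h y y' < 2 := by
      by_contra h7
      push Not at h7
      nlinarith
    have h7 : cpr cs h y y' ≤ 1 := by omega
    nlinarith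
  have heq : ∀ y : I → ℤ, IsRoot cs h y → 0 < form cs h y r → y ≠ r → 2 * form cs h y r = form cs h r r := by
    intro y hy h1 h2
    have h3 := hle hy (C.root r hr) h2 (by
      rintro rfl
      rw [form_neg_left] at h1
      omega)
    have h4 := two_form_cpr cs h y (C.root r hr)
    have h5 : 0 < cpr cs h y r := (cpr_pos_iff cs h y (C.root r hr)).2 h1
    nlinarith
  induction U using Finset.induction_on with
  | empty =>
    intro _ x hx _
    have h1 : RGD.Sup X ((∅ : Finset (I → ℤ)) : Set (I → ℤ)) ≤ ⊥ := RGD.Sup_le fun y hy => by simp at hy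
    exact Subgroup.mem_bot.1 (h1 hx)
  | insert y0 U hy0 ih =>
    intro hU x hx hcx
    have hU' : ∀ y ∈ U, IsRoot cs h y ∧ 0 < form cs h y r ∧ 0 < form cs h y r' := fun y hy =>
      hU y (Finset.mem_insert_of_mem hy)
    have hr0 := hU y0 (Finset.mem_insert_self _ _)
    have hcomm : ∀ y ∈ insert y0 U, ∀ y' ∈ insert y0 U, ∀ a ∈ X y, ∀ b ∈ X y', y ≠ y' → a * b = b * a := by
      intro y hy y' hy' a ha b hb hne
      obtain ⟨k1, k2, k3⟩ := hU y hy
      obtain ⟨l1, l2, l3⟩ := hU y' hy'
      have hn' : y ≠ -y' := by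
        rintro rfl
        rw [form_neg_left] at k2
        omega
      have h1 := C.rgd.comm y y' k1 l1 hne hn' a ha b hb
      have h2 : btw cs h X y y' ≤ ⊥ := by
        refine iSup_le ?_
        rintro ⟨m, hm, k, c, d, hk, hc, hd, e⟩
        exfalso
        have e1 : k * form cs h m r = c * form cs h y r + d * form cs h y' r := by
          rw [← form_smul_left, e, form_add_left, form_smul_left, form_smul_left]
        have e2 : k * form cs h m r' = c * form cs h y r' + d * form cs h y' r' := by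
          rw [← form_smul_left, e, form_add_left, form_smul_left, form_smul_left]
        have yr : y ≠ r := by rintro rfl; omega
        have yr' : y' ≠ r := by rintro rfl; omega
        have f1 := heq y k1 k2 yr
        have f2 := heq y' l1 l2 yr'
        have mr' : 0 < form cs h m r' := by
          have : 0 < k * form cs h m r' := by rw [e2]; positivity
          exact (mul_pos_iff_of_pos_left hk).1 this
        have mr0 : 0 < form cs h m r := by
          have : 0 < k * form cs h m r := by rw [e1]; positivity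
          exact (mul_pos_iff_of_pos_left hk).1 this
        have mr : m ≠ r := by rintro rfl; omega
        have f3 := heq m hm mr0 mr
        -- `k = c + d`
        have f4 : k = c + d := by
          have : k * form cs h r r = (c + d) * form cs h r r := by
            have : k * (2 * form cs h m r) = (c + d) * form cs h r r := by
              calc k * (2 * form cs h m r) = 2 * (k * form cs h m r) := by ring
                _ = c * (2 * form cs h y r) + d * (2 * form cs h y' r) := by rw [e1]; ring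
                _ = _ := by rw [f1, f2]; ring
            rwa [f3] at this
          exact mul_right_cancel₀ hfp.ne' this
        -- the norms
        have f5 : form cs h (k • m) (k • m) = k * k * form cs h r r := by
          rw [form_smul_left, form_smul_right, (hsl m hm).2]; ring
        have f6 : form cs h (k • m) (k • m) = (c * c + d * d) * form cs h r r + 2 * (c * d) * form cs h y y' := by
          rw [e]
          simp only [form_add_left, form_add_right, form_smul_left, form_smul_right]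
          rw [(hsl y k1).2, (hsl y' l1).2, form_comm cs h y' y]; ring
        have f7 := hle k1 l1 hne hn'
        have hcd : 0 < c * d := mul_pos hc hd
        have f8 : k * k * form cs h r r = (c * c + d * d) * form cs h r r + 2 * (c * d) * form cs h y y' := by
          rw [← f5, f6]
        rw [f4] at f8
        nlinarith
      rw [h2.antisymm bot_le, Subgroup.mem_bot] at h1
      exact commutatorElement_eq_one_iff_mul_comm.1 h1
    -- `x = x₀ x₁`
    have hdec : ∃ x0 ∈ X y0, ∃ x1 ∈ RGD.Sup X (U : Set (I → ℤ)), x = x0 * x1 := by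
      have hcm : ∀ a ∈ X y0, ∀ b ∈ RGD.Sup X (U : Set (I → ℤ)), a * b = b * a := by
        intro a ha b hb
        have : RGD.Sup X (U : Set (I → ℤ)) ≤ Subgroup.centralizer {a} := by
          refine RGD.Sup_le fun y hy b hb => ?_
          rw [Subgroup.mem_centralizer_singleton_iff]
          have hyU : y ∈ U := hy
          exact (hcomm y0 (Finset.mem_insert_self _ _) y (Finset.mem_insert_of_mem hyU) a ha b hb
            (fun h => hy0 (h ▸ hyU))).symm
        exact (Subgroup.mem_centralizer_singleton_iff.1 (this hb)).symm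
      let N : Subgroup Y :=
        { carrier := {v | ∃ x0 ∈ X y0, ∃ x1 ∈ RGD.Sup X (U : Set (I → ℤ)), v = x0 * x1}
          one_mem' := ⟨1, one_mem _, 1, one_mem _, by group⟩
          mul_mem' := by
            rintro _ _ ⟨a, ha, b, hb, rfl⟩ ⟨a', ha', b', hb', rfl⟩
            refine ⟨a * a', mul_mem ha ha', b * b', mul_mem hb hb', ?_⟩
            have := hcm a' ha' b hb
            calc a * b * (a' * b') = a * (b * a') * b' := by group
              _ = _ := by rw [← this]; group
          inv_mem' := by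
            rintro _ ⟨a, ha, b, hb, rfl⟩
            refine ⟨a⁻¹, inv_mem ha, b⁻¹, inv_mem hb, ?_⟩
            rw [mul_inv_rev, hcm _ (inv_mem ha) _ (inv_mem hb)] }
      have hN : RGD.Sup X ((insert y0 U : Finset (I → ℤ)) : Set (I → ℤ)) ≤ N := by
        refine RGD.Sup_le fun y hy v hv => ?_
        rcases Finset.mem_insert.1 (show y ∈ insert y0 U from hy) with rfl | h1
        · exact ⟨v, hv, 1, one_mem _, by group⟩
        · exact ⟨1, one_mem _, v, RGD.le_Sup (show y ∈ (U : Set (I → ℤ)) from h1) hv, by group⟩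
      exact hN hx
    obtain ⟨x0, hx0, x1, hx1, rfl⟩ := hdec
    -- the root `r - y₀`
    have hy0r : y0 ≠ r := by rintro rfl; omega
    have f1 := heq y0 hr0.1 hr0.2.1 hy0r
    have hcpr : cpr cs h r y0 = 1 := by
      apply cpr_eq_of_form cs h hr0.1
      rw [form_comm, (hsl y0 hr0.1).2]; omega
    have hs0 : IsRoot cs h (r - y0) := by
      have := isRoot_refl cs h (C.root r hr) hr0.1
      rwa [hcpr, one_smul] at this
    have hs0R := (hsl _ hs0).1
    have fr : form cs h (r - y0) r = form cs h r r - form cs h y0 r := by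
      rw [sub_eq_add_neg, form_add_left, form_neg_left]; ring
    have fy : ∀ y, form cs h y (r - y0) = form cs h y r - form cs h y y0 := by
      intro y
      rw [sub_eq_add_neg, form_add_right, form_neg_right]; ring
    have hZV : Z (r - y0) ≤ VV cs h X r := fun c hc =>
      RGD.le_Sup (S := {y | IsRoot cs h y ∧ 0 < form cs h y r}) ⟨hs0, by rw [fr]; omega⟩ (C.le _ hs0R hc)
    have hx1c : ∀ c ∈ Z (r - y0), x1 * c = c * x1 := by
      intro c hc
      have : RGD.Sup X (U : Set (I → ℤ)) ≤ Subgroup.centralizer {c} := by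
        refine RGD.Sup_le fun y hy b hb => ?_
        have hyU : y ∈ U := hy
        obtain ⟨k1, k2, k3⟩ := hU' y hyU
        rw [Subgroup.mem_centralizer_singleton_iff]
        refine C.cent _ hs0R y k1 ?_ b hb c hc
        have yr : y ≠ r := by rintro rfl; omega
        have g1 := heq y k1 k2 yr
        have g2 := hle k1 hr0.1 (fun h => hy0 (h ▸ hyU)) (by
          rintro rfl
          rw [form_neg_left] at k2
          omega)
        rw [fy]; omega
      exact Subgroup.mem_centralizer_singleton_iff.1 (this hx1)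
    have hx01 : x0 = 1 := by
      refine eq_one_of_comm C hr0.1 hs0R (s := r - y0) ?_ hx0 ?_
      · rw [form_comm, fy, (hsl y0 hr0.1).2]; omega
      · intro c hc
        have h1 := hcx c (hZV hc)
        have h2 := hx1c c hc
        have h3 : x0 * c * x1 = c * x0 * x1 := by
          calc x0 * c * x1 = x0 * (x1 * c) := by rw [h2]; group
            _ = c * x0 * x1 := by rw [← mul_assoc, h1]; group
        exact mul_right_cancel h3
    rw [hx01, one_mul] at hcx ⊢
    exact ih hU' x1 hx1 hcx

/-- **Nondegeneracy.** -/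
theorem nd (hp2 : p ≠ 2) [Fact p.Prime] [Finite Y] (hk : Kind cs h R r r') {x : Y} (hx : x ∈ VV cs h X r)
    (hx' : x ∈ VV cs h X r') (hc : ∀ v ∈ VV cs h X r, x * v = v * x) : x = 1 := by
  have h1 := inf_le C hr hr' h0 hf hzz hp2 ⟨hx, hx'⟩
  rcases hk with hk | hk
  · by_cases he : ∃ y, IsRoot cs h y ∧ 0 < form cs h y r ∧ 0 < form cs h y r'
    · obtain ⟨y, hy, hyr, hyr'⟩ := he
      have h2y := hk y hy hyr hyr'
      refine nd_one C hr hr' h0 hf hzz hp2 hy h2y ?_ hc
      refine (RGD.Sup_le fun m hm => ?_ : _ ≤ X y) h1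
      have h2m := hk m hm.1 hm.2.1 hm.2.2
      have : m = y := by
        have : (2 : ℤ) • m = (2 : ℤ) • y := by rw [h2m, h2y]
        exact smul_right_injective _ (by norm_num : (2 : ℤ) ≠ 0) this
      rw [this]
    · have h2 : RGD.Sup X {y | IsRoot cs h y ∧ 0 < form cs h y r ∧ 0 < form cs h y r'} ≤ ⊥ :=
        RGD.Sup_le fun y hy => absurd ⟨y, hy⟩ he
      exact Subgroup.mem_bot.1 (h2 h1)
  · have hfin : {y | IsRoot cs h y ∧ 0 < form cs h y r ∧ 0 < form cs h y r'}.Finite := by
      refine Set.Finite.subset (Set.finite_range fun q : W × I => rep cs h q.1 (sr q.2)) ?_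
      rintro y ⟨⟨w, i, rfl⟩, -⟩
      exact ⟨(w, i), rfl⟩
    refine nd_two C hr hr' h0 hk hfin.toFinset (fun y hy => by simpa using hy) x ?_ hc
    rwa [Set.Finite.coe_toFinset]

end Twin

/-! ### The kinds of the types `A n` and `C 2` -/

omit C in
theorem eq_zero_of_orth (cs : CoxeterSystem M W) {A : I → I → ℤ} (h : IsCartan M A) (hI : Fintype.card I = 2)
    {r r' u : I → ℤ} (hr : form cs h r r ≠ 0) (hr' : form cs h r' r' ≠ 0) (h0 : form cs h r r' = 0)
    (h1 : form cs h u r = 0) (h2 : form cs h u r' = 0) : u = 0 := by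
  by_contra hu
  have hu' := form_pos cs h hu
  have hli : LinearIndependent ℤ ![r, r', u] := by
    rw [Fintype.linearIndependent_iff]
    intro g hg i
    rw [Fin.sum_univ_three] at hg
    simp only [Matrix.cons_val_zero, Matrix.cons_val_one, Matrix.cons_val] at hg
    have z0 : ∀ v : I → ℤ, form cs h 0 v = 0 := fun v => by
      rw [← zero_smul ℤ (0 : I → ℤ), form_smul_left, zero_mul]
    have e1 : form cs h (g 0 • r + g 1 • r' + g 2 • u) r = 0 := by rw [hg, z0]
    have e2 : form cs h (g 0 • r + g 1 • r' + g 2 • u) r' = 0 := by rw [hg, z0]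
    have e3 : form cs h (g 0 • r + g 1 • r' + g 2 • u) u = 0 := by rw [hg, z0]
    simp only [form_add_left, form_smul_left] at e1 e2 e3
    rw [form_comm cs h r' r, h0, h1, mul_zero, mul_zero, add_zero, add_zero] at e1
    rw [h0, h2, mul_zero, mul_zero, zero_add, add_zero] at e2
    rw [form_comm cs h r u, form_comm cs h r' u, h1, h2, mul_zero, mul_zero, zero_add, zero_add] at e3
    fin_cases i
    · exact (mul_eq_zero.1 e1).resolve_right hr
    · exact (mul_eq_zero.1 e2).resolve_right hr'
    · exact (mul_eq_zero.1 e3).resolve_right hu'.ne'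
  have h3 := hli.fintype_card_le_finrank
  rw [Module.finrank_pi, hI, Fintype.card_fin] at h3
  omega

omit C in
theorem cartan_C2 (i j : Fin 2) (hi : (i : ℕ) = 1) (hj : (j : ℕ) = 0) :
    Nodes.TypeC.A 2 i j = -1 ∧ Nodes.TypeC.A 2 j i = -2 := by
  rw [Nodes.TypeC.A_apply, Nodes.TypeC.A_apply]
  have h1 : i ≠ j := by rintro rfl; omega
  rw [if_neg h1, if_neg (by omega), if_pos (by omega), if_neg h1.symm, if_pos (by omega), if_neg (by omega)]
  exact ⟨rfl, rfl⟩

section chart

variable {G : Type*} [Group G] {Om : Set (Subgroup G)} {L : Subgroup G}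

omit C

theorem form_eq (c : Chart Om p L) {r s : c.I → ℤ} (hr : r ∈ c.R) (hs : s ∈ c.R) :
    form c.cs c.h r r = form c.cs c.h s s := by
  obtain ⟨w, rfl⟩ := c.trans r hr s hs
  rw [form_rep]

theorem kind_A (c : Chart Om p L) {m : ℕ} (hc : c.IsTy (.A m)) {r r' : c.I → ℤ} (hr : r ∈ c.R) :
    Kind c.cs c.h c.R r r' := by
  right
  rintro y ⟨w, i, rfl⟩
  obtain ⟨e, -, he⟩ := hc
  have h1 : sr i ∈ c.R := (he i).2 trivial
  have h2 := c.cls.act _ h1 w
  exact ⟨h2, form_eq c h2 hr⟩

theorem kind_C2 (c : Chart Om p L) (hc : c.IsTy (.C 2)) {r r' : c.I → ℤ} (hr : r ∈ c.R) (hr' : r' ∈ c.R)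
    (h0 : form c.cs c.h r r' = 0) : Kind c.cs c.h c.R r r' := by
  left
  have hcard : Fintype.card c.I = 2 := hc.card
  obtain ⟨e, hA, hR⟩ := hc
  have hroot := c.cls.root r hr
  have hroot' := c.cls.root r' hr'
  have hff := form_eq c hr hr'
  have hfp := form_pos c.cs c.h hroot.ne_zero
  -- all roots are at most as long as `r`
  have hlen : ∀ y, IsRoot c.cs c.h y → form c.cs c.h y y ≤ form c.cs c.h r r := by
    rintro y ⟨w, k, rfl⟩
    rw [form_rep]
    obtain ⟨v, i, e1⟩ := id hroot
    have hi : sr i ∈ c.R := by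
      have h2 := c.cls.act r hr v⁻¹
      rwa [e1, rep_inv_apply] at h2
    rw [form_eq c hr hi]
    have hi1 : (e i : ℕ) + 1 = 2 := (hR i).1 hi
    have hk2 : (e k : ℕ) < 2 := (e k).2
    by_cases hk : (e k : ℕ) = 1
    · have : k = i := e.injective (Fin.ext (by omega))
      rw [this]
    · have hki : k ≠ i := by rintro rfl; omega
      have hk0 : (e k : ℕ) = 0 := by omega
      have t1 := two_form_cpr c.cs c.h (sr k) (isRoot_sr c.cs c.h i)
      have t2 := two_form_cpr c.cs c.h (sr i) (isRoot_sr c.cs c.h k)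
      rw [cpr_sr, sr, pairing_single, ← sr, mul_one, hA] at t1 t2
      have a1 : Ty.cartan (.C 2) (e i) (e k) = -1 := (cartan_C2 (e i) (e k) (by omega) hk0).1
      have a2 : Ty.cartan (.C 2) (e k) (e i) = -2 := (cartan_C2 (e i) (e k) (by omega) hk0).2
      rw [a1] at t1
      rw [a2, form_comm] at t2
      have hp := form_pos c.cs c.h (isRoot_sr c.cs c.h k).ne_zero
      omega
  intro y hy h1 h2
  set b := cpr c.cs c.h y r with hb
  have hb' : cpr c.cs c.h y r' = b := by
    have h3 := cpr_add_eq_zero hroot hroot'.neg (by rw [form_neg_right, h0, neg_zero])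
      (by rw [form_neg_left, form_neg_right, neg_neg]; exact hff) hy h1 (by rw [form_neg_right]; omega)
    rw [cpr_neg_right c.cs c.h y hroot'] at h3
    omega
  have t1 := two_form_cpr c.cs c.h y hroot
  have t2 := two_form_cpr c.cs c.h y hroot'
  rw [← hb] at t1
  rw [hb'] at t2
  have e1 : (2 : ℤ) • y - b • (r + r') = 0 := by
    refine eq_zero_of_orth c.cs c.h hcard hfp.ne' (by rw [← hff]; exact hfp.ne') h0 ?_ ?_
    · rw [sub_eq_add_neg, ← neg_smul, form_add_left, form_smul_left, form_smul_left, form_add_left,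
        form_comm c.cs c.h r' r, h0]
      linarith
    · rw [sub_eq_add_neg, ← neg_smul, form_add_left, form_smul_left, form_smul_left, form_add_left, h0]
      linarith
  have e2 : (2 : ℤ) • y = b • (r + r') := sub_eq_zero.1 e1
  have e3 : 2 * form c.cs c.h y y = b * form c.cs c.h r r * b := by
    have h3 : 2 * form c.cs c.h y y = b * (form c.cs c.h y r + form c.cs c.h y r') := by
      calc 2 * form c.cs c.h y y = form c.cs c.h y ((2 : ℤ) • y) := (form_smul_right _ _ _ _ _).symm
        _ = form c.cs c.h y (b • (r + r')) := by rw [e2]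
        _ = _ := by rw [form_smul_right, form_add_right]
    rw [h3]
    have h4 : 2 * (b * (form c.cs c.h y r + form c.cs c.h y r')) = 2 * (b * form c.cs c.h r r * b) := by
      calc 2 * (b * (form c.cs c.h y r + form c.cs c.h y r')) =
          b * (2 * form c.cs c.h y r) + b * (2 * form c.cs c.h y r') := by ring
        _ = 2 * (b * form c.cs c.h r r * b) := by rw [t1, t2, ← hff]; ring
    linarith
  have hb0 : 0 < b := (cpr_pos_iff c.cs c.h y hroot).2 h1
  have hb1 : b = 1 := by
    have h3 := hlen y hy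
    by_contra h4
    have h5 : 2 ≤ b := by omega
    nlinarith
  rw [e2, hb1, one_smul]

/-- **Nondegeneracy in charts of the types `A n`, `C 2`.** -/
theorem nd_chart [Finite G] (c : Chart Om p L) {m : ℕ} (hc : c.IsTy (.A m) ∨ c.IsTy (.C 2)) {r r' : c.I → ℤ}
    (hr : r ∈ c.R) (hr' : r' ∈ c.R) (h0 : form c.cs c.h r r' = 0) (hzz : c.z r = c.z r') {x : G}
    (hx : x ∈ VV c.cs c.h c.X r) (hx' : x ∈ VV c.cs c.h c.X r')
    (hcen : ∀ v ∈ VV c.cs c.h c.X r, x * v = v * x) : x = 1 := by
  have := Fact.mk c.prime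
  refine nd c.cls hr hr' h0 (form_eq c hr hr') hzz c.odd ?_ hx hx' hcen
  rcases hc with hc | hc
  · exact kind_A c hc hr
  · exact kind_C2 c hc hr hr' h0

end chart

end Cfsg.Agent.Cit.OmB3.Nd
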