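import Cfsg.Agent.Cit.OmB3.Torus
import Cfsg.Agent.Cit.NodeGlue
import Cfsg.Agent.Cit.TypeCOut
import Cfsg.Agent.Nodes.KindBC
import Cfsg.Agent.Nodes.ChartOfCls

/-!
# The root group datum of type `B₃` and its table of root groups
-/

set_option autoImplicit false
set_option linter.unusedSectionVars false
set_option linter.unusedVariables false
set_option linter.dupNamespace false

namespace Cfsg.Agent.Cit.OmB3.Out

open scoped commutatorElement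
open Module
open CoxeterSystem Cfsg.Agent.ChevalleyStructure.CoxeterGeom Cfsg.Agent.Tits.Roots
  Cfsg.Agent.Nodes.TypeC Cfsg.Agent.Nodes.TypeCForm Cfsg.Agent.Nodes.Reps
  Cfsg.Agent.Nodes.BNOf Cfsg.Agent.Nodes.Chart Cfsg.Agent.Nodes.RGDLib
  Cfsg.Agent.Nodes.Comb Cfsg.Agent.Nodes.KindBC
open Cfsg.Agent.RootAmalgam (Onto Maps PairData mu_unique RD)
open Cfsg.Agent.Cit.LemmaATwo Cfsg.Agent.Cit.OmB3.Side
  Cfsg.Agent.Cit.OmB3.Form Cfsg.Agent.Cit.OmB3.Big Cfsg.Agent.Cit.OmB3.Split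
  Cfsg.Agent.Cit.OmB3.Third Cfsg.Agent.Cit.OmB3.Atwo Cfsg.Agent.Cit.OmB3.Mu
  Cfsg.Agent.Cit.OmB3.Zthree Cfsg.Agent.Cit.OmB3.Short Cfsg.Agent.Cit.OmB3.Ethree
  Cfsg.Agent.Cit.OmB3.Pairs Cfsg.Agent.Cit.OmB3.Rgd Cfsg.Agent.Cit.OmB3.Torus
open Cfsg.Agent.Cit.OmB3.Form.Four (MG)

variable {G : Type*} [Group G] {F : Type*} [Field F]
variable {p m : ℕ} {S1 S2 : SLSys F G} {z z3 : G} {Y Y' : Subgroup G}
  [Finite G] [Finite F] [Fact p.Prime] [CharP F p]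

/-- The simple root groups. -/
def Xp (S1 S2 : SLSys F G) (z z3 : G) (Y Y' : Subgroup G) : Fin 3 → Subgroup G :=
  ![S1.A, PP (MG S1.opp S2 z) Y', XX3 S1 S2 z Y (z3 * z)]

/-- The opposite root groups. -/
def Xm (S1 S2 : SLSys F G) (z z3 : G) (Y Y' : Subgroup G) : Fin 3 → Subgroup G :=
  ![S1.A', PP (MG S1 S2.opp z) Y, XX3 S1 S2 z Y' (z3 * z)]

theorem B01 : CoxeterMatrix.B 3 0 1 = 3 := by decide
theorem B10 : CoxeterMatrix.B 3 1 0 = 3 := by decide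
theorem B12 : CoxeterMatrix.B 3 1 2 = 4 := by decide
theorem B21 : CoxeterMatrix.B 3 2 1 = 4 := by decide
theorem B02 : CoxeterMatrix.B 3 0 2 = 2 := by decide
theorem B20 : CoxeterMatrix.B 3 2 0 = 2 := by decide

theorem cj_eq_of_onto {g : G} {P Q : Subgroup G} (h : Onto g P Q) : cj g P = Q :=
  NodeGlue.onto_iff_cj.1 h

theorem A_ne (D : Big p m S1 S2 z Y Y') (h2 : (2 : F) ≠ 0) : S1.A ≠ S1.A' := by
  intro heq
  obtain ⟨x, hx, hx1⟩ := PP_ne_bot D h2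
  apply hx1
  have h1 : MG S1.opp S2 z = MG S1 S2 z := by
    unfold MG
    have : S1.opp.A = S1.A := heq.symm
    rw [this]
  apply D.four.nd2 x (D.four.mem.1 (PP_le _ _ hx))
  intro y hy
  have hy' : y ∈ MG S1.opp S2 z := D.four.opp1.mem.2 hy
  rw [h1] at hy'
  exact MG_ab D (PP_le _ _ hx) hy'

theorem A_isPGroup (S : SLSys F G) : IsPGroup p S.A := by
  obtain ⟨n, hn⟩ : ∃ n, Nat.card F = p ^ n := by
    have := Fintype.ofFinite F
    obtain ⟨n, -, hn⟩ := FiniteField.card F p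
    exact ⟨n, by rw [Nat.card_eq_fintype_card, hn]⟩
  exact IsPGroup.of_card (by rw [S.card_A, hn])

theorem A'_ne_bot (S : SLSys F G) : S.A' ≠ ⊥ := by
  rw [Subgroup.ne_bot_iff_exists_ne_one]
  refine ⟨⟨S.xm 1, S.xm_mem 1⟩, fun h => ?_⟩
  have h1 : S.opp.xp 1 = 1 := congrArg Subtype.val h
  exact one_ne_zero (S.opp.xp_inj 1 h1)

theorem A_comm_E (C : Cfg p m S1 S2 z z3 Y Y') : ∀ a ∈ S1.A ⊔ S1.A',
    ∀ b ∈ XX3 S1 S2 z Y (z3 * z) ⊔ XX3 S1 S2 z Y' (z3 * z), a * b = b * a := by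
  intro a ha b hb
  have hb' : b ∈ CC S1 S2 := (sup_le (XX3_le _ _ _ _ _) (XX3_le _ _ _ _ _)) hb
  have h1 : S1.A ⊔ S1.A' ≤ Subgroup.centralizer {b} := by
    apply sup_le
    · rintro _ ⟨t, rfl⟩
      exact Subgroup.mem_centralizer_singleton_iff.2 (hb'.1 t)
    · rintro _ ⟨t, rfl⟩
      exact Subgroup.mem_centralizer_singleton_iff.2 (hb'.2.1 t)
  exact Subgroup.mem_centralizer_singleton_iff.1 (h1 ha)

theorem exists_pair2 (C : Cfg p m S1 S2 z z3 Y Y') : ∃ Z, PairData 2 S1.A S1.A'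
    (XX3 S1 S2 z Y (z3 * z)) (XX3 S1 S2 z Y' (z3 * z)) Z := by
  refine Nodes.ChartOfCls.pairData_comm (A_comm_E C) ?_ ?_
  · intro a ha ha1
    obtain ⟨t, -, x, hx, -, h1, h3⟩ := sl_mu S1 ha ha1
    exact ⟨x, hx, x, hx, cj_eq_of_onto h1, cj_eq_of_onto h3⟩
  · intro a ha ha1
    obtain ⟨x, hx, y, hy, h1, h3⟩ := Ker.hmu C a ha ha1
    exact ⟨x, hx, y, hy, cj_eq_of_onto h1, cj_eq_of_onto h3⟩

/-- **The root group datum of type `B₃`.** -/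
theorem exists_rgd3 (C : Cfg p m S1 S2 z z3 Y Y') (hp2 : p ≠ 2) {W : Type*} [Group W] [Finite W]
    (cs : CoxeterSystem (CoxeterMatrix.B 3) W) :
    ∃ (T : Subgroup G) (n : Fin 3 → G) (X : (Fin 3 → ℤ) → Subgroup G),
      RGD cs (Nodes.TypeC.isCartan 3) p T n X ∧
      (∀ i, X (sr i) = Xp S1 S2 z z3 Y Y' i) ∧ (∀ i, X (-sr i) = Xm S1 S2 z z3 Y Y' i) ∧
      (∀ i, SwapMu (Xp S1 S2 z z3 Y Y' i) (Xm S1 S2 z z3 Y Y' i) (n i)) ∧
      T ≤ ⨆ i, (Xp S1 S2 z z3 Y Y' i ⊔ Xm S1 S2 z z3 Y Y' i) ∧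
      ∀ x, IsRoot cs (Nodes.TypeC.isCartan 3) x →
        X x ≤ ⨆ i, (Xp S1 S2 z z3 Y Y' i ⊔ Xm S1 S2 z z3 Y Y' i) := by
  obtain ⟨Z2, hZ2⟩ := exists_pair2 C
  refine Rgd.exists_rgd cs (Nodes.TypeC.isCartan 3) (Xp S1 S2 z z3 Y Y') (Xm S1 S2 z z3 Y Y')
    ?_ ?_ ?_ ?_ ?_
  · intro i j hij
    fin_cases i <;> fin_cases j
    · exact absurd rfl hij
    · left
      exact ⟨_, C.pairData3⟩
    · left
      exact ⟨Z2, hZ2⟩
    · right
      exact ⟨_, C.pairData3⟩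
    · exact absurd rfl hij
    · left
      exact ⟨_, C.pairData4⟩
    · right
      exact ⟨Z2, hZ2⟩
    · right
      exact ⟨_, C.pairData4⟩
    · exact absurd rfl hij
  · intro i
    fin_cases i
    · exact A_ne C.D C.h2
    · exact ne_B C.D C.h2
    · exact Ker.XX3_ne C
  · intro i
    fin_cases i
    · exact A'_ne_bot S1
    · obtain ⟨x, hx, hx1⟩ := PP_ne_bot C.D.opp2 C.h2
      exact (Subgroup.ne_bot_iff_exists_ne_one).2 ⟨⟨x, hx⟩, fun h => hx1 (congrArg Subtype.val h)⟩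
    · obtain ⟨x, hx, hx1⟩ := Ker.XX3_ne_bot C.symm
      exact (Subgroup.ne_bot_iff_exists_ne_one).2 ⟨⟨x, hx⟩, fun h => hx1 (congrArg Subtype.val h)⟩
  · intro i
    fin_cases i
    · exact A_isPGroup S1
    · intro x
      refine ⟨1, Subtype.ext ?_⟩
      rw [pow_one]
      exact MG_pow C.D.opp1 (PP_le _ _ x.2)
    · exact XX3_isPGroup C.Z C.D C.h2 C.I
  · intro i
    obtain ⟨g, hg⟩ := exists_gel C.Z C.D C.h2 C.I
    fin_cases i
    · exact TM_sl S1 (A_ne C.D C.h2)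
    · exact TM_conj hg.a1 hg.a1' (TM_sl S1 (A_ne C.D C.h2))
    · exact Ker.TM_XX3 C hp2

end Cfsg.Agent.Cit.OmB3.Out
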