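import Cfsg.Agent.Cit.OmB3.Ethree

/-!
# The rank two systems: `PairData 3` for `e₁ - e₂, e₂ - e₃`, `PairData 4` for `e₂ - e₃, e₃`
-/

set_option autoImplicit false
set_option linter.unusedSectionVars false
set_option linter.unusedVariables false
set_option linter.dupNamespace false

namespace Cfsg.Agent.Cit.OmB3.Pairs

open scoped commutatorElement
open Module
open Cfsg.Agent.RootAmalgam (Onto Maps PairData mu_unique)
open Cfsg.Agent.Cit.LemmaATwo Cfsg.Agent.Cit.OmB3.Side Cfsg.Agent.Cit.OmB3.Siegel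
  Cfsg.Agent.Cit.OmB3.Form Cfsg.Agent.Cit.OmB3.Big Cfsg.Agent.Cit.OmB3.Split
  Cfsg.Agent.Cit.OmB3.Third Cfsg.Agent.Cit.OmB3.Atwo Cfsg.Agent.Cit.OmB3.Mu
  Cfsg.Agent.Cit.OmB3.Zthree Cfsg.Agent.Cit.OmB3.Short Cfsg.Agent.Cit.OmB3.Ethree
open Cfsg.Agent.Cit.OmB3.Form.Four (MG)

variable {G : Type*} [Group G] {F : Type*} [Field F]
variable {p m : ℕ} {S1 S2 : SLSys F G} {z z3 : G} {Y Y' : Subgroup G}
  [Finite G] [Finite F] [Fact p.Prime] [CharP F p]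

theorem Inp.opp2 (I : Inp S1 S2 z) (D : Four S1 S2 z) : Inp S1 S2.opp z :=
  Inp.swap (Inp.opp1 (Inp.swap I) D.swap)

/-- All data together. -/
structure Cfg (p m : ℕ) (S1 S2 : SLSys F G) (z z3 : G) (Y Y' : Subgroup G) : Prop where
  D : Big p m S1 S2 z Y Y'
  h2 : (2 : F) ≠ 0
  I : Inp S1 S2 z
  Z : Z3 S1 S2 z Y Y' z3

theorem exists_cfg (D : Big p m S1 S2 z Y Y') (h2 : (2 : F) ≠ 0) (I : Inp S1 S2 z) :
    ∃ z3, Cfg p m S1 S2 z z3 Y Y' := by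
  obtain ⟨z3, Z⟩ := exists_z3 D h2 I
  exact ⟨z3, D, h2, I, Z⟩

namespace Cfg

variable (C : Cfg p m S1 S2 z z3 Y Y')

include C

theorem symm : Cfg p m S1 S2 z z3 Y' Y := ⟨C.D.symm, C.h2, C.I, C.Z.symm⟩

theorem neg : Cfg p m S1.opp S2.opp z z3 Y' Y :=
  ⟨C.D.opp1.opp2.symm, C.h2, Inp.opp2 (C.I.opp1 C.D.four) C.D.four.opp1, Z3.opp C.Z⟩

omit C in
theorem XX3_opp (S1 S2 : SLSys F G) (z : G) (Y : Subgroup G) (zp : G) :
    XX3 S1.opp S2.opp z Y zp = XX3 S1 S2 z Y zp := by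
  have h : MS (PP (MG S1 S2.opp z) Y) (PP (MG S1.opp S2 z) Y) zp =
      MS (PP (MG S1.opp S2 z) Y) (PP (MG S1 S2.opp z) Y) zp := by
    unfold MS
    rw [MM_symm]
  unfold XX3
  rw [h, CC_opp1, CC_opp2]
  rfl

/-- The negative side: `n` maps the short root group `-e₂` onto `X_{-e₃}`. -/
theorem onto_m2_m3 {n : G} (hn : Nel S1 S2 z Y Y' n) :
    Onto n (MZ (MG S1 S2.opp z) Y Y') (XX3 S1 S2 z Y' (z3 * z)) := by
  have h := onto_e2_e3 C.neg.Z C.neg.D C.h2 C.neg.I (Nel.opp hn)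
  rw [XX3_opp, MZ_symm] at h
  exact h

theorem onto_m3_m2 {n : G} (hn : Nel S1 S2 z Y Y' n) :
    Onto n (XX3 S1 S2 z Y' (z3 * z)) (MZ (MG S1 S2.opp z) Y Y') := by
  have h := onto_e3_e2 C.neg.Z C.neg.D C.h2 C.neg.I (Nel.opp hn)
  rw [XX3_opp, MZ_symm] at h
  exact h

/-- The Weyl elements for `e₃`. -/
structure N3 (S1 S2 : SLSys F G) (z z3 : G) (Y Y' : Subgroup G) (n : G) : Prop where
  cc : n ∈ CC S1 S2
  a : Onto n (PP (MG S1.opp S2 z) Y) (PP (MG S1.opp S2 z) Y')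
  a' : Onto n (PP (MG S1.opp S2 z) Y') (PP (MG S1.opp S2 z) Y)
  b : Onto n (MZ (MG S1.opp S2 z) Y Y') (MZ (MG S1.opp S2 z) Y Y')

omit C in
theorem N3.symm {n : G} (h : N3 S1 S2 z z3 Y Y' n) : N3 S1 S2 z z3 Y' Y n :=
  ⟨h.cc, h.a', h.a, by rw [MZ_symm]; exact h.b⟩

theorem exists_N3 {a : G} (ha : a ∈ XX3 S1 S2 z Y' (z3 * z)) (ha1 : a ≠ 1) :
    ∃ e ∈ XX3 S1 S2 z Y (z3 * z), N3 S1 S2 z z3 Y Y' (e * a * e) := by
  obtain ⟨f, f', R⟩ := C.D.opp1.exists_pr C.h2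
  have hcc : ∀ {Y : Subgroup G}, XX3 S1 S2 z Y (z3 * z) ≤ CC S1.opp S2 := by
    intro Y
    rw [CC_opp1]
    exact XX3_le _ _ _ _ _
  have hfa : ∀ {Y Y' : Subgroup G}, Cfg p m S1 S2 z z3 Y Y' → ∀ e ∈ XX3 S1 S2 z Y (z3 * z),
      (∀ x ∈ MG S1.opp S2 z, e * x = x * e) → e = 1 := by
    intro Y Y' C e he h
    apply XX3_faithful C.Z C.D C.h2 C.I he
    have hw1 : ac S1.w e = e := ac_of_comm (w1_CC (XX3_le _ _ _ _ _ he))
    have h5 := (comm_onto (onto_w1' C.D) (x := e)).2 fun y hy => (h y hy).symm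
    rw [hw1] at h5
    exact fun y hy => (h5 y hy).symm
  obtain ⟨e, he, h1, h3, h4⟩ := exists_mu R (E := XX3 S1 S2 z Y (z3 * z))
    (E' := XX3 S1 S2 z Y' (z3 * z)) hcc hcc (XX3_isPGroup C.Z C.D C.h2 C.I)
    (XX3_isPGroup C.symm.Z C.symm.D C.h2 C.I)
    (fun e he x hx => ((XX3_comm C.Z C.D C.h2 C.I he).2.1 x hx).symm)
    (fun e he x hx => ((XX3_comm C.symm.Z C.symm.D C.h2 C.I he).2.1 x hx).symm)
    (hfa C) (hfa C.symm) (XX3_card C.Z C.D C.h2 C.I).ge ha ha1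
  exact ⟨e, he, mul_mem (mul_mem (XX3_le _ _ _ _ _ he) (XX3_le _ _ _ _ _ ha))
    (XX3_le _ _ _ _ _ he), h1, h3, h4⟩

omit C in
/-- conjugation by an element commuting with `g` -/
theorem onto_conj {g k : G} (hk : g * k = k * g) {A B A1 B1 : Subgroup G} (h : Onto k A B)
    (hA : Onto g A A1) (hB : Onto g B B1) : Onto k A1 B1 := by
  have h1 := (hB.mul h).mul hA.inv
  have e : g * k * g⁻¹ = k := by rw [hk]; group
  rwa [e] at h1

variable {n : G} (hn : N3 S1 S2 z z3 Y Y' n)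

include hn

omit hn in
/-- `(-,+)` to `(+,-)` -/
theorem onto_ww : Onto (S2.w * S1.w) (PP (MG S1.opp S2 z) Y) (PP (MG S1 S2.opp z) Y) :=
  (onto_PP (onto_w2_M C.D) (onto_w2_Y C.D)).mul (onto_PP (onto_w1' C.D) (onto_w1_Y C.D))

omit hn in
theorem onto_ww_MZ : Onto (S2.w * S1.w) (MZ (MG S1.opp S2 z) Y Y') (MZ (MG S1 S2.opp z) Y Y') :=
  (onto_MZ (onto_w2_M C.D) (onto_w2_Y C.D) (onto_w2_Y C.D.symm)).mul
    (onto_MZ (onto_w1' C.D) (onto_w1_Y C.D) (onto_w1_Y C.D.symm))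

omit C in
theorem ww_comm : S2.w * S1.w * n = n * (S2.w * S1.w) := by
  have e1 : Commute S1.w n := w1_CC hn.cc
  have e2 : Commute S2.w n := w2_CC hn.cc
  exact (e2.mul_left e1)

theorem N3_c : Onto n (PP (MG S1 S2.opp z) Y) (PP (MG S1 S2.opp z) Y') :=
  onto_conj (ww_comm hn) hn.a C.onto_ww C.symm.onto_ww

theorem N3_c' : Onto n (PP (MG S1 S2.opp z) Y') (PP (MG S1 S2.opp z) Y) :=
  onto_conj (ww_comm hn) hn.a' C.symm.onto_ww C.onto_ww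

theorem N3_d : Onto n (MZ (MG S1 S2.opp z) Y Y') (MZ (MG S1 S2.opp z) Y Y') :=
  onto_conj (ww_comm hn) hn.b C.onto_ww_MZ C.onto_ww_MZ

omit hn in
theorem uniq_B : ∀ x ∈ PP (MG S1.opp S2 z) Y' ⊔ PP (MG S1 S2.opp z) Y, x * x = 1 →
    x = 1 ∨ x = z3 * z := by
  obtain ⟨g, hg⟩ := exists_gel C.Z C.D C.h2 C.I
  exact uniq_conj hg.a1 hg.a1' hg.z C.I.uniq1

omit hn in
theorem zp_mem : z3 * z ∈ PP (MG S1.opp S2 z) Y' ⊔ PP (MG S1 S2.opp z) Y := by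
  obtain ⟨n, hn⟩ := exists_n C.D C.h2
  rw [← C.Z.nn C.D C.h2 hn]
  exact mul_mem hn.mem hn.mem

theorem N3_zp : ac n (z3 * z) = z3 * z := by
  have h1 := C.symm.zp_mem
  have h3 := (onto_sup hn.a (C.N3_c' hn)).mem h1
  rcases C.uniq_B _ h3 (by
    have := C.Z.zp_sq C.D C.h2
    calc n * (z3 * z) * n⁻¹ * (n * (z3 * z) * n⁻¹) = n * (z3 * z * (z3 * z)) * n⁻¹ := by group
      _ = 1 := by rw [this]; group) with h | h
  · exfalso
    apply C.Z.zp_ne C.D C.h2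
    have e : z3 * z = n⁻¹ * (n * (z3 * z) * n⁻¹) * n := by group
    rw [e, h]; group
  · exact h

theorem N3_e : Onto n (XX3 S1 S2 z Y (z3 * z)) (XX3 S1 S2 z Y' (z3 * z)) := by
  obtain ⟨g, hg⟩ := exists_gel C.Z C.D C.h2 C.I
  obtain ⟨g', hg'⟩ := exists_gel C.symm.Z C.symm.D C.h2 C.I
  intro x
  show ac n x ∈ _ ↔ _
  rw [mem_XX3 C.D C.h2 hg, mem_XX3 C.symm.D C.h2 hg']
  have e1 : ac n x ∈ MM (PP (MG S1 S2.opp z) Y') (PP (MG S1.opp S2 z) Y') (z3 * z) ↔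
      x ∈ MM (PP (MG S1 S2.opp z) Y) (PP (MG S1.opp S2 z) Y) (z3 * z) :=
    mem_MM_ac (C.N3_c hn) hn.a (C.N3_zp hn)
  have e2 : ac n x ∈ CC S1 S2 ↔ x ∈ CC S1 S2 := by
    constructor
    · intro h
      have h1 := mul_mem (mul_mem (inv_mem hn.cc) h) hn.cc
      have e : n⁻¹ * ac n x * n = x := by unfold ac; group
      rwa [e] at h1
    · intro h
      exact mul_mem (mul_mem hn.cc h) (inv_mem hn.cc)
  rw [e1, e2]

theorem N3_e' : Onto n (XX3 S1 S2 z Y' (z3 * z)) (XX3 S1 S2 z Y (z3 * z)) :=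
  C.symm.N3_e hn.symm

end Cfg

/-! ### The family of type `B₂` -/

section fam

variable (A1 A2 A3 A4 A5 A6 A7 A0 : Subgroup G)

/-- A family of period eight. -/
def Z8 (k : ℤ) : Subgroup G :=
  if k % 8 = 1 then A1 else if k % 8 = 2 then A2 else if k % 8 = 3 then A3 else if k % 8 = 4 then A4
  else if k % 8 = 5 then A5 else if k % 8 = 6 then A6 else if k % 8 = 7 then A7 else A0

variable {A1 A2 A3 A4 A5 A6 A7 A0}

theorem Z8_1 {k : ℤ} (h : k % 8 = 1) : Z8 A1 A2 A3 A4 A5 A6 A7 A0 k = A1 := by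
  unfold Z8; rw [if_pos h]
theorem Z8_2 {k : ℤ} (h : k % 8 = 2) : Z8 A1 A2 A3 A4 A5 A6 A7 A0 k = A2 := by
  unfold Z8; rw [if_neg (by omega), if_pos h]
theorem Z8_3 {k : ℤ} (h : k % 8 = 3) : Z8 A1 A2 A3 A4 A5 A6 A7 A0 k = A3 := by
  unfold Z8; rw [if_neg (by omega), if_neg (by omega), if_pos h]
theorem Z8_4 {k : ℤ} (h : k % 8 = 4) : Z8 A1 A2 A3 A4 A5 A6 A7 A0 k = A4 := by
  unfold Z8; rw [if_neg (by omega), if_neg (by omega), if_neg (by omega), if_pos h]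
theorem Z8_5 {k : ℤ} (h : k % 8 = 5) : Z8 A1 A2 A3 A4 A5 A6 A7 A0 k = A5 := by
  unfold Z8
  rw [if_neg (by omega), if_neg (by omega), if_neg (by omega), if_neg (by omega), if_pos h]
theorem Z8_6 {k : ℤ} (h : k % 8 = 6) : Z8 A1 A2 A3 A4 A5 A6 A7 A0 k = A6 := by
  unfold Z8
  rw [if_neg (by omega), if_neg (by omega), if_neg (by omega), if_neg (by omega), if_neg (by omega),
    if_pos h]
theorem Z8_7 {k : ℤ} (h : k % 8 = 7) : Z8 A1 A2 A3 A4 A5 A6 A7 A0 k = A7 := by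
  unfold Z8
  rw [if_neg (by omega), if_neg (by omega), if_neg (by omega), if_neg (by omega), if_neg (by omega),
    if_neg (by omega), if_pos h]
theorem Z8_0 {k : ℤ} (h : k % 8 = 0) : Z8 A1 A2 A3 A4 A5 A6 A7 A0 k = A0 := by
  unfold Z8
  rw [if_neg (by omega), if_neg (by omega), if_neg (by omega), if_neg (by omega), if_neg (by omega),
    if_neg (by omega), if_neg (by omega)]

theorem mod8 (k : ℤ) : k % 8 = 1 ∨ k % 8 = 2 ∨ k % 8 = 3 ∨ k % 8 = 4 ∨ k % 8 = 5 ∨ k % 8 = 6 ∨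
    k % 8 = 7 ∨ k % 8 = 0 := by omega

end fam

namespace Cfg

variable (C : Cfg p m S1 S2 z z3 Y Y')

include C

/-- **The rank two system of type `B₂`.** -/
theorem pairData4 : PairData 4 (PP (MG S1.opp S2 z) Y') (PP (MG S1 S2.opp z) Y)
    (XX3 S1 S2 z Y (z3 * z)) (XX3 S1 S2 z Y' (z3 * z))
    (Z8 (PP (MG S1.opp S2 z) Y') (MZ (MG S1.opp S2 z) Y Y') (PP (MG S1.opp S2 z) Y)
      (XX3 S1 S2 z Y (z3 * z)) (PP (MG S1 S2.opp z) Y) (MZ (MG S1 S2.opp z) Y Y')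
      (PP (MG S1 S2.opp z) Y') (XX3 S1 S2 z Y' (z3 * z))) where
  per k := by
    push_cast
    rcases mod8 k with h | h | h | h | h | h | h | h
    · rw [Z8_1 h, Z8_1 (by omega)]
    · rw [Z8_2 h, Z8_2 (by omega)]
    · rw [Z8_3 h, Z8_3 (by omega)]
    · rw [Z8_4 h, Z8_4 (by omega)]
    · rw [Z8_5 h, Z8_5 (by omega)]
    · rw [Z8_6 h, Z8_6 (by omega)]
    · rw [Z8_7 h, Z8_7 (by omega)]
    · rw [Z8_0 h, Z8_0 (by omega)]
  z_one := Z8_1 (by norm_num)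
  z_m := Z8_4 (by norm_num)
  z_m1 := Z8_5 (by norm_num)
  z_zero := Z8_0 (by norm_num)
  comm := by
    intro k l hk hkl hl x hx y hy
    push_cast at hl
    have triv : x * y = y * x → ⁅x, y⁆ ∈ ⨆ r ∈ Set.Ioo k l,
        (Z8 (PP (MG S1.opp S2 z) Y') (MZ (MG S1.opp S2 z) Y Y') (PP (MG S1.opp S2 z) Y)
      (XX3 S1 S2 z Y (z3 * z)) (PP (MG S1 S2.opp z) Y) (MZ (MG S1 S2.opp z) Y Y')
      (PP (MG S1 S2.opp z) Y') (XX3 S1 S2 z Y' (z3 * z))) r := by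
      intro h
      rw [commutatorElement_eq_one_iff_mul_comm.2 h]
      exact one_mem _
    have hM : ∀ x ∈ MZ (MG S1.opp S2 z) Y Y', x ∈ MG S1.opp S2 z :=
      fun x hx => MZ_le' C.D.opp1 C.h2 hx
    have hP : ∀ {Y : Subgroup G}, ∀ x ∈ PP (MG S1.opp S2 z) Y, x ∈ MG S1.opp S2 z :=
      fun x hx => PP_le _ _ hx
    have hcases : (k = 1 ∧ l = 2) ∨ (k = 1 ∧ l = 3) ∨ (k = 1 ∧ l = 4) ∨ (k = 2 ∧ l = 3) ∨
        (k = 2 ∧ l = 4) ∨ (k = 3 ∧ l = 4) := by omega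
    rcases hcases with ⟨rfl, rfl⟩ | ⟨rfl, rfl⟩ | ⟨rfl, rfl⟩ | ⟨rfl, rfl⟩ | ⟨rfl, rfl⟩ | ⟨rfl, rfl⟩
    · rw [Z8_1 (by norm_num)] at hx
      rw [Z8_2 (by norm_num)] at hy
      exact triv (MG_ab C.D.opp1 (hP x hx) (hM y hy))
    · rw [Z8_1 (by norm_num)] at hx
      rw [Z8_3 (by norm_num)] at hy
      exact triv (MG_ab C.D.opp1 (hP x hx) (hP y hy))
    · rw [Z8_1 (by norm_num)] at hx
      rw [Z8_4 (by norm_num)] at hy
      obtain ⟨f, f', R⟩ := C.D.opp1.exists_pr C.h2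
      have hy' : y ∈ CC S1.opp S2 := by rw [CC_opp1]; exact XX3_le _ _ _ _ _ hy
      obtain ⟨b, hb, a, ha, h1⟩ := act_PP' R hy' (k := 1)
        (by rw [pow_one]; exact XX3_pow C.Z C.D C.h2 C.I hy)
        (fun a ha => ((XX3_comm C.Z C.D C.h2 C.I hy).2.1 a ha).symm) hx
      have h3 : ⁅x, y⁆ = b⁻¹ * a⁻¹ := by
        have e1 : ⁅x, y⁆ = x * (ac y x)⁻¹ := by
          rw [commutatorElement_def]; unfold ac; group
        have e2 : b * a = a * b := MG_ab C.D.opp1 (hM b hb) (hP a ha)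
        have e3 : x * (b * a) = (b * a) * x :=
          MG_ab C.D.opp1 (hP x hx) (mul_mem (hM b hb) (hP a ha))
        rw [e1, h1, mul_assoc x b a, e3, mul_inv_rev, mul_inv_cancel_left, e2, mul_inv_rev]
      rw [h3]
      refine mul_mem (inv_mem ?_) (inv_mem ?_)
      · refine Subgroup.mem_iSup_of_mem 2 (Subgroup.mem_iSup_of_mem ⟨by norm_num, by norm_num⟩ ?_)
        rw [Z8_2 (by norm_num)]; exact hb
      · refine Subgroup.mem_iSup_of_mem 3 (Subgroup.mem_iSup_of_mem ⟨by norm_num, by norm_num⟩ ?_)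
        rw [Z8_3 (by norm_num)]; exact ha
    · rw [Z8_2 (by norm_num)] at hx
      rw [Z8_3 (by norm_num)] at hy
      exact triv (MG_ab C.D.opp1 (hM x hx) (hP y hy))
    · rw [Z8_2 (by norm_num)] at hx
      rw [Z8_4 (by norm_num)] at hy
      obtain ⟨f, f', R⟩ := C.D.opp1.exists_pr C.h2
      have hy' : y ∈ CC S1.opp S2 := by rw [CC_opp1]; exact XX3_le _ _ _ _ _ hy
      obtain ⟨a, ha, h1⟩ := act_MZ R hy' (k := 1)
        (by rw [pow_one]; exact XX3_pow C.Z C.D C.h2 C.I hy)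
        (fun a ha => ((XX3_comm C.Z C.D C.h2 C.I hy).2.1 a ha).symm) hx
      have h3 : ⁅x, y⁆ = a⁻¹ := by
        have e1 : ⁅x, y⁆ = x * (ac y x)⁻¹ := by
          rw [commutatorElement_def]; unfold ac; group
        have e3 : x * a = a * x := MG_ab C.D.opp1 (hM x hx) (hP a ha)
        rw [e1, h1, e3, mul_inv_rev, mul_inv_cancel_left]
      rw [h3]
      refine inv_mem ?_
      refine Subgroup.mem_iSup_of_mem 3 (Subgroup.mem_iSup_of_mem ⟨by norm_num, by norm_num⟩ ?_)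
      rw [Z8_3 (by norm_num)]; exact ha
    · rw [Z8_3 (by norm_num)] at hx
      rw [Z8_4 (by norm_num)] at hy
      exact triv ((XX3_comm C.Z C.D C.h2 C.I hy).2.1 x hx)
  mu := by
    intro a ha ha1
    obtain ⟨x, hx, hn⟩ := exists_nel C.D C.h2 ha ha1
    refine ⟨x, hx, x, hx, fun k y => ?_⟩
    push_cast
    have c1 : Onto (x * a * x) (PP (MG S1.opp S2 z) Y) (PP (MG S1.opp S2 z) Y) :=
      nel_onto C.Z C.D C.h2 hn le_sup_left
    have c2 : Onto (x * a * x) (PP (MG S1 S2.opp z) Y') (PP (MG S1 S2.opp z) Y') :=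
      nel_onto C.Z C.D C.h2 hn le_sup_right
    rcases mod8 k with h | h | h | h | h | h | h | h
    · rw [Z8_1 h, Z8_5 (by omega)]; exact hn.b y
    · rw [Z8_2 h, Z8_4 (by omega)]; exact onto_e2_e3 C.Z C.D C.h2 C.I hn y
    · rw [Z8_3 h, Z8_3 (by omega)]; exact c1 y
    · rw [Z8_4 h, Z8_2 (by omega)]; exact onto_e3_e2 C.Z C.D C.h2 C.I hn y
    · rw [Z8_5 h, Z8_1 (by omega)]; exact hn.bb y
    · rw [Z8_6 h, Z8_0 (by omega)]; exact C.onto_m2_m3 hn y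
    · rw [Z8_7 h, Z8_7 (by omega)]; exact c2 y
    · rw [Z8_0 h, Z8_6 (by omega)]; exact C.onto_m3_m2 hn y
  mu' := by
    intro a ha ha1
    obtain ⟨e, he, hn⟩ := C.exists_N3 ha ha1
    refine ⟨e, he, e, he, fun k y => ?_⟩
    push_cast
    rcases mod8 k with h | h | h | h | h | h | h | h
    · rw [Z8_1 h, Z8_3 (by omega)]; exact hn.a' y
    · rw [Z8_2 h, Z8_2 (by omega)]; exact hn.b y
    · rw [Z8_3 h, Z8_1 (by omega)]; exact hn.a y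
    · rw [Z8_4 h, Z8_0 (by omega)]; exact C.N3_e hn y
    · rw [Z8_5 h, Z8_7 (by omega)]; exact C.N3_c hn y
    · rw [Z8_6 h, Z8_6 (by omega)]; exact C.N3_d hn y
    · rw [Z8_7 h, Z8_5 (by omega)]; exact C.N3_c' hn y
    · rw [Z8_0 h, Z8_4 (by omega)]; exact C.N3_e' hn y

/-- The rank two system of type `A₂`. -/
theorem pairData3 : PairData 3 S1.A S1.A' (PP (MG S1.opp S2 z) Y') (PP (MG S1 S2.opp z) Y)
    (ZZ S1.A (PP (MG S1.opp S2 z) Y') (PP (MG S1 S2 z) Y') S1.A' (PP (MG S1 S2.opp z) Y)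
      (PP (MG S1.opp S2.opp z) Y)) := (atwo C.D C.h2).pairData

end Cfg

end Cfsg.Agent.Cit.OmB3.Pairs
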