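import Cfsg.Agent.Cit.OmB3.Pairs
import Cfsg.Agent.RootAmalgam.ToSys

/-!
# The root group datum of type `B₃`

* `TM X Xn` : the group generated by the quotients `n⁻¹ n'` of the elements `n = x a y` exchanging `X`, `Xn`;
* `exists_rgd` : variant of `RootAmalgam.exists_rgd`, only `TM (X i) (Xn i)` has to be of order prime to `p`;
* `TM_sl`, `TM_conj`, `TM_XX3` : this holds for the three nodes.
-/

set_option autoImplicit false
set_option linter.unusedSectionVars false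
set_option linter.unusedVariables false
set_option linter.dupNamespace false

namespace Cfsg.Agent.Cit.OmB3.Rgd

open scoped commutatorElement
open Module
open Cfsg.Agent.RootAmalgam (Onto Maps PairData mu_unique RD)
open Cfsg.Agent.Cit.LemmaATwo Cfsg.Agent.Cit.OmB3.Side Cfsg.Agent.Cit.OmB3.Siegel
  Cfsg.Agent.Cit.OmB3.Form Cfsg.Agent.Cit.OmB3.Big Cfsg.Agent.Cit.OmB3.Split
  Cfsg.Agent.Cit.OmB3.Third Cfsg.Agent.Cit.OmB3.Atwo Cfsg.Agent.Cit.OmB3.Mu
  Cfsg.Agent.Cit.OmB3.Zthree Cfsg.Agent.Cit.OmB3.Short Cfsg.Agent.Cit.OmB3.Ethree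
  Cfsg.Agent.Cit.OmB3.Pairs
open Cfsg.Agent.Cit.OmB3.Form.Four (MG)

section general

variable {G : Type*} [Group G] {X Xn X1 Xn1 : Subgroup G}

/-- An element `x a y` exchanging `X` and `Xn`. -/
structure SwapMu (X Xn : Subgroup G) (n : G) : Prop where
  form : ∃ a ∈ Xn, a ≠ 1 ∧ ∃ x ∈ X, ∃ y ∈ X, n = x * a * y
  pos : Onto n X Xn
  neg : Onto n Xn X

/-- The group generated by the quotients of the exchanging elements. -/
def TM (X Xn : Subgroup G) : Subgroup G :=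
  Subgroup.closure {y | ∃ n n', SwapMu X Xn n ∧ SwapMu X Xn n' ∧ y = n⁻¹ * n'}

theorem SwapMu.conj {n g : G} (h : SwapMu X1 Xn1 n) (hX : Onto g X X1) (hXn : Onto g Xn Xn1) :
    SwapMu X Xn (g⁻¹ * n * g) where
  form := by
    obtain ⟨a, ha, ha1, x, hx, y, hy, rfl⟩ := h.form
    refine ⟨g⁻¹ * a * g, hXn.mem_inv ha, ?_, g⁻¹ * x * g, hX.mem_inv hx, g⁻¹ * y * g, hX.mem_inv hy,
      by group⟩
    intro h1
    apply ha1
    have : a = g * (g⁻¹ * a * g) * g⁻¹ := by group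
    rw [this, h1]; group
  pos := by
    have := (hXn.inv.mul h.pos).mul hX
    exact this
  neg := by
    have := (hX.inv.mul h.neg).mul hXn
    exact this

theorem TM_le_conj {g : G} (hX : Onto g X X1) (hXn : Onto g Xn Xn1) :
    TM X1 Xn1 ≤ (TM X Xn).map (MulAut.conj g).toMonoidHom := by
  unfold TM
  rw [Subgroup.closure_le]
  rintro y ⟨n, n', h, h', rfl⟩
  refine ⟨g⁻¹ * (n⁻¹ * n') * g, ?_, ?_⟩
  · refine Subgroup.subset_closure ⟨_, _, h.conj hX hXn, h'.conj hX hXn, by group⟩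
  · simp only [MulEquiv.coe_toMonoidHom, MulAut.conj_apply]
    group

theorem TM_conj [Finite G] {p : ℕ} {g : G} (hX : Onto g X X1) (hXn : Onto g Xn Xn1)
    (h : (Nat.card (TM X Xn)).Coprime p) : (Nat.card (TM X1 Xn1)).Coprime p := by
  refine Nat.Coprime.coprime_dvd_left (Subgroup.card_dvd_of_le (TM_le_conj hX hXn)) ?_
  rwa [Subgroup.card_map_of_injective (MulAut.conj g).injective]

/-- An abelian Sylow `p`-subgroup meets `Z(G) ∩ G'` trivially (transfer). -/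
theorem eq_one_of_center_commutator [Finite G] {p : ℕ} [Fact p.Prime] (P : Sylow p G)
    (hP : ∀ a ∈ (P : Subgroup G), ∀ b ∈ (P : Subgroup G), a * b = b * a) {z : G}
    (hz : z ∈ (P : Subgroup G)) (hzc : z ∈ Subgroup.center G) (hzd : z ∈ commutator G) : z = 1 := by
  have key : ∀ (k : ℕ) (g₀ : G), g₀⁻¹ * z ^ k * g₀ ∈ (P : Subgroup G) →
      g₀⁻¹ * z ^ k * g₀ = z ^ k := by
    intro k g₀ _
    have h1 : z ^ k ∈ Subgroup.center G := pow_mem hzc k
    rw [mul_assoc, ← Subgroup.mem_center_iff.mp h1 g₀, inv_mul_cancel_left]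
  let _ : CommGroup (P : Subgroup G) := { (inferInstance : Group (P : Subgroup G)) with
    mul_comm := fun a b => Subtype.ext (hP a a.2 b b.2) }
  have h1 := MonoidHom.transfer_eq_pow (H := (P : Subgroup G)) (MonoidHom.id (P : Subgroup G)) z key
  have h2 : MonoidHom.transfer (H := (P : Subgroup G)) (MonoidHom.id (P : Subgroup G)) z = 1 :=
    Abelianization.commutator_subset_ker _ hzd
  rw [h2] at h1
  have h3 : z ^ (P : Subgroup G).index = 1 := by
    have := congrArg Subtype.val h1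
    simpa using this.symm
  obtain ⟨n, hn⟩ := P.2 ⟨z, hz⟩
  have h4 : z ^ p ^ n = 1 := by
    have := congrArg Subtype.val hn
    simpa using this
  have hcop : (p ^ n).Coprime (P : Subgroup G).index := by
    apply Nat.Coprime.pow_left
    exact (Nat.Prime.coprime_iff_not_dvd Fact.out).mpr P.not_dvd_index
  have h5 := Nat.dvd_gcd (orderOf_dvd_of_pow_eq_one h4) (orderOf_dvd_of_pow_eq_one h3)
  rw [hcop] at h5
  exact orderOf_eq_one_iff.mp (Nat.dvd_one.mp h5)

/-- A group whose `p`-elements are central, centralised by an automorphism which inverts generators, has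
order prime to `p`, `p` odd. -/
theorem coprime_of_inv [Finite G] {p : ℕ} [Fact p.Prime] (hp2 : p ≠ 2)
    (hc : ∀ x : G, (∃ k, x ^ p ^ k = 1) → x ∈ Subgroup.center G) (σ : G →* G) (S : Set G)
    (hS : Subgroup.closure S = ⊤) (hσ : ∀ s ∈ S, σ s = s⁻¹)
    (hfix : ∀ x : G, (∃ k, x ^ p ^ k = 1) → σ x = x) : (Nat.card G).Coprime p := by
  obtain ⟨P⟩ : Nonempty (Sylow p G) := inferInstance
  have hPe : ∀ x ∈ (P : Subgroup G), ∃ k, x ^ p ^ k = 1 := by
    intro x hx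
    obtain ⟨k, hk⟩ := P.2 ⟨x, hx⟩
    exact ⟨k, congrArg Subtype.val hk⟩
  have hP1 : (P : Subgroup G) = ⊥ := by
    rw [Subgroup.eq_bot_iff_forall]
    intro x hx
    have hxc := hc x (hPe x hx)
    refine eq_one_of_center_commutator P ?_ hx hxc ?_
    · intro a ha b hb
      exact (Subgroup.mem_center_iff.1 (hc a (hPe a ha)) b).symm
    · -- `σ` inverts the abelianization
      have h1 : (Abelianization.of.comp σ) = (MonoidHom.comp (invMonoidHom) Abelianization.of) := by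
        apply MonoidHom.eq_of_eqOn_dense hS
        intro s hs
        show Abelianization.of (σ s) = (Abelianization.of s)⁻¹
        rw [hσ s hs, map_inv]
      have h3 : Abelianization.of x = (Abelianization.of x)⁻¹ := by
        have := DFunLike.congr_fun h1 x
        rw [MonoidHom.comp_apply, hfix x (hPe x hx)] at this
        exact this
      have h4 : Abelianization.of x ^ 2 = 1 := by
        rw [pow_two]
        nth_rewrite 2 [h3]
        exact mul_inv_cancel _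
      obtain ⟨k, hk⟩ := hPe x hx
      have h5 : Abelianization.of x ^ p ^ k = 1 := by rw [← map_pow, hk, map_one]
      have h6 := Nat.dvd_gcd (orderOf_dvd_of_pow_eq_one h4) (orderOf_dvd_of_pow_eq_one h5)
      have h7 : Nat.gcd 2 (p ^ k) = 1 := by
        apply Nat.Coprime.pow_right
        exact (Nat.coprime_primes Nat.prime_two Fact.out).2 hp2.symm
      rw [h7] at h6
      have h8 : Abelianization.of x = 1 := orderOf_eq_one_iff.1 (Nat.dvd_one.1 h6)
      rw [← Abelianization.ker_of]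
      exact h8
  rw [Nat.coprime_comm, Nat.Prime.coprime_iff_not_dvd Fact.out]
  intro hd
  have h1 := P.card_eq_multiplicity
  rw [hP1, Subgroup.card_bot] at h1
  have h3 : (Nat.card G).factorization p ≠ 0 := by
    have := (Nat.Prime.dvd_iff_one_le_factorization (Fact.out : p.Prime) Nat.card_pos.ne').1 hd
    omega
  have h4 : 1 < p ^ (Nat.card G).factorization p := Nat.one_lt_pow h3 (Fact.out : p.Prime).one_lt
  omega

end general

/-- **Pairs ⟹ root group data.** -/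
theorem exists_rgd {Y : Type*} [Group Y] [Finite Y] {I W : Type*} [Fintype I] [DecidableEq I]
    [Nontrivial I] [Group W] {M : CoxeterMatrix I} (cs : CoxeterSystem M W) {A : I → I → ℤ}
    (h : Cfsg.Agent.ChevalleyStructure.CoxeterGeom.IsCartan M A) [Finite W] {p : ℕ} [Fact p.Prime]
    (X Xn : I → Subgroup Y)
    (hZ : ∀ i j, i ≠ j → (∃ Z, PairData (M i j) (X i) (Xn i) (X j) (Xn j) Z) ∨
      ∃ Z, PairData (M i j) (X j) (Xn j) (X i) (Xn i) Z)
    (ne : ∀ i, X i ≠ Xn i) (ne_bot : ∀ i, Xn i ≠ ⊥) (hp : ∀ i, IsPGroup p (X i))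
    (hcop : ∀ i, (Nat.card (TM (X i) (Xn i))).Coprime p) :
    ∃ (T : Subgroup Y) (n : I → Y) (R : (I → ℤ) → Subgroup Y),
      Nodes.BNOf.RGD cs h p T n R ∧ (∀ i, R (Tits.Roots.sr i) = X i) ∧
      (∀ i, R (-Tits.Roots.sr i) = Xn i) ∧
      (∀ i, SwapMu (X i) (Xn i) (n i)) ∧ T ≤ ⨆ i, (X i ⊔ Xn i) ∧
      ∀ x, Tits.Roots.IsRoot cs h x → R x ≤ ⨆ i, (X i ⊔ Xn i) := by
  obtain ⟨c, rfl, rfl⟩ := RD.exists_ofPairs (M := M) X Xn hZ ne ne_bot
  have h1 : ∀ i, c.X i ≤ ⨆ i, (c.X i ⊔ c.Xn i) := fun i =>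
    le_sup_left.trans (le_iSup (fun i => c.X i ⊔ c.Xn i) i)
  have h2 : ∀ i, c.Xn i ≤ ⨆ i, (c.X i ⊔ c.Xn i) := fun i =>
    le_sup_right.trans (le_iSup (fun i => c.X i ⊔ c.Xn i) i)
  have h3 : ∀ i, c.T1 i ≤ TM (c.X i) (c.Xn i) := by
    intro i
    unfold RD.T1 TM
    rw [Subgroup.closure_le]
    rintro y ⟨n, n', h, h', rfl⟩
    exact Subgroup.subset_closure ⟨n, n', ⟨h.form, h.swap.pos, h.swap.neg⟩,
      ⟨h'.form, h'.swap.pos, h'.swap.neg⟩, rfl⟩
  refine ⟨c.T0, c.n, c.XX cs h, RD.toRGD RD.T0_tor hp (RD.T0_coprime fun i =>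
    Nat.Coprime.coprime_dvd_left (Subgroup.card_dvd_of_le (h3 i)) (hcop i)), fun i => RD.XX_sr i,
    fun i => RD.XX_neg_sr i, fun i => ⟨(c.n_mu i).form, (c.n_mu i).swap.pos, (c.n_mu i).swap.neg⟩, ?_,
    fun x hx => RD.XX_le h1 h2 hx⟩
  rw [RD.T0_eq]
  refine iSup_le fun i => (RD.T1_le i).trans (inf_le_right.trans ?_)
  exact le_iSup (fun i => c.X i ⊔ c.Xn i) i

section sl

variable {G : Type*} [Group G] {F : Type*} [Field F] (S : SLSys F G)

theorem sl_mu {a : G} (ha : a ∈ S.A') (ha1 : a ≠ 1) : ∃ t : F, t ≠ 0 ∧ ∃ x ∈ S.A,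
    x * a * x = S.h t * S.w⁻¹ ∧ Onto (x * a * x) S.A S.A' ∧ Onto (x * a * x) S.A' S.A := by
  obtain ⟨t, rfl⟩ := S.mem_A'.1 ha
  have ht : t ≠ 0 := by
    rintro rfl
    exact ha1 S.xm_zero
  have h1 := S.weyl' t ht
  refine ⟨t⁻¹, inv_ne_zero ht, S.xp (-t⁻¹), S.xp_mem _, h1, ?_, ?_⟩
  · rw [h1]
    exact (onto_h_A' S (inv_ne_zero ht)).mul (onto_w_A' S).inv
  · rw [h1]
    exact (onto_h_A S (inv_ne_zero ht)).mul (onto_w_A S).inv

/-- The exchanging elements of `S`. -/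
theorem sl_swap (hne : S.A ≠ S.A') {n : G} (hn : SwapMu S.A S.A' n) : ∃ t : F, t ≠ 0 ∧ n = S.h t * S.w⁻¹ := by
  obtain ⟨a, ha, ha1, x, hx, y, hy, rfl⟩ := hn.form
  obtain ⟨t, ht, x', hx', h1, h3, h4⟩ := sl_mu S ha ha1
  refine ⟨t, ht, ?_⟩
  have hmu : ∀ a ∈ S.A', a ≠ 1 → ∃ x ∈ S.A, ∃ y ∈ S.A,
      Onto (x * a * y) S.A S.A' ∧ Onto (x * a * y) S.A' S.A := by
    intro a ha ha1
    obtain ⟨t, ht, x', hx', h1, h3, h4⟩ := sl_mu S ha ha1
    exact ⟨x', hx', x', hx', h3, h4⟩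
  have hbot : S.A' ≠ ⊥ := by
    rw [Subgroup.ne_bot_iff_exists_ne_one]
    exact ⟨⟨a, ha⟩, fun h => ha1 (congrArg Subtype.val h)⟩
  obtain ⟨e1, e2⟩ := mu_unique hmu hne hbot hx' hx' hx hy ⟨h3, h4⟩ ⟨hn.pos, hn.neg⟩
  rw [e1, e2, h1]

theorem TM_sl [Finite F] {p : ℕ} [Fact p.Prime] [CharP F p] [Finite G] (hne : S.A ≠ S.A') :
    (Nat.card (TM S.A S.A')).Coprime p := by
  let φ : Fˣ →* G :=
    { toFun := fun t => S.h (t : F)
      map_one' := by rw [Units.val_one, S.h_one]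
      map_mul' := fun s t => by rw [Units.val_mul, S.h_mul _ _ s.ne_zero t.ne_zero] }
  have h1 : TM S.A S.A' ≤ φ.range := by
    unfold TM
    rw [Subgroup.closure_le]
    rintro y ⟨n, n', h, h', rfl⟩
    obtain ⟨t, ht, rfl⟩ := sl_swap S hne h
    obtain ⟨s, hs, rfl⟩ := sl_swap S hne h'
    refine ⟨Units.mk0 t ht * (Units.mk0 s hs)⁻¹, ?_⟩
    show S.h ((Units.mk0 t ht * (Units.mk0 s hs)⁻¹ : Fˣ) : F) = _
    rw [Units.val_mul, Units.val_inv_eq_inv_val, Units.val_mk0, Units.val_mk0]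
    have e1 : (S.h t * S.w⁻¹)⁻¹ * (S.h s * S.w⁻¹) = ac S.w ((S.h t)⁻¹ * S.h s) := by
      unfold ac; group
    rw [e1, ac_mul, ac_inv, S.w_h _ ht, S.w_h _ hs, S.h_inv (inv_ne_zero ht), inv_inv,
      ← S.h_mul _ _ ht (inv_ne_zero hs)]
  have h3 : Nat.card φ.range ∣ Nat.card Fˣ := Subgroup.card_range_dvd φ
  refine Nat.Coprime.coprime_dvd_left ((Subgroup.card_dvd_of_le h1).trans h3) ?_
  have := Fintype.ofFinite F
  classical
  rw [Nat.card_units]
  rw [Nat.coprime_comm, Nat.Prime.coprime_iff_not_dvd Fact.out]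
  intro hd
  obtain ⟨n, hn, hq⟩ := FiniteField.card F p
  rw [← Nat.card_eq_fintype_card] at hq
  have h4 : p ∣ Nat.card F := by rw [hq]; exact dvd_pow_self p n.ne_zero
  have h5 : 1 < Nat.card F := Finite.one_lt_card
  have h6 : p ∣ 1 := by
    have := Nat.dvd_sub h4 hd
    have e : Nat.card F - (Nat.card F - 1) = 1 := by omega
    rwa [e] at this
  exact (Fact.out : p.Prime).one_lt.ne' (Nat.dvd_one.1 h6)

end sl

end Cfsg.Agent.Cit.OmB3.Rgd
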