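import Cfsg.Agent.Cit.OmB3.Zthree

/-!
# The short root groups `e₃`, `-e₃`
-/

set_option autoImplicit false
set_option linter.unusedSectionVars false
set_option linter.unusedVariables false
set_option linter.dupNamespace false

namespace Cfsg.Agent.Cit.OmB3.Short

open scoped commutatorElement
open Module
open Cfsg.Agent.RootAmalgam (Onto Maps PairData mu_unique)
open Cfsg.Agent.Cit.LemmaATwo Cfsg.Agent.Cit.OmB3.Side Cfsg.Agent.Cit.OmB3.Siegel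
  Cfsg.Agent.Cit.OmB3.Form Cfsg.Agent.Cit.OmB3.Big Cfsg.Agent.Cit.OmB3.Split
  Cfsg.Agent.Cit.OmB3.Third Cfsg.Agent.Cit.OmB3.Atwo Cfsg.Agent.Cit.OmB3.Mu
  Cfsg.Agent.Cit.OmB3.Zthree
open Cfsg.Agent.Cit.OmB3.Form.Four (MG)

variable {G : Type*} [Group G] {F : Type*} [Field F]
variable {p m : ℕ} {S1 S2 : SLSys F G} {z z3 : G} {Y Y' : Subgroup G}
  [Finite G] [Finite F] [Fact p.Prime] [CharP F p]

theorem Nel.opp {n : G} (hn : Nel S1 S2 z Y Y' n) : Nel S1.opp S2.opp z Y' Y n where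
  a1 := hn.a1'
  a1b := hn.a1'b
  a1' := hn.a1
  a1'b := hn.a1b
  a2 := hn.a2'
  a2b := hn.a2'b
  a2' := hn.a2
  a2'b := hn.a2b
  b := hn.bb
  bb := hn.b
  inv := hn.inv
  mem := by
    have := hn.mem
    rw [sup_comm] at this
    exact this

theorem Nel.of_opp {n : G} (hn : Nel S1.opp S2.opp z Y' Y n) : Nel S1 S2 z Y Y' n where
  a1 := hn.a1'
  a1b := hn.a1'b
  a1' := hn.a1
  a1'b := hn.a1b
  a2 := hn.a2'
  a2b := hn.a2'b
  a2' := hn.a2
  a2'b := hn.a2b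
  b := hn.bb
  bb := hn.b
  inv := hn.inv
  mem := by
    have := hn.mem
    rw [sup_comm] at this
    exact this

theorem Z3.opp (Z : Z3 S1 S2 z Y Y' z3) : Z3 S1.opp S2.opp z Y' Y z3 where
  nz n hn := Z.nz n (Nel.of_opp hn)
  nz' n hn := Z.nz' n (Nel.of_opp hn)

/-- The middle part of `M(-,+)` commutes with the outer parts of the neighbours. -/
theorem MZ_comm (D : Big p m S1 S2 z Y Y') (h2 : (2 : F) ≠ 0) {e : G}
    (he : e ∈ MZ (MG S1.opp S2 z) Y Y') :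
    (∀ y ∈ PP (MG S1 S2 z) Y, y * e = e * y) ∧ (∀ y ∈ PP (MG S1 S2 z) Y', y * e = e * y) ∧
    (∀ y ∈ PP (MG S1.opp S2.opp z) Y, y * e = e * y) ∧
    ∀ y ∈ PP (MG S1.opp S2.opp z) Y', y * e = e * y := by
  have he' : e ∈ MZ (MG S1.opp S2 z) Y' Y := by rw [MZ_symm]; exact he
  refine ⟨fun y hy => comm_pz2 D h2 hy he, fun y hy => comm_pz2 D.symm h2 hy he', fun y hy => ?_,
    fun y hy => ?_⟩
  · obtain ⟨f, f', R⟩ := D.opp1.exists_pr h2
    exact (comm_zp R he hy).symm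
  · obtain ⟨f, f', R⟩ := D.opp1.symm.exists_pr h2
    exact (comm_zp R he' hy).symm

theorem card_MG' (D : Big p m S1 S2 z Y Y') : Nat.card (MM S1.A S2.A z) = Nat.card F ^ m := by
  rw [← D.card]
  apply Nat.card_congr
  exact Equiv.subtypeEquivRight fun x => D.four.mem.symm

/-- The second frame: `M' = Q(e₂ - e₃) ∩ Q(e₂ + e₃)`. -/
theorem two' (D : Big p m S1 S2 z Y Y') (h2 : (2 : F) ≠ 0) {g : G} (hg : Gel S1 S2 z Y Y' z3 g) :
    Two (PP (MG S1.opp S2 z) Y') (PP (MG S1.opp S2 z) Y) (z3 * z) where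
  hX := HH.conj hg.a1 hg.z D.four.s1.hA
  hX' := HH.conj hg.a2 hg.z D.four.s2.hA
  inf x hx hx' := by
    obtain ⟨f, f', R⟩ := D.opp1.exists_pr h2
    exact PP'_inf R hx' hx

theorem two3 (D : Big p m S1 S2 z Y Y') (h2 : (2 : F) ≠ 0) {g : G} (hg : Gel S1 S2 z Y Y' z3 g) :
    Two (PP (MG S1 S2.opp z) Y) (PP (MG S1.opp S2 z) Y) (z3 * z) where
  hX := HH.conj hg.a1' hg.z D.four.s1.hA'
  hX' := HH.conj hg.a2 hg.z D.four.s2.hA
  inf x hx hx' := inf_eq_one D (PP_le _ _ hx') (PP_le _ _ hx)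

theorem A_odd (D : Four S1 S2 z) {x : G} (hx : x ∈ S1.A) : Odd (orderOf x) := D.s2.oddZ x hx

/-- `S₂.A`, `S₁.A'` and the middle part of `M(-,+)` lie in `M'`. -/
theorem mem_M' (Z : Z3 S1 S2 z Y Y' z3) (D : Big p m S1 S2 z Y Y') (h2 : (2 : F) ≠ 0)
    (I : Inp S1 S2 z) :
    (∀ x ∈ S2.A, x ∈ MM (PP (MG S1.opp S2 z) Y') (PP (MG S1.opp S2 z) Y) (z3 * z)) ∧
    (∀ x ∈ S1.A', x ∈ MM (PP (MG S1.opp S2 z) Y') (PP (MG S1.opp S2 z) Y) (z3 * z)) ∧
    ∀ x ∈ MZ (MG S1.opp S2 z) Y Y',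
      x ∈ MM (PP (MG S1.opp S2 z) Y') (PP (MG S1.opp S2 z) Y) (z3 * z) := by
  refine ⟨fun x hx => ⟨D.four.s1.oddZ x hx, ?_, ?_, Z.zp_2 D h2 x hx⟩,
    fun x hx => ⟨D.four.s2'.oddZ x hx, ?_, ?_, Z.zp_1' D h2 x hx⟩,
    fun x hx => ⟨MG_odd D.opp1 (MZ_le' D.opp1 h2 hx), ?_, ?_, zp_MZ Z D h2 I hx⟩⟩
  · intro a ha; exact (MG_A2 D.opp1 (PP_le _ _ ha) hx).symm
  · intro a ha; exact (MG_A2 D.opp1 (PP_le _ _ ha) hx).symm
  · intro a ha; exact (MG_A1 D.opp1 (PP_le _ _ ha) hx).symm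
  · intro a ha; exact (MG_A1 D.opp1 (PP_le _ _ ha) hx).symm
  · intro a ha; exact MG_ab D.opp1 (PP_le _ _ ha) (MZ_le' D.opp1 h2 hx)
  · intro a ha; exact MG_ab D.opp1 (PP_le _ _ ha) (MZ_le' D.opp1 h2 hx)

theorem eq_of_sq_eq {x y : G} (h : x * y = y * x) (hx : Odd (orderOf x)) (hy : Odd (orderOf y))
    (hxy : x * x = y * y) : x = y := by
  have h1 : x * y⁻¹ = y⁻¹ * x := by
    rw [eq_inv_mul_iff_mul_eq, ← mul_assoc, ← h, mul_inv_cancel_right]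
  have h3 : Odd (orderOf (x * y⁻¹)) := odd_orderOf_mul h1 hx (by rw [orderOf_inv]; exact hy)
  have h4 : x * y⁻¹ * (x * y⁻¹) = 1 := by
    calc x * y⁻¹ * (x * y⁻¹) = x * (y⁻¹ * x) * y⁻¹ := by group
      _ = (x * x) * (y⁻¹ * y⁻¹) := by rw [← h1]; group
      _ = 1 := by rw [hxy]; group
  exact mul_inv_eq_one.1 (sq_one_of_odd h3 h4)

/-- Every element of `M'` is a product. -/
theorem exists_prod (Z : Z3 S1 S2 z Y Y' z3) (D : Big p m S1 S2 z Y Y') (h2 : (2 : F) ≠ 0)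
    (I : Inp S1 S2 z) {x : G}
    (hx : x ∈ MM (PP (MG S1.opp S2 z) Y') (PP (MG S1.opp S2 z) Y) (z3 * z)) :
    ∃ a ∈ S2.A, ∃ b ∈ S1.A', ∃ c ∈ MZ (MG S1.opp S2 z) Y Y', x = a * b * c := by
  obtain ⟨g, hg⟩ := exists_gel Z D h2 I
  obtain ⟨m1, m2, m3⟩ := mem_M' Z D h2 I
  have T := two' D h2 hg
  set M' := MM (PP (MG S1.opp S2 z) Y') (PP (MG S1.opp S2 z) Y) (z3 * z) with hM'
  have hcard : Nat.card M' = Nat.card F ^ m := by
    rw [← card_MG' D]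
    symm
    apply Nat.card_congr
    refine ⟨fun x => ⟨ac g x, (mem_MM_ac hg.a1 hg.a2 hg.z).2 x.2⟩, fun x => ⟨ac g⁻¹ x, ?_⟩, ?_, ?_⟩
    · have h1 := (mem_MM_ac hg.a1 hg.a2 hg.z (x := ac g⁻¹ x)).1
      rw [ac_ac_inv] at h1
      exact h1 x.2
    · intro x; exact Subtype.ext (ac_inv_ac _ _)
    · intro x; exact Subtype.ext (ac_ac_inv _ _)
  let φ : S2.A × S1.A' × MZ (MG S1.opp S2 z) Y Y' → M' := fun t =>
    ⟨t.1 * t.2.1 * t.2.2, T.mul_mem (T.mul_mem (m1 _ t.1.2) (m2 _ t.2.1.2)) (m3 _ t.2.2.2)⟩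
  have hz1 : ∀ a ∈ S2.A, z * a = a * z := fun a ha => D.four.s1.z_comm ha
  have hz2 : ∀ a ∈ S1.A', z * a = a * z := fun a ha => D.four.s2'.z_comm ha
  have hinj : Function.Injective φ := by
    rintro ⟨a, b, c⟩ ⟨a', b', c'⟩ h
    have h1 : (a : G) * b * c = a' * b' * c' := congrArg (fun x : M' => (x : G)) h
    have hcz : ∀ c ∈ MZ (MG S1.opp S2 z) Y Y', ac z c = c⁻¹ := fun c hc =>
      MG_z D.opp1 (MZ_le' D.opp1 h2 hc)
    have h3 : (a : G) * b * (c : G)⁻¹ = a' * b' * (c' : G)⁻¹ := by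
      have h4 := congrArg (ac z) h1
      rwa [ac_mul, ac_mul, ac_mul, ac_mul, ac_of_comm (hz1 a a.2), ac_of_comm (hz2 b b.2),
        hcz c c.2, ac_of_comm (hz1 a' a'.2), ac_of_comm (hz2 b' b'.2), hcz c' c'.2] at h4
    have hab := T.mul_mem (m1 _ a.2) (m2 _ b.2)
    have hab' := T.mul_mem (m1 _ a'.2) (m2 _ b'.2)
    have h5 : (c : G) * c = c' * c' := by
      have e1 : (a : G) * b * c * ((a : G) * b * (c : G)⁻¹)⁻¹ = c * c := by
        have : (a : G) * b * c * ((a : G) * b * (c : G)⁻¹)⁻¹ =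
            ((a : G) * b) * ((c : G) * c) * ((a : G) * b)⁻¹ := by group
        rw [this, T.comm hab (T.mul_mem (m3 _ c.2) (m3 _ c.2)), mul_inv_cancel_right]
      have e2 : (a' : G) * b' * c' * ((a' : G) * b' * (c' : G)⁻¹)⁻¹ = c' * c' := by
        have : (a' : G) * b' * c' * ((a' : G) * b' * (c' : G)⁻¹)⁻¹ =
            ((a' : G) * b') * ((c' : G) * c') * ((a' : G) * b')⁻¹ := by group
        rw [this, T.comm hab' (T.mul_mem (m3 _ c'.2) (m3 _ c'.2)), mul_inv_cancel_right]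
      rw [← e1, ← e2, h1, h3]
    have hcc : (c : G) = c' := eq_of_sq_eq (T.comm (m3 _ c.2) (m3 _ c'.2)) (m3 _ c.2).1
      (m3 _ c'.2).1 h5
    rw [hcc] at h1
    have h6 := mul_right_cancel h1
    have h7 : (a' : G)⁻¹ * a = b' * (b : G)⁻¹ := by
      rw [inv_mul_eq_iff_eq_mul, ← mul_assoc, ← h6, mul_inv_cancel_right]
    have h8 : (a' : G)⁻¹ * a = 1 := by
      apply D.four.s1.infA' _ (mul_mem (inv_mem a'.2) a.2)
      rw [h7]
      exact mul_mem b'.2 (inv_mem b.2)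
    have ha : (a : G) = a' := (inv_mul_eq_one.1 h8).symm
    rw [h8] at h7
    have hb : (b : G) = b' := (mul_inv_eq_one.1 h7.symm).symm
    exact Prod.ext (Subtype.ext ha) (Prod.ext (Subtype.ext hb) (Subtype.ext hcc))
  have hcard' : Nat.card (S2.A × S1.A' × MZ (MG S1.opp S2 z) Y Y') = Nat.card F ^ m := by
    obtain ⟨f, f', R⟩ := D.opp1.exists_pr h2
    rw [Nat.card_prod, Nat.card_prod, S2.card_A, S1.card_A', card_MZ R, ← pow_succ', ← pow_succ']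
    congr 1
    have := D.hm
    omega
  have hfin : Finite M' := Finite.of_injective (fun x : M' => (x : G)) Subtype.val_injective
  have hbij : Function.Bijective φ := by
    rw [Nat.bijective_iff_injective_and_card]
    exact ⟨hinj, by rw [hcard, hcard']⟩
  obtain ⟨⟨a, b, c⟩, h⟩ := hbij.2 ⟨x, hx⟩
  exact ⟨a, a.2, b, b.2, c, c.2, (congrArg (fun x : M' => (x : G)) h).symm⟩

/-- A root element of `S₁` commuting with the outer part of `M(-,+)` is trivial. -/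
theorem eq_one_of_comm_PP (D : Big p m S1 S2 z Y Y') (h2 : (2 : F) ≠ 0) {a : G} (ha : a ∈ S1.A)
    (h : ∀ y ∈ PP (MG S1.opp S2 z) Y, y * a = a * y) : a = 1 := by
  obtain ⟨t, rfl⟩ := S1.mem_A.1 ha
  by_cases ht : t = 0
  · rw [ht, S1.xp_zero]
  · exfalso
    obtain ⟨x, hx, hx1⟩ := PP_ne_bot D.opp1 h2
    apply hx1
    have h1 := (weyl_PP D h2 hx ht).2
    rw [ac_of_comm (h x hx).symm] at h1
    have h3 : ac (S1.h t * S1.w) x = 1 := mul_left_cancel (a := x) (by rw [mul_one]; exact h1.symm)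
    exact ac_inj (g := S1.h t * S1.w) (by rw [h3, ac_one])

/-- Characterisation of the short root group `e₂`. -/
theorem mem_MZ_char (Z : Z3 S1 S2 z Y Y' z3) (D : Big p m S1 S2 z Y Y') (h2 : (2 : F) ≠ 0)
    (I : Inp S1 S2 z) {x : G} :
    x ∈ MZ (MG S1.opp S2 z) Y Y' ↔
      x ∈ MM (PP (MG S1.opp S2 z) Y') (PP (MG S1.opp S2 z) Y) (z3 * z) ∧
      (∀ y ∈ PP (MG S1 S2 z) Y, y * x = x * y) ∧ ∀ y ∈ PP (MG S1.opp S2.opp z) Y, y * x = x * y := by
  constructor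
  · intro hx
    obtain ⟨k1, k2, k3, k4⟩ := MZ_comm D h2 hx
    exact ⟨(mem_M' Z D h2 I).2.2 x hx, k1, k3⟩
  · rintro ⟨hx, h1, h3⟩
    obtain ⟨a, ha, b, hb, c, hc, rfl⟩ := exists_prod Z D h2 I hx
    obtain ⟨k1, k2, k3, k4⟩ := MZ_comm D h2 hc
    have hb1 : b = 1 := by
      apply eq_one_of_comm_PP D.opp1 h2 hb
      intro y hy
      have e1 : Commute y (a * b * c) := h1 y hy
      have e2 : Commute y c := k1 y hy
      have e3 : Commute y a := (MG_A2 D (PP_le _ _ hy) ha).symm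
      have : b = a⁻¹ * (a * b * c) * c⁻¹ := by group
      rw [this]
      exact ((e3.inv_right).mul_right e1).mul_right e2.inv_right
    have ha1 : a = 1 := by
      apply eq_one_of_comm_PP D.opp1.swap h2 ha
      intro y hy
      rw [Big.MG_swap S1.opp S2.opp z] at hy
      have e1 : Commute y (a * b * c) := h3 y hy
      have e2 : Commute y c := k3 y hy
      rw [hb1, mul_one] at e1
      have : a = (a * c) * c⁻¹ := by group
      rw [this]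
      exact e1.mul_right e2.inv_right
    rw [ha1, hb1, one_mul, one_mul]
    exact hc

end Cfsg.Agent.Cit.OmB3.Short
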