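import Cfsg.Agent.Cit.LemmaATwo

/-!
# One `SL₂` acting on `Q / Z` (identification of `Ω₇(q)` and `Ω₈⁻(q)`)

`MM X X' z`: the elements of odd order which commute with `X` and `X'` and are inverted by `z`.
`HH X z`: commutators of elements of odd order which commute with `X` and are inverted by `z` lie in `X`.
`Side S Zc z`: `S` acts on `B C Zc / Zc`, `B = MM A' Zc z`, `C = MM A Zc z`; then `C` is a vector space over `F`.
-/

set_option autoImplicit false
set_option linter.unusedSectionVars false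
set_option linter.unusedVariables false
set_option linter.dupNamespace false

namespace Cfsg.Agent.Cit.OmB3.Side

open scoped commutatorElement
open Cfsg.Agent.RootAmalgam (Onto Maps PairData)
open Cfsg.Agent.Cit.LemmaATwo

variable {G : Type*} [Group G]

/-- Elements of odd order commuting with `X` and `X'` and inverted by `z`. -/
def MM (X X' : Subgroup G) (z : G) : Set G :=
  {x | Odd (orderOf x) ∧ (∀ a ∈ X, a * x = x * a) ∧ (∀ a ∈ X', a * x = x * a) ∧ ac z x = x⁻¹}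

/-- The commutator property. -/
def HH (X : Subgroup G) (z : G) : Prop :=
  ∀ x y, Odd (orderOf x) → Odd (orderOf y) → (∀ a ∈ X, a * x = x * a) → (∀ a ∈ X, a * y = y * a) →
    ac z x = x⁻¹ → ac z y = y⁻¹ → ⁅x, y⁆ ∈ X

theorem MM_symm (X X' : Subgroup G) (z : G) : MM X X' z = MM X' X z := by
  ext x
  constructor
  · rintro ⟨h1, h2, h3, h4⟩; exact ⟨h1, h3, h2, h4⟩
  · rintro ⟨h1, h2, h3, h4⟩; exact ⟨h1, h3, h2, h4⟩

theorem ac_ac_inv (g x : G) : ac g (ac g⁻¹ x) = x := by unfold ac; group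
theorem ac_inv_ac (g x : G) : ac g⁻¹ (ac g x) = x := by unfold ac; group

theorem ac_inj {g x y : G} (h : ac g x = ac g y) : x = y := by
  rw [← ac_inv_ac g x, h, ac_inv_ac]

theorem orderOf_ac (g x : G) : orderOf (ac g x) = orderOf x := by
  have : ac g x = MulAut.conj g x := rfl
  rw [this]
  exact orderOf_injective (MulAut.conj g).toMonoidHom (MulAut.conj g).injective x

theorem ac_comm_iff (g x y : G) : ac g x * ac g y = ac g y * ac g x ↔ x * y = y * x := by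
  rw [← ac_mul, ← ac_mul]
  exact ⟨fun h => ac_inj h, fun h => by rw [h]⟩

theorem comm_onto {g : G} {X X1 : Subgroup G} (h : Onto g X X1) {x : G} :
    (∀ a ∈ X1, a * ac g x = ac g x * a) ↔ ∀ a ∈ X, a * x = x * a := by
  constructor
  · intro h1 a ha
    rw [← ac_comm_iff g]
    exact h1 _ (h.mem ha)
  · intro h1 a ha
    have h2 := h1 _ (h.mem_inv ha)
    rw [← ac_comm_iff g] at h2
    have h3 : ac g (g⁻¹ * a * g) = a := by unfold ac; group
    rwa [h3] at h2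

theorem mem_MM_ac {g : G} {X X1 X' X1' : Subgroup G} {z z1 : G} (h : Onto g X X1) (h' : Onto g X' X1')
    (hz : ac g z = z1) {x : G} : ac g x ∈ MM X1 X1' z1 ↔ x ∈ MM X X' z := by
  unfold MM
  simp only [Set.mem_ofPred_eq]
  rw [orderOf_ac, comm_onto h, comm_onto h']
  have e : (ac z1 (ac g x) = (ac g x)⁻¹) ↔ ac z x = x⁻¹ := by
    rw [← hz]
    have h1 : ac (ac g z) (ac g x) = ac g (ac z x) := by unfold ac; group
    rw [h1, ← ac_inv]
    exact ⟨fun h => ac_inj h, fun h => by rw [h]⟩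
  rw [e]

theorem HH.conj {g : G} {X X1 : Subgroup G} {z z1 : G} (h : Onto g X X1) (hz : ac g z = z1)
    (H : HH X z) : HH X1 z1 := by
  intro x y hx hy hxX hyX hxz hyz
  have e : ∀ x, (ac z1 x = x⁻¹) → ac z (ac g⁻¹ x) = (ac g⁻¹ x)⁻¹ := by
    intro x hx
    rw [← hz] at hx
    have h1 : ac z (ac g⁻¹ x) = ac g⁻¹ (ac (ac g z) x) := by unfold ac; group
    rw [h1, hx, ac_inv]
  have c : ∀ x, (∀ a ∈ X1, a * x = x * a) → ∀ a ∈ X, a * ac g⁻¹ x = ac g⁻¹ x * a := by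
    intro x hx
    rw [← comm_onto h, ac_ac_inv]
    exact hx
  have h1 := H (ac g⁻¹ x) (ac g⁻¹ y) (by rwa [orderOf_ac]) (by rwa [orderOf_ac]) (c x hxX) (c y hyX)
    (e x hxz) (e y hyz)
  rw [← ac_comm] at h1
  have h2 := h.mem h1
  have h3 : g * ac g⁻¹ ⁅x, y⁆ * g⁻¹ = ⁅x, y⁆ := by unfold ac; group
  rwa [h3] at h2

theorem inv_of_comm_inv {z x : G} (hodd : Odd (orderOf x)) (h1 : ac z x = x⁻¹) (h2 : z * x = x * z) :
    x = 1 := by
  rw [ac_of_comm h2] at h1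
  have h3 : x ^ 2 = 1 := by rw [pow_two, ← mul_inv_cancel x, ← h1]
  have h4 := orderOf_dvd_of_pow_eq_one h3
  rw [← orderOf_eq_one_iff]
  rcases (Nat.dvd_prime Nat.prime_two).1 h4 with h | h
  · exact h
  · rw [h] at hodd
    exact absurd hodd (by decide)

theorem odd_orderOf_mul {x y : G} (h : x * y = y * x) (hx : Odd (orderOf x)) (hy : Odd (orderOf y)) :
    Odd (orderOf (x * y)) := by
  have h1 : orderOf (x * y) ∣ orderOf x * orderOf y := (Commute.orderOf_mul_dvd_mul_orderOf h)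
  exact Odd.of_dvd_nat (hx.mul hy) h1

/-- Two subgroups with the commutator property and trivial intersection: `MM` is an abelian subgroup. -/
structure Two (X X' : Subgroup G) (z : G) : Prop where
  hX : HH X z
  hX' : HH X' z
  inf : ∀ x ∈ X, x ∈ X' → x = 1

namespace Two

variable {X X' : Subgroup G} {z : G} (T : Two X X' z)

include T

theorem symm : Two X' X z := ⟨T.hX', T.hX, fun x h1 h2 => T.inf x h2 h1⟩

theorem comm {x y : G} (hx : x ∈ MM X X' z) (hy : y ∈ MM X X' z) : x * y = y * x := by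
  rw [← commutatorElement_eq_one_iff_mul_comm]
  exact T.inf _ (T.hX x y hx.1 hy.1 hx.2.1 hy.2.1 hx.2.2.2 hy.2.2.2)
    (T.hX' x y hx.1 hy.1 hx.2.2.1 hy.2.2.1 hx.2.2.2 hy.2.2.2)

theorem mul_mem {x y : G} (hx : x ∈ MM X X' z) (hy : y ∈ MM X X' z) : x * y ∈ MM X X' z := by
  have hc := T.comm hx hy
  refine ⟨odd_orderOf_mul hc hx.1 hy.1, ?_, ?_, ?_⟩
  · intro a ha
    rw [← mul_assoc, hx.2.1 a ha, mul_assoc, hy.2.1 a ha, mul_assoc]
  · intro a ha
    rw [← mul_assoc, hx.2.2.1 a ha, mul_assoc, hy.2.2.1 a ha, mul_assoc]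
  · rw [ac_mul, hx.2.2.2, hy.2.2.2, hc, mul_inv_rev]

theorem one_mem : (1 : G) ∈ MM X X' z := by
  refine ⟨by rw [orderOf_one]; exact odd_one, ?_, ?_, ?_⟩
  · intro a _; rw [mul_one, one_mul]
  · intro a _; rw [mul_one, one_mul]
  · rw [ac_one, inv_one]

theorem inv_mem {x : G} (hx : x ∈ MM X X' z) : x⁻¹ ∈ MM X X' z := by
  refine ⟨by rw [orderOf_inv]; exact hx.1, ?_, ?_, ?_⟩
  · intro a ha
    have := hx.2.1 a ha
    rw [eq_inv_mul_iff_mul_eq, ← mul_assoc, ← this, mul_assoc, mul_inv_cancel, mul_one]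
  · intro a ha
    have := hx.2.2.1 a ha
    rw [eq_inv_mul_iff_mul_eq, ← mul_assoc, ← this, mul_assoc, mul_inv_cancel, mul_one]
  · rw [ac_inv, hx.2.2.2]

end Two

/-- The subgroup generated by `MM`. -/
def MS (X X' : Subgroup G) (z : G) : Subgroup G := Subgroup.closure (MM X X' z)

theorem Two.mem {X X' : Subgroup G} {z : G} (T : Two X X' z) {x : G} :
    x ∈ MS X X' z ↔ x ∈ MM X X' z := by
  constructor
  · intro hx
    refine Subgroup.closure_induction (p := fun x _ => x ∈ MM X X' z) (fun x hx => hx) T.one_mem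
      (fun x y _ _ hx hy => T.mul_mem hx hy) (fun x _ hx => T.inv_mem hx) hx
  · intro hx
    exact Subgroup.subset_closure hx

section sl

variable {F : Type*} [Field F] (S : SLSys F G)

theorem opp_A : S.opp.A = S.A' := rfl
theorem opp_A' : S.opp.A' = S.A := rfl

theorem w_eq : S.w = S.xm (-1) * S.xp 1 * S.xm (-1) := by
  have h := S.weyl 1 one_ne_zero
  rw [S.h_one, one_mul, inv_one] at h
  exact h.symm

theorem h_eq {t : F} (ht : t ≠ 0) : S.h t = S.xm (-t⁻¹) * S.xp t * S.xm (-t⁻¹) * S.w⁻¹ := by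
  rw [S.weyl t ht]; group

/-- An element commuting with all root elements commutes with `w` and `h t`. -/
theorem comm_w {x : G} (h1 : ∀ t, S.xp t * x = x * S.xp t) (h2 : ∀ t, S.xm t * x = x * S.xm t) :
    S.w * x = x * S.w := by
  have e : Commute S.w x := by
    rw [w_eq]
    exact Commute.mul_left (Commute.mul_left (h2 _) (h1 _)) (h2 _)
  exact e

theorem comm_h {x : G} (h1 : ∀ t, S.xp t * x = x * S.xp t) (h2 : ∀ t, S.xm t * x = x * S.xm t)
    {t : F} (ht : t ≠ 0) : S.h t * x = x * S.h t := by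
  have e : Commute (S.h t) x := by
    rw [h_eq S ht]
    exact Commute.mul_left (Commute.mul_left (Commute.mul_left (h2 _) (h1 _)) (h2 _))
      (Commute.inv_left (comm_w S h1 h2))
  exact e

theorem onto_w_A : Onto S.w S.A S.A' := by
  intro x
  constructor
  · rintro ⟨t, ht⟩
    refine ⟨-t, ?_⟩
    have h1 : ac S.w (S.xp (-t)) = ac S.w x := by
      rw [S.w_xp, neg_neg]
      exact ht
    exact ac_inj h1
  · rintro ⟨t, rfl⟩
    exact ⟨-t, (S.w_xp t).symm⟩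

theorem onto_w_A' : Onto S.w S.A' S.A := by
  intro x
  constructor
  · rintro ⟨t, ht⟩
    refine ⟨-t, ?_⟩
    have h1 : ac S.w (S.xm (-t)) = ac S.w x := by
      rw [S.w_xm, neg_neg]
      exact ht
    exact ac_inj h1
  · rintro ⟨t, rfl⟩
    exact ⟨-t, (S.w_xm t).symm⟩

theorem onto_h_A {s : F} (hs : s ≠ 0) : Onto (S.h s) S.A S.A := by
  intro x
  constructor
  · rintro ⟨t, ht⟩
    refine ⟨s⁻¹ * s⁻¹ * t, ?_⟩
    have h1 : ac (S.h s) (S.xp (s⁻¹ * s⁻¹ * t)) = ac (S.h s) x := by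
      rw [S.h_xp _ _ hs]
      have : s * s * (s⁻¹ * s⁻¹ * t) = t := by field_simp
      rw [this]
      exact ht
    exact ac_inj h1
  · rintro ⟨t, rfl⟩
    exact ⟨s * s * t, (S.h_xp s t hs).symm⟩

theorem onto_h_A' {s : F} (hs : s ≠ 0) : Onto (S.h s) S.A' S.A' := by
  intro x
  constructor
  · rintro ⟨t, ht⟩
    refine ⟨s * s * t, ?_⟩
    have h1 : ac (S.h s) (S.xm (s * s * t)) = ac (S.h s) x := by
      rw [S.h_xm _ _ hs]
      have : s⁻¹ * s⁻¹ * (s * s * t) = t := by field_simp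
      rw [this]
      exact ht
    exact ac_inj h1
  · rintro ⟨t, rfl⟩
    exact ⟨s⁻¹ * s⁻¹ * t, (S.h_xm s t hs).symm⟩

theorem onto_of_comm {X : Subgroup G} {g : G} (h : ∀ x ∈ X, g * x = x * g) : Onto g X X := by
  intro x
  constructor
  · intro hx
    have h1 := h _ hx
    have h2 : g * x * g⁻¹ = x := by
      have h3 : g * (g * x * g⁻¹) = g * x := by rw [h1]; group
      exact mul_left_cancel h3
    rwa [h2] at hx
  · intro hx
    rw [h x hx, mul_inv_cancel_right]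
    exact hx

end sl

/-- `S` acts on `B C Zc / Zc`. -/
structure Side {F : Type*} [Field F] (S : SLSys F G) (Zc : Subgroup G) (z : G) : Prop where
  hz : S.h (-1) = z
  commp : ∀ ζ ∈ Zc, ∀ t, S.xp t * ζ = ζ * S.xp t
  commm : ∀ ζ ∈ Zc, ∀ t, S.xm t * ζ = ζ * S.xm t
  hZ : HH Zc z
  hA : HH S.A z
  hA' : HH S.A' z
  oddZ : ∀ ζ ∈ Zc, Odd (orderOf ζ)
  abZ : ∀ ζ ∈ Zc, ∀ ξ ∈ Zc, ζ * ξ = ξ * ζ
  infA : ∀ x ∈ Zc, x ∈ S.A → x = 1
  infA' : ∀ x ∈ Zc, x ∈ S.A' → x = 1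
  up : ∀ b ∈ MM S.A' Zc z, ∀ t, ∃ c ∈ MM S.A Zc z, ∃ ζ ∈ Zc, ac (S.xp t) b = b * c * ζ
  dn : ∀ c ∈ MM S.A Zc z, ∀ t, ∃ b ∈ MM S.A' Zc z, ∃ ζ ∈ Zc, ac (S.xm t) c = c * b * ζ

namespace Side

variable {F : Type*} [Field F] {S : SLSys F G} {Zc : Subgroup G} {z : G} (D : Side S Zc z)

include D

theorem opp : Side S.opp Zc z where
  hz := by
    show S.h ((-1)⁻¹) = z
    rw [inv_neg, inv_one]; exact D.hz
  commp := D.commm
  commm := D.commp
  hZ := D.hZ
  hA := D.hA'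
  hA' := D.hA
  oddZ := D.oddZ
  abZ := D.abZ
  infA := D.infA'
  infA' := D.infA
  up := D.dn
  dn := D.up

theorem two : Two S.A Zc z := ⟨D.hA, D.hZ, fun x h1 h2 => D.infA x h2 h1⟩
theorem two' : Two S.A' Zc z := ⟨D.hA', D.hZ, fun x h1 h2 => D.infA' x h2 h1⟩

theorem w_comm {ζ : G} (hζ : ζ ∈ Zc) : S.w * ζ = ζ * S.w :=
  comm_w S (D.commp ζ hζ) (D.commm ζ hζ)

theorem h_comm {ζ : G} (hζ : ζ ∈ Zc) {t : F} (ht : t ≠ 0) : S.h t * ζ = ζ * S.h t :=
  comm_h S (D.commp ζ hζ) (D.commm ζ hζ) ht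

theorem z_comm {ζ : G} (hζ : ζ ∈ Zc) : z * ζ = ζ * z := by
  rw [← D.hz]
  exact D.h_comm hζ (neg_ne_zero.2 one_ne_zero)

theorem w_z : ac S.w z = z := by
  rw [← D.hz, S.w_h _ (neg_ne_zero.2 one_ne_zero), inv_neg, inv_one]

theorem h_z {t : F} (ht : t ≠ 0) : ac (S.h t) z = z := by
  rw [← D.hz]
  have h1 : S.h t * S.h (-1) = S.h (-1) * S.h t := by
    rw [← S.h_mul _ _ ht (neg_ne_zero.2 one_ne_zero), ← S.h_mul _ _ (neg_ne_zero.2 one_ne_zero) ht,
      mul_comm]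
  exact ac_of_comm h1

theorem ac_w_C {x : G} : ac S.w x ∈ MM S.A' Zc z ↔ x ∈ MM S.A Zc z :=
  mem_MM_ac (onto_w_A S) (onto_of_comm fun _ h => D.w_comm h) D.w_z

theorem ac_w_B {x : G} : ac S.w x ∈ MM S.A Zc z ↔ x ∈ MM S.A' Zc z :=
  mem_MM_ac (onto_w_A' S) (onto_of_comm fun _ h => D.w_comm h) D.w_z

theorem ac_h_C {x : G} {t : F} (ht : t ≠ 0) : ac (S.h t) x ∈ MM S.A Zc z ↔ x ∈ MM S.A Zc z :=
  mem_MM_ac (onto_h_A S ht) (onto_of_comm fun _ h => D.h_comm h ht) (D.h_z ht)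

theorem ac_h_B {x : G} {t : F} (ht : t ≠ 0) : ac (S.h t) x ∈ MM S.A' Zc z ↔ x ∈ MM S.A' Zc z :=
  mem_MM_ac (onto_h_A' S ht) (onto_of_comm fun _ h => D.h_comm h ht) (D.h_z ht)

theorem C_inf_Z {x : G} (hx : x ∈ MM S.A Zc z) (hx' : x ∈ Zc) : x = 1 :=
  inv_of_comm_inv hx.1 hx.2.2.2 (D.z_comm hx')

theorem comm_BC {b c : G} (hb : b ∈ MM S.A' Zc z) (hc : c ∈ MM S.A Zc z) : ⁅b, c⁆ ∈ Zc :=
  D.hZ b c hb.1 hc.1 hb.2.2.1 hc.2.2.1 hb.2.2.2 hc.2.2.2

/-- The Weyl elements on `B`. -/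
theorem weyl_eq {b : G} (hb : b ∈ MM S.A' Zc z) {t : F} (ht : t ≠ 0) :
    ∃ ζ ∈ Zc, ac (S.xp t) b = b * ac (S.h t * S.w) b * ζ := by
  obtain ⟨c, hc, ζ, hζ, h1⟩ := D.up b hb t
  obtain ⟨b', hb', ζ', hζ', h2⟩ := D.dn c hc (-t⁻¹)
  have hbm : ∀ s, ac (S.xm s) b = b := fun s => ac_of_comm (hb.2.1 _ (S.xm_mem s))
  have hζm : ∀ ξ ∈ Zc, ∀ s, ac (S.xm s) ξ = ξ := fun ξ hξ s => ac_of_comm (D.commm ξ hξ s)
  have hd : ac (S.h t * S.w) b = b * (c * b' * ζ') * ζ := by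
    rw [← S.weyl t ht, ← ac_ac, ← ac_ac, hbm, h1, ac_mul, ac_mul, hbm, h2, hζm ζ hζ]
  have hdC : ac (S.h t * S.w) b ∈ MM S.A Zc z := by
    rw [← ac_ac]
    exact (D.ac_h_C ht).2 (D.ac_w_B.2 hb)
  set d := ac (S.h t * S.w) b with hdd
  set ξ := ⁅c⁻¹, b'⁻¹⁆ with hξ
  have hξZ : ξ ∈ Zc := by
    have hci := D.two.inv_mem hc
    have hbi := D.two'.inv_mem hb'
    exact D.hZ _ _ hci.1 hbi.1 hci.2.2.1 hbi.2.2.1 hci.2.2.2 hbi.2.2.2
  have h3 : c * b' = b' * c * ξ := by rw [hξ]; simp only [commutatorElement_def]; group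
  have hη : ξ * ζ' * ζ ∈ Zc := mul_mem (mul_mem hξZ hζ') hζ
  have h4 : d = b * b' * (c * (ξ * ζ' * ζ)) := by rw [hd, h3]; group
  generalize ξ * ζ' * ζ = η at hη h4
  have he : b * b' = 1 := by
    have hbb := D.two'.mul_mem hb hb'
    apply inv_of_comm_inv hbb.1 hbb.2.2.2
    have hm : ∀ s, S.xm s * (b * b') = b * b' * S.xm s := fun s => hbb.2.1 _ (S.xm_mem s)
    have hp : ∀ s, S.xp s * (b * b') = b * b' * S.xp s := by
      intro s
      have e1 : b * b' = d * (c * η)⁻¹ := by rw [h4]; group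
      have e2 : Commute (S.xp s) d := hdC.2.1 _ (S.xp_mem s)
      have e3 : Commute (S.xp s) c := hc.2.1 _ (S.xp_mem s)
      have e4 : Commute (S.xp s) η := D.commp η hη s
      rw [e1]
      exact Commute.mul_right e2 (Commute.inv_right (Commute.mul_right e3 e4))
    rw [← D.hz]
    exact comm_h S hp hm (neg_ne_zero.2 one_ne_zero)
  rw [he, one_mul] at h4
  have hη1 : η = 1 := by
    apply D.C_inf_Z _ hη
    have : η = c⁻¹ * d := by rw [h4]; group
    rw [this]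
    exact D.two.mul_mem (D.two.inv_mem hc) hdC
  rw [hη1, mul_one] at h4
  exact ⟨ζ, hζ, by rw [h1, h4]⟩

/-- additivity in the scalar -/
theorem dl_add {c : G} (hc : c ∈ MM S.A Zc z) (u v : F) : dl S (u + v) c = dl S u c * dl S v c := by
  set b := ac S.w⁻¹ c with hb
  have hbB : b ∈ MM S.A' Zc z := by
    rw [← D.ac_w_B, hb, ac_ac_inv]; exact hc
  have hdC : ∀ u, dl S u c ∈ MM S.A Zc z := by
    intro u
    by_cases hu : u = 0
    · subst hu; rw [dl_zero]; exact D.two.one_mem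
    · rw [dl_ne S hu]; exact (D.ac_h_C hu).2 hc
  have key : ∀ u : F, ∃ ζ ∈ Zc, ac (S.xp u) b = b * dl S u c * ζ := by
    intro u
    by_cases hu : u = 0
    · subst hu
      exact ⟨1, one_mem _, by rw [dl_zero, S.xp_zero, one_ac, mul_one, mul_one]⟩
    · obtain ⟨ζ, hζ, h1⟩ := D.weyl_eq hbB hu
      refine ⟨ζ, hζ, ?_⟩
      rw [h1, dl_ne S hu, ← ac_ac, hb, ac_ac_inv]
  obtain ⟨ζ1, hζ1, h1⟩ := key u
  obtain ⟨ζ2, hζ2, h2⟩ := key v
  obtain ⟨ζ3, hζ3, h3⟩ := key (u + v)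
  have hCp : ∀ x ∈ MM S.A Zc z, ac (S.xp u) x = x := fun x hx => ac_of_comm (hx.2.1 _ (S.xp_mem u))
  have h4 : ac (S.xp (u + v)) b = b * dl S u c * ζ1 * dl S v c * ζ2 := by
    rw [S.xp_add, ← ac_ac, h2, ac_mul, ac_mul, h1, hCp _ (hdC v), ac_of_comm (D.commp ζ2 hζ2 u)]
  have h5 : ζ1 * dl S v c = dl S v c * ζ1 := (hdC v).2.2.1 ζ1 hζ1
  rw [h3] at h4
  have h6 : dl S (u + v) c * ζ3 = dl S u c * dl S v c * (ζ1 * ζ2) := by
    have : b * dl S u c * ζ1 * dl S v c * ζ2 = b * (dl S u c * (ζ1 * dl S v c) * ζ2) := by group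
    rw [this, h5, mul_assoc] at h4
    have h7 := mul_left_cancel h4
    rw [h7]; group
  have h8 : (dl S u c * dl S v c)⁻¹ * dl S (u + v) c = 1 := by
    apply D.C_inf_Z
    · exact D.two.mul_mem (D.two.inv_mem (D.two.mul_mem (hdC u) (hdC v))) (hdC _)
    · have : (dl S u c * dl S v c)⁻¹ * dl S (u + v) c = ζ1 * ζ2 * ζ3⁻¹ := by
        rw [inv_mul_eq_iff_eq_mul, ← mul_assoc, ← h6]; group
      rw [this]
      exact mul_mem (mul_mem hζ1 hζ2) (inv_mem hζ3)
  rw [inv_mul_eq_one] at h8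
  exact h8.symm

theorem dl_mem {c : G} (hc : c ∈ MM S.A Zc z) (u : F) : dl S u c ∈ MM S.A Zc z := by
  by_cases hu : u = 0
  · subst hu; rw [dl_zero]; exact D.two.one_mem
  · rw [dl_ne S hu]; exact (D.ac_h_C hu).2 hc

end Side

/-- `C` is a vector space over `F` by `dl S`. -/
structure Dil {F : Type*} [Field F] (S : SLSys F G) (C : Subgroup G) : Prop where
  ab : ∀ x ∈ C, ∀ y ∈ C, x * y = y * x
  mem : ∀ c ∈ C, ∀ u, dl S u c ∈ C
  add : ∀ c ∈ C, ∀ u v, dl S (u + v) c = dl S u c * dl S v c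

theorem dl_mul_right {F : Type*} [Field F] (S : SLSys F G) (u : F) (c d : G) :
    dl S u (c * d) = dl S u c * dl S u d := by
  by_cases hu : u = 0
  · subst hu; rw [dl_zero, dl_zero, dl_zero, one_mul]
  · rw [dl_ne S hu, dl_ne S hu, dl_ne S hu, ac_mul]

theorem Side.dil {F : Type*} [Field F] {S : SLSys F G} {Zc : Subgroup G} {z : G} (D : Side S Zc z) :
    Dil S (MS S.A Zc z) where
  ab x hx y hy := D.two.comm (D.two.mem.1 hx) (D.two.mem.1 hy)
  mem c hc u := D.two.mem.2 (D.dl_mem (D.two.mem.1 hc) u)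
  add c hc u v := D.dl_add (D.two.mem.1 hc) u v

namespace Dil

variable {F : Type*} [Field F] {S : SLSys F G} {C : Subgroup G}

/-- The vector space. -/
def Vec (D : Dil S C) : Type _ := Additive C

variable (D : Dil S C)

instance : AddCommGroup D.Vec :=
  @Additive.addCommGroup C { (inferInstance : Group C) with
    mul_comm := fun x y => Subtype.ext (D.ab x x.2 y y.2) }

/-- The vector of an element. -/
def vec (x : C) : D.Vec := Additive.ofMul x

/-- The element of a vector. -/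
def el (v : D.Vec) : G := (Additive.toMul v : C)

theorem el_mem (v : D.Vec) : D.el v ∈ C := (Additive.toMul v : C).2

theorem el_vec (x : C) : D.el (D.vec x) = x := rfl

theorem el_inj {v w : D.Vec} (h : D.el v = D.el w) : v = w := Subtype.ext h

theorem el_add (v w : D.Vec) : D.el (v + w) = D.el v * D.el w := rfl

theorem el_zero : D.el 0 = 1 := rfl

theorem el_neg (v : D.Vec) : D.el (-v) = (D.el v)⁻¹ := rfl

noncomputable instance : Module F D.Vec where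
  smul u v := D.vec ⟨dl S u (D.el v), D.mem _ (D.el_mem v) u⟩
  one_smul v := D.el_inj (dl_one S _)
  mul_smul u w v := D.el_inj (dl_dl S u w _).symm
  smul_zero u := D.el_inj (by
    show dl S u 1 = 1
    by_cases hu : u = 0
    · subst hu; exact dl_zero S _
    · rw [dl_ne S hu, ac_one])
  smul_add u v w := D.el_inj (dl_mul_right S u _ _)
  add_smul u w v := D.el_inj (D.add _ (D.el_mem v) u w)
  zero_smul v := D.el_inj (dl_zero S _)

theorem el_smul (u : F) (v : D.Vec) : D.el (u • v) = dl S u (D.el v) := rfl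

theorem exists_el {x : G} (hx : x ∈ C) : ∃ v, D.el v = x := ⟨D.vec ⟨x, hx⟩, rfl⟩

instance [Finite G] : Finite D.Vec := inferInstanceAs (Finite C)

theorem card_vec : Nat.card D.Vec = Nat.card C := rfl

end Dil

end Cfsg.Agent.Cit.OmB3.Side
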