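import Cfsg.Agent.Cit.OmB3.Big

/-!
# The splitting of `M` under the third factor, group level

`PP M Y = C_M(Y)`, `MZ M Y Y' = [M,Y] ∩ [M,Y']`: the root groups `e₁ + e₃`, `e₁` (and `e₁ - e₃` for `Y'`).
-/

set_option autoImplicit false
set_option linter.unusedSectionVars false
set_option linter.unusedVariables false
set_option linter.dupNamespace false

namespace Cfsg.Agent.Cit.OmB3.Split

open scoped commutatorElement
open Module
open Cfsg.Agent.RootAmalgam (Onto Maps PairData)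
open Cfsg.Agent.Cit.LemmaATwo Cfsg.Agent.Cit.OmB3.Side Cfsg.Agent.Cit.OmB3.Siegel
  Cfsg.Agent.Cit.OmB3.Form Cfsg.Agent.Cit.OmB3.Big
open Cfsg.Agent.Cit.OmB3.Form.Four (MG)

variable {G : Type*} [Group G] {F : Type*} [Field F]

/-- The fixed points. -/
def PP (M Y : Subgroup G) : Subgroup G := M ⊓ Subgroup.centralizer (Y : Set G)

/-- The middle part. -/
def MZ (M Y Y' : Subgroup G) : Subgroup G := ⁅M, Y⁆ ⊓ ⁅M, Y'⁆

theorem mem_PP {M Y : Subgroup G} {x : G} : x ∈ PP M Y ↔ x ∈ M ∧ ∀ y ∈ Y, y * x = x * y := by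
  unfold PP
  rw [Subgroup.mem_inf, Subgroup.mem_centralizer_iff]
  rfl

theorem MZ_symm (M Y Y' : Subgroup G) : MZ M Y Y' = MZ M Y' Y := by unfold MZ; rw [inf_comm]

variable {p m : ℕ} {S1 S2 : SLSys F G} {z : G} {Y Y' : Subgroup G}
  [Finite G] [Finite F] [Fact p.Prime] [CharP F p] {D : Big p m S1 S2 z Y Y'} {h2 : (2 : F) ≠ 0}
  {f f' : D.four.V}

theorem pr_symm (R : D.Pr h2 f f') : D.symm.Pr h2 f' f := by
  have hV : V0 (D.four.beta h2) f' f = V0 (D.four.beta h2) f f' := V0_swap (D.four.frm h2) R.hyp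
  exact ⟨R.hyp.symm (D.four.frm h2), R.sie', R.sie,
    fun w hw => R.full' w (by rw [← hV]; exact hw),
    fun w hw => R.full w (by rw [← hV]; exact hw),
    fun w hw => R.aniso w (by rw [← hV]; exact hw)⟩

/-- A nonzero vector of `V0`. -/
theorem exists_w0 (R : D.Pr h2 f f') : ∃ w ∈ V0 (D.four.beta h2) f f', w ≠ 0 := by
  have h1 := finrank_V0 (D.four.frm h2) R.hyp
  rw [D.finrank_V] at h1
  have h3 : Nontrivial (V0 (D.four.beta h2) f f') := by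
    apply Module.nontrivial_of_finrank_pos (R := F)
    have := D.hm
    omega
  obtain ⟨w, hw⟩ := exists_ne (0 : V0 (D.four.beta h2) f f')
  exact ⟨w, w.2, fun h => hw (Subtype.ext h)⟩

theorem mem_PP_iff (R : D.Pr h2 f f') {x : G} :
    x ∈ PP (MG S1 S2 z) Y ↔ ∃ a : F, D.four.s1.dil.el (a • f) = x := by
  rw [mem_PP]
  constructor
  · rintro ⟨hx, hc⟩
    obtain ⟨v, rfl⟩ := D.four.s1.dil.exists_el hx
    obtain ⟨w0, hw0, hw01⟩ := exists_w0 R
    have h1 := eq_of_fixed (D.four.frm h2) R.hyp h2 R.aniso hw0 hw01 (v := v) (by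
      intro w hw
      obtain ⟨y, hy⟩ := R.full w hw
      refine ⟨_, R.sie y, hy, ?_⟩
      apply D.four.s1.dil.el_inj
      rw [Big.el_rY]
      exact ac_of_comm (hc y y.2))
    exact ⟨_, congrArg _ h1.symm⟩
  · rintro ⟨a, rfl⟩
    refine ⟨Dil.el_mem _ _, fun y hy => ?_⟩
    have h1 : D.rY ⟨y, hy⟩ (a • f) = a • f := by rw [map_smul, (R.sie ⟨y, hy⟩).fix]
    have h3 := congrArg D.four.s1.dil.el h1
    rw [Big.el_rY] at h3
    exact comm_of_ac h3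

theorem mem_PP_iff' (R : D.Pr h2 f f') {x : G} :
    x ∈ PP (MG S1 S2 z) Y' ↔ ∃ a : F, D.four.s1.dil.el (a • f') = x := mem_PP_iff (pr_symm R)

theorem mem_comm_iff (R : D.Pr h2 f f') {x : G} :
    x ∈ ⁅MG S1 S2 z, Y⁆ ↔ ∃ v, D.four.beta h2 v f = 0 ∧ D.four.s1.dil.el v = x := by
  have hB := D.four.frm h2
  constructor
  · intro hx
    let L : Subgroup G :=
      { carrier := {x | ∃ v, D.four.beta h2 v f = 0 ∧ D.four.s1.dil.el v = x}
        mul_mem' := by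
          rintro _ _ ⟨v, hv, rfl⟩ ⟨w, hw, rfl⟩
          exact ⟨v + w, by rw [map_add, LinearMap.add_apply, hv, hw, add_zero], rfl⟩
        one_mem' := ⟨0, by rw [map_zero]; rfl, rfl⟩
        inv_mem' := by
          rintro _ ⟨v, hv, rfl⟩
          exact ⟨-v, by rw [map_neg, LinearMap.neg_apply, hv, neg_zero], rfl⟩ }
    have h1 : ⁅MG S1 S2 z, Y⁆ ≤ L := by
      rw [Subgroup.commutator_le]
      intro g hg y hy
      obtain ⟨v, rfl⟩ := D.four.s1.dil.exists_el hg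
      refine ⟨v - D.rY ⟨y, hy⟩ v, ?_, ?_⟩
      · have h3 := (R.sie ⟨y, hy⟩).iso v f
        rw [(R.sie ⟨y, hy⟩).fix] at h3
        rw [map_sub, LinearMap.sub_apply, h3, sub_self]
      · rw [sub_eq_add_neg, Dil.el_add, Dil.el_neg, Big.el_rY, commutatorElement_def]
        show _ * (y * D.four.s1.dil.el v * y⁻¹)⁻¹ = _
        group
    exact h1 hx
  · rintro ⟨v, hv, rfl⟩
    -- multiples of `f`
    have hmul : ∀ a : F, D.four.s1.dil.el (a • f) ∈ ⁅MG S1 S2 z, Y⁆ := by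
      intro a
      obtain ⟨w0, hw0, hw01⟩ := exists_w0 R
      obtain ⟨y, hy⟩ := R.full w0 hw0
      have hne : D.four.beta h2 w0 w0 ≠ 0 := fun h => hw01 (R.aniso w0 hw0 h)
      have h3 := (R.sie y).apply_V0 hB R.hyp
        (v := (a / D.four.beta h2 w0 w0) • w0) (Submodule.smul_mem _ _ hw0)
      have e0 : D.four.beta h2 ((a / D.four.beta h2 w0 w0) • w0) w0 = a := by
        rw [map_smul, LinearMap.smul_apply, smul_eq_mul, div_mul_cancel₀ _ hne]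
      rw [hy, e0] at h3
      have h4 : a • f = (a / D.four.beta h2 w0 w0) • w0 - D.rY y ((a / D.four.beta h2 w0 w0) • w0) := by
        rw [h3]; abel
      rw [h4, sub_eq_add_neg, Dil.el_add, Dil.el_neg, Big.el_rY]
      have h5 := Subgroup.commutator_mem_commutator
        (Dil.el_mem D.four.s1.dil ((a / D.four.beta h2 w0 w0) • w0)) y.2
      rw [commutatorElement_def] at h5
      show _ * ((y : G) * _ * (y : G)⁻¹)⁻¹ ∈ _
      have e : ∀ b y : G, b * (y * b * y⁻¹)⁻¹ = b * y * b⁻¹ * y⁻¹ := by intro b y; group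
      rw [e]; exact h5
    have hp := pr_mem hB R.hyp v
    have hd := decomp (B := D.four.beta h2) (f := f) (f' := f') v
    rw [hv, zero_smul, add_zero] at hd
    obtain ⟨y, hy⟩ := R.full (-pr (D.four.beta h2) f f' v) (Submodule.neg_mem _ hp)
    have h3 := (R.sie y).apply_f' hB R.hyp h2
    rw [hy] at h3
    have h4 : v = (f' - D.rY y f') + (D.four.beta h2 v f' -
        (2 : F)⁻¹ * D.four.beta h2 (-pr (D.four.beta h2) f f' v) (-pr (D.four.beta h2) f f' v)) • f := by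
      rw [h3]
      conv_lhs => rw [hd]
      rw [sub_smul]
      abel
    rw [h4, Dil.el_add]
    refine mul_mem ?_ (hmul _)
    rw [sub_eq_add_neg, Dil.el_add, Dil.el_neg, Big.el_rY]
    have h5 := Subgroup.commutator_mem_commutator (Dil.el_mem D.four.s1.dil f') y.2
    rw [commutatorElement_def] at h5
    show _ * ((y : G) * _ * (y : G)⁻¹)⁻¹ ∈ _
    have e : ∀ b y : G, b * (y * b * y⁻¹)⁻¹ = b * y * b⁻¹ * y⁻¹ := by intro b y; group
    rw [e]; exact h5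

theorem mem_MZ_iff (R : D.Pr h2 f f') {x : G} :
    x ∈ MZ (MG S1 S2 z) Y Y' ↔ ∃ v ∈ V0 (D.four.beta h2) f f', D.four.s1.dil.el v = x := by
  unfold MZ
  rw [Subgroup.mem_inf, mem_comm_iff R, mem_comm_iff (pr_symm R)]
  constructor
  · rintro ⟨⟨v, hv, hx⟩, w, hw, hx'⟩
    have : w = v := D.four.s1.dil.el_inj (by rw [hx]; exact hx')
    subst this
    exact ⟨w, ⟨hv, hw⟩, hx⟩
  · rintro ⟨v, hv, hx⟩
    exact ⟨⟨v, hv.1, hx⟩, v, hv.2, hx⟩

section onto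

theorem onto_commutator {g : G} {M M1 Y Y1 : Subgroup G} (h : Onto g M M1) (hY : Onto g Y Y1) :
    Onto g ⁅M, Y⁆ ⁅M1, Y1⁆ := by
  have hmap : ∀ {A B : Subgroup G}, Onto g A B → A.map (MulAut.conj g).toMonoidHom = B := by
    intro A B hAB
    ext x
    simp only [Subgroup.mem_map, MulEquiv.coe_toMonoidHom, MulAut.conj_apply]
    constructor
    · rintro ⟨a, ha, rfl⟩; exact hAB.mem ha
    · intro hx; exact ⟨g⁻¹ * x * g, hAB.mem_inv hx, by group⟩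
  intro x
  have h1 : (⁅M, Y⁆).map (MulAut.conj g).toMonoidHom = ⁅M1, Y1⁆ := by
    rw [Subgroup.map_commutator, hmap h, hmap hY]
  rw [← h1]
  constructor
  · rintro ⟨a, ha, hx⟩
    have : a = x := (MulAut.conj g).injective hx
    rw [← this]; exact ha
  · intro hx
    exact ⟨x, hx, rfl⟩

theorem onto_PP {g : G} {M M1 Y Y1 : Subgroup G} (h : Onto g M M1) (hY : Onto g Y Y1) :
    Onto g (PP M Y) (PP M1 Y1) := by
  intro x
  rw [mem_PP, mem_PP, h x]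
  have := comm_onto hY (x := x)
  exact and_congr_right fun _ => this

theorem onto_MZ {g : G} {M M1 Y Y1 Y' Y1' : Subgroup G} (h : Onto g M M1) (hY : Onto g Y Y1)
    (hY' : Onto g Y' Y1') : Onto g (MZ M Y Y') (MZ M1 Y1 Y1') := by
  intro x
  unfold MZ
  rw [Subgroup.mem_inf, Subgroup.mem_inf, onto_commutator h hY x, onto_commutator h hY' x]

end onto

section basic

theorem onto_w2_Y (D : Big p m S1 S2 z Y Y') : Onto S2.w Y Y :=
  onto_of_comm fun y hy => w2_CC (D.Yc hy)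

theorem onto_w2_M (D : Big p m S1 S2 z Y Y') : Onto S2.w (MG S1 S2 z) (MG S1 S2.opp z) :=
  fun x => D.four.w2_mem

theorem onto_w2_PP (D : Big p m S1 S2 z Y Y') : Onto S2.w (PP (MG S1 S2 z) Y) (PP (MG S1 S2.opp z) Y) :=
  onto_PP (onto_w2_M D) (onto_w2_Y D)

theorem onto_w2_MZ (D : Big p m S1 S2 z Y Y') :
    Onto S2.w (MZ (MG S1 S2 z) Y Y') (MZ (MG S1 S2.opp z) Y Y') :=
  onto_MZ (onto_w2_M D) (onto_w2_Y D) (onto_w2_Y D.symm)

theorem PP_le (M Y : Subgroup G) : PP M Y ≤ M := inf_le_left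

theorem MZ_le (R : D.Pr h2 f f') : MZ (MG S1 S2 z) Y Y' ≤ MG S1 S2 z := by
  intro x hx
  obtain ⟨v, hv, rfl⟩ := (mem_MZ_iff R).1 hx
  exact Dil.el_mem _ _

theorem exists_decomp (R : D.Pr h2 f f') {x : G} (hx : x ∈ MG S1 S2 z) :
    ∃ a ∈ PP (MG S1 S2 z) Y, ∃ b ∈ MZ (MG S1 S2 z) Y Y', ∃ c ∈ PP (MG S1 S2 z) Y', x = a * b * c := by
  obtain ⟨v, rfl⟩ := D.four.s1.dil.exists_el hx
  refine ⟨D.four.s1.dil.el (D.four.beta h2 v f' • f), (mem_PP_iff R).2 ⟨_, rfl⟩,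
    D.four.s1.dil.el (pr (D.four.beta h2) f f' v),
    (mem_MZ_iff R).2 ⟨_, pr_mem (D.four.frm h2) R.hyp v, rfl⟩,
    D.four.s1.dil.el (D.four.beta h2 v f • f'), (mem_PP_iff' R).2 ⟨_, rfl⟩, ?_⟩
  rw [← Dil.el_add, ← Dil.el_add]
  congr 1
  have hd := decomp (B := D.four.beta h2) (f := f) (f' := f') v
  rw [add_assoc, add_comm (pr (D.four.beta h2) f f' v), ← add_assoc]
  exact hd

theorem f_ne (R : D.Pr h2 f f') : f ≠ 0 := by
  intro h
  have h1 := R.hyp.ff'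
  rw [h, map_zero] at h1
  exact zero_ne_one h1

theorem card_PP (R : D.Pr h2 f f') : Nat.card (PP (MG S1 S2 z) Y) = Nat.card F := by
  symm
  have hmem : ∀ a : F, D.four.s1.dil.el (a • f) ∈ PP (MG S1 S2 z) Y :=
    fun a => (mem_PP_iff R).2 ⟨a, rfl⟩
  apply Nat.card_congr
  refine Equiv.ofBijective (fun a => ⟨D.four.s1.dil.el (a • f), hmem a⟩) ⟨?_, ?_⟩
  · intro a b hab
    have h0 : D.four.s1.dil.el (a • f) = D.four.s1.dil.el (b • f) :=
      congrArg (fun x : PP (MG S1 S2 z) Y => (x : G)) hab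
    have h1 := D.four.s1.dil.el_inj h0
    have h3 : (a - b) • f = 0 := by rw [sub_smul, h1, sub_self]
    exact sub_eq_zero.1 ((smul_eq_zero.1 h3).resolve_right (f_ne R))
  · rintro ⟨x, hx⟩
    obtain ⟨a, ha⟩ := (mem_PP_iff R).1 hx
    exact ⟨a, Subtype.ext ha⟩

theorem card_MZ (R : D.Pr h2 f f') : Nat.card (MZ (MG S1 S2 z) Y Y') = Nat.card F ^ (m - 2) := by
  have h3 : Nat.card (V0 (D.four.beta h2) f f') =
      Nat.card F ^ finrank F (V0 (D.four.beta h2) f f') := Module.natCard_eq_pow_finrank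
  have h4 := finrank_V0 (D.four.frm h2) R.hyp
  rw [D.finrank_V] at h4
  have h5 : finrank F (V0 (D.four.beta h2) f f') = m - 2 := by omega
  rw [← h5, ← h3]
  symm
  apply Nat.card_congr
  refine Equiv.ofBijective (fun v => ⟨D.four.s1.dil.el (v : D.four.V), (mem_MZ_iff R).2 ⟨v, v.2, rfl⟩⟩)
    ⟨?_, ?_⟩
  · intro a b hab
    have h0 : D.four.s1.dil.el (a : D.four.V) = D.four.s1.dil.el (b : D.four.V) :=
      congrArg (fun x : MZ (MG S1 S2 z) Y Y' => (x : G)) hab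
    exact Subtype.ext (D.four.s1.dil.el_inj h0)
  · rintro ⟨x, hx⟩
    obtain ⟨v, hv, ha⟩ := (mem_MZ_iff R).1 hx
    exact ⟨⟨v, hv⟩, Subtype.ext ha⟩

theorem dl_mem_PP (R : D.Pr h2 f f') {x : G} (hx : x ∈ PP (MG S1 S2 z) Y) (u : F) :
    dl S1 u x ∈ PP (MG S1 S2 z) Y := by
  obtain ⟨a, rfl⟩ := (mem_PP_iff R).1 hx
  exact (mem_PP_iff R).2 ⟨u * a, by rw [mul_smul, Dil.el_smul]⟩

theorem exists_dl_PP (R : D.Pr h2 f f') {x y : G} (hx : x ∈ PP (MG S1 S2 z) Y) (hx1 : x ≠ 1)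
    (hy : y ∈ PP (MG S1 S2 z) Y) : ∃ u, dl S1 u x = y := by
  obtain ⟨a, rfl⟩ := (mem_PP_iff R).1 hx
  obtain ⟨b, rfl⟩ := (mem_PP_iff R).1 hy
  have ha : a ≠ 0 := by
    rintro rfl
    apply hx1
    rw [zero_smul]; rfl
  refine ⟨b / a, ?_⟩
  rw [← Dil.el_smul, smul_smul, div_mul_cancel₀ _ ha]

/-- Commuting with `w₂`-conjugates is orthogonality. -/
theorem comm_iff (D : Big p m S1 S2 z Y Y') (h2 : (2 : F) ≠ 0) (v w : D.four.V) :
    D.four.s1.dil.el v * ac S2.w (D.four.s1.dil.el w) =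
      ac S2.w (D.four.s1.dil.el w) * D.four.s1.dil.el v ↔ D.four.beta h2 v w = 0 :=
  (D.four.beta_eq_zero h2 v w).symm

/-- An element of `PP M⁻ Y` is conjugate under `w₂` to an element of `PP M Y`. -/
theorem exists_w2 {A B : Subgroup G} (h : Onto S2.w A B) {y : G} (hy : y ∈ B) :
    ∃ y1 ∈ A, ac S2.w y1 = y :=
  ⟨S2.w⁻¹ * y * S2.w, h.mem_inv hy, by unfold ac; group⟩

theorem comm_pp (R : D.Pr h2 f f') {x y : G} (hx : x ∈ PP (MG S1 S2 z) Y)
    (hy : y ∈ PP (MG S1 S2.opp z) Y) : x * y = y * x := by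
  obtain ⟨y1, hy1, rfl⟩ := exists_w2 (onto_w2_PP D) hy
  obtain ⟨a, rfl⟩ := (mem_PP_iff R).1 hx
  obtain ⟨b, rfl⟩ := (mem_PP_iff R).1 hy1
  rw [comm_iff D h2, map_smul, map_smul, LinearMap.smul_apply, R.hyp.ff, smul_zero, smul_zero]

theorem comm_pz (R : D.Pr h2 f f') {x y : G} (hx : x ∈ PP (MG S1 S2 z) Y)
    (hy : y ∈ MZ (MG S1 S2.opp z) Y Y') : x * y = y * x := by
  obtain ⟨y1, hy1, rfl⟩ := exists_w2 (onto_w2_MZ D) hy
  obtain ⟨a, rfl⟩ := (mem_PP_iff R).1 hx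
  obtain ⟨v, hv, rfl⟩ := (mem_MZ_iff R).1 hy1
  rw [comm_iff D h2, map_smul, LinearMap.smul_apply, (D.four.frm h2).symm, hv.1, smul_zero]

theorem comm_zp (R : D.Pr h2 f f') {x y : G} (hx : x ∈ MZ (MG S1 S2 z) Y Y')
    (hy : y ∈ PP (MG S1 S2.opp z) Y) : x * y = y * x := by
  obtain ⟨y1, hy1, rfl⟩ := exists_w2 (onto_w2_PP D) hy
  obtain ⟨a, rfl⟩ := (mem_PP_iff R).1 hy1
  obtain ⟨v, hv, rfl⟩ := (mem_MZ_iff R).1 hx
  rw [comm_iff D h2, map_smul, hv.1, smul_zero]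

theorem ncomm_pm (R : D.Pr h2 f f') {x y : G} (hx : x ∈ PP (MG S1 S2 z) Y) (hx1 : x ≠ 1)
    (hy : y ∈ PP (MG S1 S2.opp z) Y') (hy1 : y ≠ 1) : x * y ≠ y * x := by
  obtain ⟨y1, hy1', rfl⟩ := exists_w2 (onto_w2_PP D.symm) hy
  obtain ⟨a, rfl⟩ := (mem_PP_iff R).1 hx
  obtain ⟨b, rfl⟩ := (mem_PP_iff' R).1 hy1'
  have ha : a ≠ 0 := by
    rintro rfl
    apply hx1
    rw [zero_smul]; rfl
  have hb : b ≠ 0 := by
    rintro rfl
    apply hy1
    rw [zero_smul]; exact ac_one _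
  rw [Ne, comm_iff D h2, map_smul, map_smul, LinearMap.smul_apply, R.hyp.ff', smul_eq_mul, smul_eq_mul,
    mul_one]
  exact mul_ne_zero hb ha

/-- The middle part is the orthogonal space of the outer parts. -/
theorem mem_MZ_of_comm (R : D.Pr h2 f f') {x : G} (hx : x ∈ MG S1 S2 z)
    (h1 : ∀ y ∈ PP (MG S1 S2.opp z) Y, x * y = y * x)
    (h3 : ∀ y ∈ PP (MG S1 S2.opp z) Y', x * y = y * x) : x ∈ MZ (MG S1 S2 z) Y Y' := by
  obtain ⟨v, rfl⟩ := D.four.s1.dil.exists_el hx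
  have hf : D.four.s1.dil.el f ∈ PP (MG S1 S2 z) Y := (mem_PP_iff R).2 ⟨1, by rw [one_smul]⟩
  have hf' : D.four.s1.dil.el f' ∈ PP (MG S1 S2 z) Y' := (mem_PP_iff' R).2 ⟨1, by rw [one_smul]⟩
  exact (mem_MZ_iff R).2 ⟨v, ⟨(comm_iff D h2 _ _).1 (h1 _ ((onto_w2_PP D).mem hf)),
    (comm_iff D h2 _ _).1 (h3 _ ((onto_w2_PP D.symm).mem hf'))⟩, rfl⟩

/-- an element of the middle part commuting with its `w₂`-conjugate is trivial -/
theorem ncomm_zz (R : D.Pr h2 f f') {x : G} (hx : x ∈ MZ (MG S1 S2 z) Y Y') (hx1 : x ≠ 1) :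
    ac S2.w x ∈ MZ (MG S1 S2.opp z) Y Y' ∧ x * ac S2.w x ≠ ac S2.w x * x := by
  refine ⟨(onto_w2_MZ D).mem hx, ?_⟩
  obtain ⟨v, hv, rfl⟩ := (mem_MZ_iff R).1 hx
  rw [Ne, comm_iff D h2]
  intro h
  apply hx1
  rw [R.aniso v hv h]; rfl

/-- The part `c` of an element commuting with `PP M⁻ Y` is trivial. -/
theorem PP'_inf (R : D.Pr h2 f f') {x : G} (hx : x ∈ PP (MG S1 S2 z) Y) (hx' : x ∈ PP (MG S1 S2 z) Y') :
    x = 1 := by
  obtain ⟨a, rfl⟩ := (mem_PP_iff R).1 hx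
  obtain ⟨b, hb⟩ := (mem_PP_iff' R).1 hx'
  have h1 := D.four.s1.dil.el_inj hb
  have h3 := congrArg (fun v => D.four.beta h2 v f') h1
  simp only [map_smul, LinearMap.smul_apply, R.hyp.ff', R.hyp.f'f', smul_eq_mul, mul_zero,
    mul_one] at h3
  rw [← h3, zero_smul]; rfl

end basic

end Cfsg.Agent.Cit.OmB3.Split
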