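import Cfsg.Agent.Cit.TypeD4Prov
import Cfsg.Agent.Cit.OmB3.Nd

/-!
# Two commuting members over one involution: the exact parabolics (identification of `Ω₇(q)` and `Ω₈⁻(q)`)

`Prov Om F p na nv K X a La Lv` : commuting members `K 0`, `K 1 ≅ SL₂(F)` with the same involution `z`, an involution
`a` centralising them and the groups `O(C(K i))`; `La`, `Lv` are pieces of `C(a)`, `C(z a)` containing `K 0`, `K 1`,
with charts of type `A 3` or `C 2`, `|VV r| = q ^ na`, `q ^ nv`.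

* `Prov.fr` : the frame;
* `Prov.exists_rc` : the roots of the frame in the charts; `Q i s ∩ C(a) = VV r`;
* `Prov.inb` : `InB`: `|Q i s| = q ^ (na + nv - 1)`, the action is quadratic, nondegeneracy.
-/

set_option autoImplicit false
set_option linter.unusedSectionVars false

namespace Cfsg.Agent.Cit.OmB3.Sup

open Subgroup Cfsg
open Cfsg.Agent.Cit.Parab Cfsg.Agent.Cit.LemmaUQ Cfsg.Agent.Cit.ParabSL2 Cfsg.Agent.Cit.FrameSign
  Cfsg.Agent.Cit.FrameOf Cfsg.Agent.Cit.CoreFrame Cfsg.Agent.Cit.TypeD4 Cfsg.Agent.Cit.SLSysOf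
  Cfsg.Agent.Cit.LemmaATwo Cfsg.Agent.Cit.TypeD4Prov
open CoxeterSystem Cfsg.Agent.ChevalleyStructure.CoxeterGeom Cfsg.Agent.Nodes.Chart Cfsg.Agent.Nodes.ChartLoc
  Cfsg.Agent.Nodes.Comb Cfsg.Agent.Nodes.ClsNorm Cfsg.Agent.Nodes.Reps Cfsg.Agent.Tits.Roots
  Cfsg.Agent.Tits.Core Cfsg.Agent.Tits.RootComb
open scoped commutatorElement

variable {G : Type*} [Group G] [Finite G] {Om : Set (Subgroup G)}

/-- A piece `L` of `⟨Om ∩ C(u)⟩` containing the `K i`, with a chart of type `A 3` or `C 2`, `|VV r| = q ^ n`. -/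
structure LocU (Om : Set (Subgroup G)) (p q n : ℕ) {ι : Type*} (K : ι → Subgroup G) (u : G) (L : Subgroup G) :
    Prop where
  piece : FrameOf.Piece Om u L
  le : ∀ i, K i ≤ L
  two : 2 ≤ n
  chart : ∃ c : Chart Om p L, (c.IsTy (.A 3) ∨ c.IsTy (.C 2)) ∧
    ∀ r ∈ c.R, Nat.card (VV c.cs c.h c.X r) = q ^ n

section Dat

variable {ι : Type*} {F : Type*} [Field F] [Fintype F] {K : ι → Subgroup G}
  {X : ι → SignType → Subgroup G} {p n : ℕ} [CharP F p] (D : Dat Om F K X)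

include D

theorem z_ne {L : Subgroup G} (c : Chart Om p L) (hn : 2 ≤ n)
    (hcard : ∀ r ∈ c.R, Nat.card (VV c.cs c.h c.X r) = Nat.card F ^ n)
    {i : ι} (hi : K i ≤ L) : ∀ r ∈ c.R, c.z r ≠ 1 := by
  have hp := Fact.mk c.prime
  obtain ⟨r0, hr0, g, hg, h1⟩ := c.om_conj (K i) (D.mem i) hi
  obtain ⟨e', -, -⟩ := D.sl i
  have hm1 : (-1 : SignType) ≠ 0 := by decide
  obtain ⟨k, hk, h2, h3⟩ := Nodes.ChartLoc.exists_pair_conj c.cls c.odd hr0 (by rw [GG_eq]; exact hg) h1 e'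
    (D.X_le i one_ne_zero) (D.card_X i one_ne_zero) (D.X_le i hm1) (D.card_X i hm1) (D.X_ne i one_ne_zero)
  have h4 : Nat.card (c.Z r0) = Nat.card F := by
    have h5 := D.card_X i (one_ne_zero (α := SignType))
    rw [h2, card_cj] at h5
    rw [h5, Nat.card_eq_fintype_card]
  intro r hr hz
  obtain ⟨w, rfl⟩ := c.trans r0 hr0 r hr
  obtain ⟨n', hn'⟩ := exists_rp c.cs c.cls.rgd.nsys w
  have h5 : Nat.card (c.Z (rep c.cs c.h w r0)) = Nat.card F := by
    rw [← conj_Z c.cls hn' hr0, Nodes.Reps.cj, Subgroup.card_map_of_injective (MulAut.conj n').injective, h4]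
  have h6 : VV c.cs c.h c.X (rep c.cs c.h w r0) ≤ c.Z (rep c.cs c.h w r0) := by
    intro v hv
    refine mem_Z_of_commute c.cls c.odd hr hv ?_
    rw [hz, mul_one, one_mul]
  have h7 := Subgroup.card_le_of_le h6
  rw [h5, hcard _ hr] at h7
  have h9 : 1 < Nat.card F := by rw [Nat.card_eq_fintype_card]; exact Fintype.one_lt_card
  have h8 : Nat.card F ^ 1 < Nat.card F ^ n := Nat.pow_lt_pow_right h9 (by omega)
  rw [pow_one] at h8
  omega

variable [Finite ι]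

/-- the adapted chart, from any chart -/
theorem exists_chart_of {u : G} {L : Subgroup G} (U : LocU Om p (Nat.card F) n K u L) (i : ι) (c0 : Chart Om p L)
    (hc : ∀ r ∈ c0.R, Nat.card (VV c0.cs c0.h c0.X r) = Nat.card F ^ n) :
    ∃ (c : Chart Om p L) (gr : ι → c.I → ℤ), Adapted K X c gr ∧ (∀ τ, c0.IsTy τ → c.IsTy τ) ∧
      ∀ r ∈ c.R, Nat.card (VV c.cs c.h c.X r) = Nat.card F ^ n := by
  have : Fact p.Prime := ⟨c0.prime⟩
  obtain ⟨y, hy, gr, hA⟩ := exists_adapted c0 (z_ne D c0 U.two hc (U.le i)) D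
  refine ⟨conjChart c0 hy D.hyp.conj, gr, hA, fun τ hτ => hτ, fun r hr => ?_⟩
  have e1 := congrArg (fun S : Subgroup G => Nat.card S) (VV_conj c0 hy D.hyp.conj r)
  exact e1.trans ((card_cj _ _).trans (hc r hr))

/-- the adapted chart -/
theorem exists_chart {u : G} {L : Subgroup G} (U : LocU Om p (Nat.card F) n K u L) (i : ι) :
    ∃ (c : Chart Om p L) (gr : ι → c.I → ℤ), Adapted K X c gr ∧ (c.IsTy (.A 3) ∨ c.IsTy (.C 2)) ∧
      ∀ r ∈ c.R, Nat.card (VV c.cs c.h c.X r) = Nat.card F ^ n := by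
  obtain ⟨c0, hty, hc⟩ := U.chart
  obtain ⟨c, gr, hA, h1, h2⟩ := exists_chart_of D U i c0 hc
  exact ⟨c, gr, hA, hty.imp (h1 _) (h1 _), h2⟩

omit [Finite ι] in
theorem Qw_le (hF : Odd (Fintype.card F)) {t : G} {L : Subgroup G} (P : FrameOf.Piece Om t L) {i : ι} (hi : K i ≤ L)
    (c : Chart Om p L) {gr : ι → c.I → ℤ} (hA : Adapted K X c gr) :
    Qw (Parab.core (X i 1)) (zz (K i)) t ≤ VV c.cs c.h c.X (gr i) := by
  have hl := D.long hF i (one_ne_zero (α := SignType))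
  rw [Qw, Subgroup.commutator_le]
  rintro a ⟨ha, hat⟩ b hb
  obtain ⟨k, rfl⟩ := mem_zpowers_iff.1 hb
  have hzz2 : zz (K i) ^ (2 : ℤ) = 1 := by rw [zpow_two]; exact hl.zsq
  rcases Int.even_or_odd k with ⟨m, hm⟩ | ⟨m, hm⟩
  · rw [hm, ← two_mul, zpow_mul, hzz2, one_zpow, commutatorElement_one_right]
    exact one_mem _
  · rw [hm, zpow_add, zpow_mul, hzz2, one_zpow, one_mul, zpow_one]
    exact comm_VV D hF P hi one_ne_zero c (hA.mem i hi) (hA.pos i hi) (hA.zz i hi) ha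
      (mem_centralizer_singleton_iff.1 hat)

/-- **`Good` from the pieces of `C(a)` and `C(z a)`.** -/
theorem good_of (hF : Odd (Fintype.card F)) {a : G} {La Lv : Subgroup G} {na nv : ℕ} (i : ι)
    (haa : a * a = 1) (haK : ∀ k ∈ K i, a * k = k * a) (hac : ∀ d ∈ Parab.core (K i), a * d = d * a)
    (Ua : LocU Om p (Nat.card F) na K a La) (Uv : LocU Om p (Nat.card F) nv K (zz (K i) * a) Lv)
    (hs : Group.IsSolvable (Parab.core (X i 1))) : Good p (X i 1) (zz (K i)) := by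
  obtain ⟨c, gr, hA, -, -⟩ := exists_chart D Ua i
  obtain ⟨c', gr', hA', -, -⟩ := exists_chart D Uv i
  have : Fact p.Prime := ⟨c.prime⟩
  have hl := D.long hF i (one_ne_zero (α := SignType))
  have h1 := Qw_le D hF Ua.piece (Ua.le i) c hA
  have h2 := Qw_le D hF Uv.piece (Uv.le i) c' hA'
  refine PairUQ.good_of_pair hl (D.isPGroup i one_ne_zero) haa haK hac hs
    ((isPGroup_VV c.cls (gr i)).to_le h1) ((isPGroup_VV c'.cls (gr' i)).to_le h2) ?_ ?_
  · refine (Subgroup.commutator_mono h1 h1).trans ?_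
    rw [← hA.pos i (Ua.le i)]
    exact commutator_VV_le c.cls c.odd (hA.mem i (Ua.le i))
  · refine (Subgroup.commutator_mono h2 h2).trans ?_
    rw [← hA'.pos i (Uv.le i)]
    exact commutator_VV_le c'.cls c'.odd (hA'.mem i (Uv.le i))

end Dat

/-! ### The input -/

/-- The input. -/
structure Prov (Om : Set (Subgroup G)) (F : Type*) [Field F] [Fintype F] (p na nv : ℕ) (K : Fin 2 → Subgroup G)
    (X : Fin 2 → SignType → Subgroup G) (a : G) (La Lv : Subgroup G) : Prop where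
  dat : Dat Om F K X
  odd : Odd (Fintype.card F)
  zeq : zz (K 0) = zz (K 1)
  aa : a * a = 1
  aK : ∀ i, ∀ k ∈ K i, a * k = k * a
  acore : ∀ i, ∀ d ∈ Parab.core (K i), a * d = d * a
  la : LocU Om p (Nat.card F) na K a La
  lv : LocU Om p (Nat.card F) nv K (zz (K 0) * a) Lv
  solv : ∀ i, Group.IsSolvable (Parab.core (X i 1))

namespace Prov

variable {F : Type*} [Field F] [Fintype F] {p na nv : ℕ} {K : Fin 2 → Subgroup G}
  {X : Fin 2 → SignType → Subgroup G} {a : G} {La Lv : Subgroup G} [CharP F p]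
  (H : Prov Om F p na nv K X a La Lv)

include H

omit [CharP F p] in
theorem zi (i : Fin 2) : zz (K i) = zz (K 0) := by
  fin_cases i
  · rfl
  · exact H.zeq.symm

omit [CharP F p] in
theorem lvi (i : Fin 2) : LocU Om p (Nat.card F) nv K (zz (K i) * a) Lv := by
  rw [H.zi i]; exact H.lv

theorem good (i : Fin 2) : Good p (X i 1) (zz (K i)) :=
  good_of H.dat H.odd i H.aa (H.aK i) (H.acore i) H.la (H.lvi i) (H.solv i)

theorem fr : Frame K (fun i => zz (K i)) X (QF K X) := frame_of H.dat H.odd H.good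

omit [CharP F p] in
theorem one_lt : 1 < Nat.card F := by
  rw [Nat.card_eq_fintype_card]; exact Fintype.one_lt_card

theorem inf_L_eq {i : Fin 2} {s : SignType} (hs : s ≠ 0) {L : Subgroup G} (c : Chart Om p L) {r : c.I → ℤ}
    (hr : r ∈ c.R) (hZ : c.Z r = X i s) (hz : c.z r = zz (K i)) : QF K X i s ⊓ L = VV c.cs c.h c.X r := by
  have hl := H.dat.long H.odd i hs
  have hgood := H.dat.good H.odd (H.good i) hs
  rw [QF_of_ne K X i hs]
  refine FrameF2.chart_inf_eq c hr hgood.pg (by rw [hZ]; exact X_le_QQ _ _) ?_ ?_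
  · intro a ha
    rw [hZ] at ha
    refine Cit.mem_normalizer_iff_cj.2 (cj_QQ hl (cj_eq_of_conj_mem fun x hx => ?_))
    have : a * x * a⁻¹ = x := by rw [ha x hx]; group
    rwa [this]
  · intro a ha
    rw [hZ] at ha
    rw [hz]
    exact QX_le_QQ _ _ (hl.commutator_mem (mem_centralizer_iff.2 fun x hx => (ha x hx).symm))

theorem inf_t_eq {i : Fin 2} {s : SignType} (hs : s ≠ 0) {t : G} {L : Subgroup G} (P : FrameOf.Piece Om t L)
    (hi : K i ≤ L) : QF K X i s ⊓ centralizer {t} = QF K X i s ⊓ L := by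
  apply le_antisymm
  · rintro a ⟨ha, hat⟩
    refine ⟨ha, ?_⟩
    exact mem_L H.dat H.fr P hi hs ha (mem_centralizer_singleton_iff.1 hat)
  · rintro a ⟨ha, haL⟩
    exact ⟨ha, mem_centralizer_singleton_iff.2 (P.le a haL)⟩

/-- **The roots of the frame in a chart (from any chart) of a piece.** -/
theorem exists_rc_of {u : G} {L : Subgroup G} {n : ℕ} (U : LocU Om p (Nat.card F) n K u L) (c0 : Chart Om p L)
    (hc0 : ∀ r ∈ c0.R, Nat.card (VV c0.cs c0.h c0.X r) = Nat.card F ^ n) :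
    ∃ (c : Chart Om p L) (ρ : Fin 2 → SignType → c.I → ℤ), (∀ τ, c0.IsTy τ → c.IsTy τ) ∧
      (∀ i s, s ≠ 0 → ρ i s ∈ c.R ∧ c.Z (ρ i s) = X i s ∧ c.z (ρ i s) = zz (K i) ∧ ρ i (-s) = -ρ i s ∧
        QF K X i s ⊓ L = VV c.cs c.h c.X (ρ i s) ∧ QF K X i s ⊓ centralizer {u} = VV c.cs c.h c.X (ρ i s) ∧
        Nat.card (VV c.cs c.h c.X (ρ i s)) = Nat.card F ^ n) ∧
      ∀ i j s t, i ≠ j → s ≠ 0 → t ≠ 0 → form c.cs c.h (ρ i s) (ρ j t) = 0 := by
  obtain ⟨c, gr, hA, hty, hcard⟩ := exists_chart_of H.dat U 0 c0 hc0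
  classical
  refine ⟨c, fun i s => if s = 1 then gr i else -gr i, hty, ?_, ?_⟩
  · intro i s hs
    have hi := U.le i
    have key : (if s = 1 then gr i else -gr i) ∈ c.R ∧ c.Z (if s = 1 then gr i else -gr i) = X i s ∧
        c.z (if s = 1 then gr i else -gr i) = zz (K i) ∧
        (if -s = 1 then gr i else -gr i) = -(if s = 1 then gr i else -gr i) := by
      rcases sign_cases hs with rfl | rfl
      · rw [if_pos rfl, if_neg (by decide)]
        exact ⟨hA.mem i hi, hA.pos i hi, hA.zz i hi, rfl⟩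
      · rw [if_neg (by decide), if_pos (by decide)]
        refine ⟨neg_mem c.cls (hA.mem i hi), hA.neg i hi, ?_, (neg_neg _).symm⟩
        rw [c.cls.z_neg _ (hA.mem i hi), hA.zz i hi]
    obtain ⟨k1, k2, k3, k4⟩ := key
    refine ⟨k1, k2, k3, k4, H.inf_L_eq hs c k1 k2 k3, ?_, hcard _ k1⟩
    rw [H.inf_t_eq hs U.piece hi]
    exact H.inf_L_eq hs c k1 k2 k3
  · intro i j s t hij hs ht
    have h0 := hA.orth i (U.le i) j (U.le j) hij
    rcases sign_cases hs with rfl | rfl <;> rcases sign_cases ht with rfl | rfl <;>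
      simp only [if_true, show ¬ ((-1 : SignType) = 1) from by decide, if_false, form_neg_left,
        form_neg_right, h0, neg_zero]

/-- **The roots of the frame in the chart of a piece.** -/
theorem exists_rc {u : G} {L : Subgroup G} {n : ℕ} (U : LocU Om p (Nat.card F) n K u L) :
    ∃ (c : Chart Om p L) (ρ : Fin 2 → SignType → c.I → ℤ), (c.IsTy (.A 3) ∨ c.IsTy (.C 2)) ∧
      (∀ i s, s ≠ 0 → ρ i s ∈ c.R ∧ c.Z (ρ i s) = X i s ∧ c.z (ρ i s) = zz (K i) ∧ ρ i (-s) = -ρ i s ∧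
        QF K X i s ⊓ L = VV c.cs c.h c.X (ρ i s) ∧ QF K X i s ⊓ centralizer {u} = VV c.cs c.h c.X (ρ i s) ∧
        Nat.card (VV c.cs c.h c.X (ρ i s)) = Nat.card F ^ n) ∧
      ∀ i j s t, i ≠ j → s ≠ 0 → t ≠ 0 → form c.cs c.h (ρ i s) (ρ j t) = 0 := by
  obtain ⟨c0, hty, hc⟩ := U.chart
  obtain ⟨c, ρ, h1, h2⟩ := H.exists_rc_of U c0 hc
  exact ⟨c, ρ, hty.imp (h1 _) (h1 _), h2⟩

/-! ### Cardinalities, quadratic action, nondegeneracy in `C(u)` -/

omit [CharP F p] in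
theorem other {i j : Fin 2} (h : i ≠ j) : ∀ k, k = i ∨ k = j := by
  intro k
  fin_cases i <;> fin_cases j <;> fin_cases k <;> simp_all

theorem card_u {u : G} {L : Subgroup G} {n : ℕ} (U : LocU Om p (Nat.card F) n K u L) (i : Fin 2) {s : SignType}
    (hs : s ≠ 0) : Nat.card (QF K X i s ⊓ centralizer {u} : Subgroup G) = Nat.card F ^ n := by
  obtain ⟨c, ρ, -, h1, -⟩ := H.exists_rc U
  rw [(h1 i s hs).2.2.2.2.2.1]
  exact (h1 i s hs).2.2.2.2.2.2

theorem quad_u {u : G} {L : Subgroup G} {n : ℕ} (U : LocU Om p (Nat.card F) n K u L) {i j : Fin 2} (hij : i ≠ j)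
    {s t : SignType} (hs : s ≠ 0) (ht : t ≠ 0) {v : G} (hv : v ∈ QF K X i s ⊓ centralizer {u}) {x y : G}
    (hx : x ∈ X j t) (hy : y ∈ X j t) : ⁅⁅v, x⁆, y⁆ ∈ X i s := by
  obtain ⟨c, ρ, -, h1, h2⟩ := H.exists_rc U
  have : Fact p.Prime := ⟨c.prime⟩
  obtain ⟨k1, k2, k3, k4, k5, k6, k7⟩ := h1 i s hs
  obtain ⟨l1, l2, l3, l4, l5, l6, l7⟩ := h1 j t ht
  rw [k6] at hv
  rw [← k2]
  rw [← l2] at hx hy
  exact TwinRoots.quad c.cls c.odd k1 l1 (h2 i j s t hij hs ht) (form_eq c k1 l1) hv hx hy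

theorem nd_u {u : G} {L : Subgroup G} {n : ℕ} (U : LocU Om p (Nat.card F) n K u L) {i j : Fin 2} (hij : i ≠ j)
    {s t : SignType} (hs : s ≠ 0) (ht : t ≠ 0) {x : G} (hx : x ∈ QF K X i s) (hx' : x ∈ QF K X j t)
    (hxu : x * u = u * x) (hc : ∀ v ∈ QF K X i s, x * v = v * x) : x = 1 := by
  obtain ⟨c, ρ, hty, h1, h2⟩ := H.exists_rc U
  have : Fact p.Prime := ⟨c.prime⟩
  obtain ⟨k1, k2, k3, k4, k5, k6, k7⟩ := h1 i s hs
  obtain ⟨l1, l2, l3, l4, l5, l6, l7⟩ := h1 j t ht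
  have hxu' : x ∈ centralizer {u} := mem_centralizer_singleton_iff.2 hxu
  have m1 : x ∈ VV c.cs c.h c.X (ρ i s) := by rw [← k6]; exact ⟨hx, hxu'⟩
  have m2 : x ∈ VV c.cs c.h c.X (ρ j t) := by rw [← l6]; exact ⟨hx', hxu'⟩
  refine Nd.nd_chart c (m := 3) hty k1 l1 (h2 i j s t hij hs ht) (by rw [k3, l3, H.zi i, H.zi j]) m1 m2 ?_
  intro v hv
  rw [← k6] at hv
  exact hc v hv.1

end Prov

/-! ### The exact parabolics -/

/-- The exact parabolics of two commuting members over one involution. -/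
structure InB {F : Type*} [Field F] {K : Fin 2 → Subgroup G}
    (e : ∀ i, Matrix.SpecialLinearGroup (Fin 2) F ≃* K i) (z : Fin 2 → G) (X Q : Fin 2 → SignType → Subgroup G)
    (m : ℕ) : Prop where
  fr : Frame K z X Q
  root : ∀ i, X i 1 = root (e i)
  rootOp : ∀ i, X i (-1) = rootOp (e i)
  zeq : z 0 = z 1
  h2 : (2 : F) ≠ 0
  ord : ∀ i, orderOf (z i) = 2
  max : ∀ i s, s ≠ 0 → ∀ a, (∀ b ∈ X i s, a * b = b * a) → z i * a * z i = a⁻¹ → Odd (orderOf a) → a ∈ Q i s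
  card : ∀ i s, s ≠ 0 → Nat.card (Q i s) = Nat.card F ^ (2 * m + 1)
  quad : ∀ i j, i ≠ j → ∀ s t, s ≠ 0 → t ≠ 0 → ∀ v ∈ Q i s, ∀ x ∈ X j t, ∀ y ∈ X j t, ⁅⁅v, x⁆, y⁆ ∈ X i s
  nd : ∀ i j, i ≠ j → ∀ s t, s ≠ 0 → t ≠ 0 → ∀ x ∈ Q i s, x ∈ Q j t → (∀ v ∈ Q i s, x * v = v * x) → x = 1

namespace Prov

variable {F : Type*} [Field F] [Fintype F] {p na nv : ℕ} {K : Fin 2 → Subgroup G}
  {X : Fin 2 → SignType → Subgroup G} {a : G} {La Lv : Subgroup G} [CharP F p]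
  (H : Prov Om F p na nv K X a La Lv)

include H

omit [CharP F p] in
theorem az (i : Fin 2) : a * zz (K i) = zz (K i) * a := H.aK i _ (H.dat.hyp.zz_mem (H.dat.mem i))

omit [CharP F p] in
theorem pr (i : Fin 2) : Pr K (fun i => zz (K i)) X (QF K X) i a := ⟨H.aa, H.aK i⟩

/-- **The exact parabolics.** -/
theorem inb {m : ℕ} (hm : na + nv = 2 * m + 2) : ∃ e : ∀ i, Matrix.SpecialLinearGroup (Fin 2) F ≃* K i,
    InB e (fun i => zz (K i)) X (QF K X) m := by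
  have D := H.dat
  have Fr := H.fr
  choose e he1 he2 using D.sl
  refine ⟨e, ?_⟩
  have hcX : ∀ i s, s ≠ 0 → Nat.card (X i s) = Nat.card F := by
    intro i s hs
    rw [D.card_X i hs, Nat.card_eq_fintype_card]
  have hv : ∀ i, zz (K i) * a = a * zz (K i) := fun i => (H.az i).symm
  refine
    { fr := Fr, root := he1, rootOp := he2, zeq := H.zeq, h2 := ?_, ord := fun i => D.hyp.orderOf_zz (D.mem i)
      max := fun i s hs a ha hz ho => QF_max D H.odd i hs ha hz ho, card := ?_, quad := ?_, nd := ?_ }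
  · intro h2
    obtain ⟨m, hm⟩ := H.odd
    have h3 := FiniteField.cast_card_eq_zero F
    rw [hm] at h3
    push_cast at h3
    rw [h2, zero_mul, zero_add] at h3
    exact one_ne_zero h3
  · intro i s hs
    have h7 := (H.pr i).card_eq Fr hs
    have e1 := H.card_u H.la i hs
    have e2 := H.card_u (H.lvi i) i hs
    rw [hv i] at e2
    rw [e1, e2, hcX i s hs, ← pow_add, hm] at h7
    have hq : 0 < Nat.card F := Nat.card_pos
    apply Nat.eq_of_mul_eq_mul_right hq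
    rw [h7]; ring
  · intro i j hij s u hs hu v hvQ x hx y hy
    obtain ⟨a', ha, b, hb, rfl⟩ := (H.pr i).exists_mul Fr hs hvQ
    have hxK := Fr.X_le_K j hu hx
    have hyK := Fr.X_le_K j hu hy
    have hQc : ∀ v ∈ QF K X i s, ∀ k ∈ K j, ⁅v, k⁆ ∈ QF K X i s := by
      intro v hv k hk
      have h1 := mul_mem hv (conj_mem_Q Fr hij.symm hs hk (inv_mem hv))
      have : v * (k * v⁻¹ * k⁻¹) = ⁅v, k⁆ := by rw [commutatorElement_def]; group
      rwa [this] at h1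
    have hXK : ∀ c ∈ X i s, ∀ k ∈ K j, ⁅c, k⁆ = 1 := fun c hc k hk =>
      commutatorElement_eq_one_iff_mul_comm.2 (Fr.comm i j hij c (Fr.X_le_K i hs hc) k hk)
    -- additivity modulo `X i s`
    have hadd : ∀ c ∈ QF K X i s, ∀ d ∈ QF K X i s, ∀ k ∈ K j, ∃ m ∈ X i s, ⁅c * d, k⁆ = ⁅c, k⁆ * ⁅d, k⁆ * m := by
      intro c hc d hd k hk
      have e1 : ⁅c * d, k⁆ = c * ⁅d, k⁆ * c⁻¹ * ⁅c, k⁆ := by simp only [commutatorElement_def]; group
      have e2 : c * ⁅d, k⁆ * c⁻¹ = ⁅c, ⁅d, k⁆⁆ * ⁅d, k⁆ := by rw [commutatorElement_def c ⁅d, k⁆]; group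
      have m1 := Fr.Q_der i s hs c hc _ (hQc d hd k hk)
      have m2 := Fr.Q_der i s hs _ (hQc d hd k hk) _ (hQc c hc k hk)
      refine ⟨⁅c, ⁅d, k⁆⁆ * ⁅⁅d, k⁆, ⁅c, k⁆⁆, mul_mem m1 m2, ?_⟩
      rw [e1, e2]
      have e3 : ⁅d, k⁆ * ⁅c, k⁆ = ⁅⁅d, k⁆, ⁅c, k⁆⁆ * (⁅c, k⁆ * ⁅d, k⁆) := by
        rw [commutatorElement_def ⁅d, k⁆ ⁅c, k⁆]; group
      have c2 := Fr.Q_cent i s hs _ (mul_mem (hQc c hc k hk) (hQc d hd k hk)) _ m2
      have c3 := Fr.Q_cent i s hs _ (mul_mem (hQc c hc k hk) (hQc d hd k hk)) _ m1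
      calc ⁅c, ⁅d, k⁆⁆ * ⁅d, k⁆ * ⁅c, k⁆ = ⁅c, ⁅d, k⁆⁆ * (⁅d, k⁆ * ⁅c, k⁆) := by group
        _ = ⁅c, ⁅d, k⁆⁆ * (⁅⁅d, k⁆, ⁅c, k⁆⁆ * (⁅c, k⁆ * ⁅d, k⁆)) := by rw [e3]
        _ = ⁅c, ⁅d, k⁆⁆ * ((⁅c, k⁆ * ⁅d, k⁆) * ⁅⁅d, k⁆, ⁅c, k⁆⁆) := by rw [← c2]
        _ = (⁅c, ⁅d, k⁆⁆ * (⁅c, k⁆ * ⁅d, k⁆)) * ⁅⁅d, k⁆, ⁅c, k⁆⁆ := by group
        _ = ⁅c, k⁆ * ⁅d, k⁆ * (⁅c, ⁅d, k⁆⁆ * ⁅⁅d, k⁆, ⁅c, k⁆⁆) := by rw [← c3]; group
    have hmod : ∀ c ∈ QF K X i s, ∀ m ∈ X i s, ∀ k ∈ K j, ⁅c * m, k⁆ = ⁅c, k⁆ := by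
      intro c hc m hm k hk
      have e1 : ⁅c * m, k⁆ = c * ⁅m, k⁆ * c⁻¹ * ⁅c, k⁆ := by simp only [commutatorElement_def]; group
      rw [e1, hXK m hm k hk]; group
    have ha' : ⁅⁅a', x⁆, y⁆ ∈ X i s := H.quad_u H.la hij hs hu ha hx hy
    have hb' : ⁅⁅b, x⁆, y⁆ ∈ X i s := by
      refine H.quad_u (H.lvi i) hij hs hu ?_ hx hy
      rw [hv i]; exact hb
    obtain ⟨m, hm, e1⟩ := hadd a' ha.1 b hb.1 x hxK
    have hax := hQc a' ha.1 x hxK
    have hbx := hQc b hb.1 x hxK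
    rw [e1, hmod _ (mul_mem hax hbx) m hm y hyK]
    obtain ⟨m', hm', e2⟩ := hadd _ hax _ hbx y hyK
    rw [e2]
    exact mul_mem (mul_mem ha' hb') hm'
  · intro i j hij s t hs ht x hx hx' hc
    have haa := H.aa
    have ha1 : a⁻¹ = a := inv_eq_of_mul_eq_one_left haa
    have hxa : a * x * a ∈ QF K X i s := (H.pr i).conj_mem Fr hs hx
    have hxa' : a * x * a ∈ QF K X j t := (H.pr j).conj_mem Fr ht hx'
    set y := a * x * a with hy
    have hyy : a * y * a = x := TypeD4.zz_zz haa x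
    have hcy : ∀ v ∈ QF K X i s, y * v = v * y := by
      intro v hv
      have h1 := hc _ ((H.pr i).conj_mem Fr hs hv)
      calc y * v = a * (x * (a * v * a)) * a := by
            rw [hy]
            calc a * x * a * v = a * x * a * v * (a * a) := by rw [haa, mul_one]
              _ = _ := by group
        _ = a * ((a * v * a) * x) * a := by rw [h1]
        _ = (a * a) * v * a * x * a := by group
        _ = v * y := by rw [haa, one_mul, hy]; group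
    have hxy : x * y = y * x := hc y hxa
    -- `x y` commutes with `a`
    have n1 : x * y = 1 := by
      refine H.nd_u H.la hij hs ht (mul_mem hx hxa) (mul_mem hx' hxa') ?_ ?_
      · have h1 : a * (x * y) * a = x * y := by
          rw [TypeD4.zz_mul haa, hyy, ← hy, ← hxy]
        calc x * y * a = a * (x * y) * a * a := by rw [h1]
          _ = a * (x * y) * (a * a) := by group
          _ = a * (x * y) := by rw [haa, mul_one]
      · intro v hv
        rw [mul_assoc, hcy v hv, ← mul_assoc, hc v hv, mul_assoc]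
    have hzi : zz (K i) * x * zz (K i) = x⁻¹ := by
      refine inv_two Fr hij ?_ hs ht hx hx'
      show zz (K i) = zz (K j)
      rw [H.zi i, H.zi j]
    have hy1 : y = x⁻¹ := eq_inv_of_mul_eq_one_right n1
    have hz2 : zz (K i) * zz (K i) = 1 := Fr.z_sq i
    -- `x` commutes with `z a`
    refine H.nd_u (H.lvi i) hij hs ht hx hx' ?_ hc
    have h2 : zz (K i) * a * x * (zz (K i) * a) = x := by
      calc zz (K i) * a * x * (zz (K i) * a) = zz (K i) * a * x * (a * zz (K i)) := by rw [hv i]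
        _ = zz (K i) * y * zz (K i) := by rw [hy]; group
        _ = (zz (K i) * x * zz (K i))⁻¹ := by
          rw [hy1]
          have hzinv : (zz (K i))⁻¹ = zz (K i) := inv_eq_of_mul_eq_one_left hz2
          simp only [mul_inv_rev, hzinv, mul_assoc]
        _ = x := by rw [hzi, inv_inv]
    have h3 : zz (K i) * a * (zz (K i) * a) = 1 := by
      calc zz (K i) * a * (zz (K i) * a) = zz (K i) * a * (a * zz (K i)) := by rw [hv i]
        _ = zz (K i) * (a * a) * zz (K i) := by group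
        _ = 1 := by rw [haa, mul_one, hz2]
    calc x * (zz (K i) * a) = zz (K i) * a * x * (zz (K i) * a) * (zz (K i) * a) := by rw [h2]
      _ = zz (K i) * a * x * (zz (K i) * a * (zz (K i) * a)) := by group
      _ = zz (K i) * a * x := by rw [h3, mul_one]

end Prov

end Cfsg.Agent.Cit.OmB3.Sup
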