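import Cfsg.Agent.Cit.OmB3.Sup
import Cfsg.Agent.Cit.OmB3.Mu

/-!
# The configuration `Four` from the exact parabolics (identification of `Ω₇(q)` and `Ω₈⁻(q)`)

`InB.four : Four (ofEquiv (e 0)) (ofEquiv (e 1)) (z 0)`, `InB.card_MG : |M| = q ^ m`, `InB.inp : Mu.Inp`.
-/

set_option autoImplicit false
set_option linter.unusedSectionVars false

namespace Cfsg.Agent.Cit.OmB3.Sup

open Subgroup Cfsg
open Cfsg.Agent.Cit.Parab Cfsg.Agent.Cit.ParabSL2 Cfsg.Agent.Cit.FrameSign Cfsg.Agent.Cit.TypeD4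
  Cfsg.Agent.Cit.SLSysOf Cfsg.Agent.Cit.LemmaATwo Cfsg.Agent.Cit.SplitQuad Cfsg.Agent.Cit.OmB3.Side
  Cfsg.Agent.Cit.OmB3.Form
open scoped commutatorElement

variable {G : Type*} [Group G] {F : Type*} [Field F] {K : Fin 2 → Subgroup G}
  {e : ∀ i, Matrix.SpecialLinearGroup (Fin 2) F ≃* K i} {z : Fin 2 → G} {X Q : Fin 2 → SignType → Subgroup G}
  {m : ℕ}

namespace InB

variable (H : InB e z X Q m)

include H

theorem S_A (i : Fin 2) : (ofEquiv (e i)).A = X i 1 := by rw [A_eq, H.root]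
theorem S_A' (i : Fin 2) : (ofEquiv (e i)).A' = X i (-1) := by rw [A'_eq, H.rootOp]

theorem zi (i : Fin 2) : z i = z 0 := by
  fin_cases i
  · rfl
  · exact H.zeq.symm

variable [Finite G] [Finite F]

theorem card_X (i : Fin 2) {s : SignType} (hs : s ≠ 0) : Nat.card (X i s) = Nat.card F := by
  rcases s with _ | _ | _
  · exact absurd rfl hs
  · have := (ofEquiv (e i)).card_A'
    rw [H.S_A'] at this
    exact this
  · have := (ofEquiv (e i)).card_A
    rw [H.S_A] at this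
    exact this

omit [Finite F] in
theorem mem_MM {i j : Fin 2} (hij : i ≠ j) {s t : SignType} (hs : s ≠ 0) (ht : t ≠ 0) {x : G} :
    x ∈ MM (X i s) (X j t) (z 0) ↔ x ∈ Q i s ∧ x ∈ Q j t := by
  have Fr := H.fr
  have hzz : ∀ i, (z i)⁻¹ = z i := Fr.z_inv
  constructor
  · rintro ⟨h1, h2, h3, h4⟩
    have h5 : z 0 * x * z 0 = x⁻¹ := by
      unfold ac at h4
      rwa [hzz 0] at h4
    refine ⟨H.max i s hs x (fun b hb => (h2 b hb).symm) (by rw [H.zi i]; exact h5) h1,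
      H.max j t ht x (fun b hb => (h3 b hb).symm) (by rw [H.zi j]; exact h5) h1⟩
  · rintro ⟨h1, h2⟩
    refine ⟨Fr.odd_order hs h1, fun b hb => (Fr.Q_cent i s hs x h1 b hb).symm,
      fun b hb => (Fr.Q_cent j t ht x h2 b hb).symm, ?_⟩
    have h3 := inv_two Fr hij (by rw [H.zi i, H.zi j]) hs ht h1 h2
    unfold ac
    rw [← H.zi i, hzz i]
    exact h3

omit [Finite F] in
theorem hh (i : Fin 2) {s : SignType} (hs : s ≠ 0) : HH (X i s) (z 0) := by
  have Fr := H.fr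
  have hzz : ∀ i, (z i)⁻¹ = z i := Fr.z_inv
  intro x y hx hy hxX hyX hxz hyz
  have key : ∀ x, Odd (orderOf x) → (∀ a ∈ X i s, a * x = x * a) → ac (z 0) x = x⁻¹ → x ∈ Q i s := by
    intro x h1 h2 h3
    refine H.max i s hs x (fun b hb => (h2 b hb).symm) ?_ h1
    unfold ac at h3
    rw [hzz 0] at h3
    rw [H.zi i]
    exact h3
  exact Fr.Q_der i s hs x (key x hx hxX hxz) y (key y hy hyX hyz)

omit [Finite F] in
/-- The splitting of `Q i s`. -/
theorem split {i l : Fin 2} (hil : l ≠ i) {s : SignType} (hs : s ≠ 0) :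
    Split (Q i s) (X i s) (X l 1) (X l (-1)) (Q i s ⊓ Q l 1) (Q i s ⊓ Q l (-1)) (z l) := by
  have Fr := H.fr
  have hz : z i = z l := by rw [H.zi i, H.zi l]
  have hK := Fr.K_eq l
  have hmem : ∀ t : SignType, t ≠ 0 → ∀ v, v ∈ Q i s ⊓ Q l t ↔ v ∈ Q i s ∧ (∀ x ∈ X l t, v * x = x * v) ∧
      z l * v * z l = v⁻¹ := by
    intro t ht v
    constructor
    · rintro ⟨h1, h2⟩
      exact ⟨h1, Fr.Q_cent l t ht v h2, inv_two Fr hil hz.symm ht hs h2 h1⟩
    · rintro ⟨h1, h2, h3⟩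
      exact ⟨h1, H.max l t ht v h2 h3 (Fr.odd_order hs h1)⟩
  have h1 : (1 : SignType) ≠ 0 := by decide
  have h1' : (-1 : SignType) ≠ 0 := by decide
  exact
    { odd := Fr.Q_odd i s hs
      Z_le := Fr.X_le_Q i s hs
      Z_cent := fun a ha b hb => (Fr.Q_cent i s hs b hb a ha).symm
      der := fun a ha b hb => Fr.Q_der i s hs a ha b hb
      fix := fun v hv h => Fr.Q_fix i s hs v hv (by rw [hz]; exact h)
      z_sq := Fr.z_sq l
      z_mem := by rw [← hK]; exact Fr.z_mem l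
      z_cent := by rw [← hK]; exact Fr.z_cent l
      norm := by
        rw [← hK]
        exact fun k hk v hv => conj_mem_Q Fr hil hs hk hv
      ZK := by
        rw [← hK]
        intro a ha k hk
        exact Fr.comm i l hil.symm a (Fr.X_le_K i hs ha) k hk
      quadp := H.quad i l hil.symm s 1 hs h1
      quadm := H.quad i l hil.symm s (-1) hs h1'
      mem_Pp := hmem 1 h1
      mem_Pm := hmem (-1) h1' }

omit [Finite F] in
theorem card_swap {i l : Fin 2} (hil : l ≠ i) {s : SignType} (hs : s ≠ 0) :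
    Nat.card (Q i s ⊓ Q l 1 : Subgroup G) = Nat.card (Q i s ⊓ Q l (-1) : Subgroup G) := by
  have hS := H.split hil hs
  have hw : (ofEquiv (e l)).w ∈ X l 1 ⊔ X l (-1) := by rw [← H.fr.K_eq]; exact w_mem (e l)
  refine hS.card_swap hw ?_ ?_
  · intro x hx
    have h1 : x ∈ (ofEquiv (e l)).opp.A := by rw [← H.S_A' l] at hx; exact hx
    have h2 := (ofEquiv (e l)).opp.n_A one_ne_zero h1
    rw [(ofEquiv (e l)).opp.h_one, one_mul] at h2
    have h3 : ac (ofEquiv (e l)).w⁻¹ x ∈ (ofEquiv (e l)).A := by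
      have : (ofEquiv (e l)).opp.A' = (ofEquiv (e l)).A := by
        unfold SLSys.A'; rw [SLSys.opp_opp_eq]
      rw [this] at h2
      exact h2
    rw [H.S_A] at h3
    unfold ac at h3
    rwa [inv_inv] at h3
  · intro x hx
    have h1 : x ∈ (ofEquiv (e l)).A := by rw [← H.S_A l] at hx; exact hx
    have h2 := (ofEquiv (e l)).n_A one_ne_zero h1
    rw [(ofEquiv (e l)).h_one, one_mul, H.S_A'] at h2
    exact h2

theorem card_inf {i l : Fin 2} (hil : l ≠ i) {s t : SignType} (hs : s ≠ 0) (ht : t ≠ 0) :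
    Nat.card (Q i s ⊓ Q l t : Subgroup G) = Nat.card F ^ m := by
  have h1 := (H.split hil hs).card_eq
  have h2 := H.card_swap hil hs
  rw [H.card i s hs, H.card_X i hs] at h1
  have hq : 0 < Nat.card F := Nat.card_pos
  have key : ∀ c : ℕ, Nat.card F ^ (2 * m + 1) = Nat.card F * (c * c) → c = Nat.card F ^ m := by
    intro c hc
    have h3 : Nat.card F * (Nat.card F ^ m * Nat.card F ^ m) = Nat.card F * (c * c) := by
      rw [← hc]; ring
    have h4 := Nat.eq_of_mul_eq_mul_left hq h3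
    exact (Nat.mul_self_inj.1 h4).symm
  rcases FrameOf.sign_cases ht with rfl | rfl
  · rw [← h2] at h1
    exact key _ h1
  · rw [h2] at h1
    exact key _ h1

omit [Finite F] in
theorem comm_split {i l : Fin 2} (hil : l ≠ i) {s t : SignType} (hs : s ≠ 0) (ht : t ≠ 0) {b x : G}
    (hb : b ∈ Q i s) (hx : x ∈ X l t) :
    ∃ c, (c ∈ Q i s ∧ c ∈ Q l t) ∧ ∃ ζ ∈ X i s, ac x b = b * c * ζ := by
  have hS := H.split hil hs
  have key : ∀ {α β : G}, α ∈ X i s → β ∈ Q i s → ⁅b⁻¹, x⁆ = α * β → ac x b = b * β * α := by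
    intro α β hα hβ h1
    have h2 : ac x b = b * ⁅b⁻¹, x⁆ := by unfold ac; rw [commutatorElement_def]; group
    rw [h2, h1, ← H.fr.Q_cent i s hs β hβ α hα, mul_assoc]
  rcases FrameOf.sign_cases ht with rfl | rfl
  · obtain ⟨α, hα, β, hβ, h1⟩ := hS.comm_mem (inv_mem hb) hx
    exact ⟨β, hβ, α, hα, key hα hβ.1 h1⟩
  · obtain ⟨α, hα, β, hβ, h1⟩ := hS.symm.comm_mem (inv_mem hb) hx
    exact ⟨β, hβ, α, hα, key hα hβ.1 h1⟩

omit [Finite F] [Finite G] in
theorem h_neg (i : Fin 2) : (ofEquiv (e i)).h (-1) = z 0 := by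
  rw [h_neg_one_eq (e i) H.h2 (H.fr.z_mem i) (H.ord i), H.zi i]

omit [Finite F] in
/-- **The sides.** -/
theorem side {i j : Fin 2} (hij : i ≠ j) {t : SignType} (ht : t ≠ 0) :
    Side (ofEquiv (e i)) (X j t) (z 0) := by
  have Fr := H.fr
  have h1 : (1 : SignType) ≠ 0 := by decide
  have h1' : (-1 : SignType) ≠ 0 := by decide
  have hxp : ∀ τ, (ofEquiv (e i)).xp τ ∈ X i 1 := fun τ => by rw [← H.S_A]; exact SLSys.xp_mem _ τ
  have hxm : ∀ τ, (ofEquiv (e i)).xm τ ∈ X i (-1) := fun τ => by rw [← H.S_A']; exact SLSys.xm_mem _ τ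
  exact
    { hz := H.h_neg i
      commp := fun ζ hζ τ => Fr.comm i j hij _ (Fr.X_le_K i h1 (hxp τ)) ζ (Fr.X_le_K j ht hζ)
      commm := fun ζ hζ τ => Fr.comm i j hij _ (Fr.X_le_K i h1' (hxm τ)) ζ (Fr.X_le_K j ht hζ)
      hZ := H.hh j ht
      hA := by rw [H.S_A]; exact H.hh i h1
      hA' := by rw [H.S_A']; exact H.hh i h1'
      oddZ := fun ζ hζ => Fr.odd_order ht (Fr.X_le_Q j t ht hζ)
      abZ := fun ζ hζ ξ hξ => (Fr.Q_cent j t ht ξ (Fr.X_le_Q j t ht hξ) ζ hζ).symm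
      infA := fun x hx hx' => by
        rw [H.S_A] at hx'
        exact Fr.X_disj j i hij.symm t 1 ht h1 x hx hx'
      infA' := fun x hx hx' => by
        rw [H.S_A'] at hx'
        exact Fr.X_disj j i hij.symm t (-1) ht h1' x hx hx'
      up := by
        intro b hb τ
        rw [H.S_A', H.mem_MM hij h1' ht] at hb
        obtain ⟨c, hc, ζ, hζ, h2⟩ := H.comm_split hij ht h1 hb.2 (hxp τ)
        refine ⟨c, ?_, ζ, hζ, h2⟩
        rw [H.S_A, H.mem_MM hij h1 ht]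
        exact ⟨hc.2, hc.1⟩
      dn := by
        intro b hb τ
        rw [H.S_A, H.mem_MM hij h1 ht] at hb
        obtain ⟨c, hc, ζ, hζ, h2⟩ := H.comm_split hij ht h1' hb.2 (hxm τ)
        refine ⟨c, ?_, ζ, hζ, h2⟩
        rw [H.S_A', H.mem_MM hij h1' ht]
        exact ⟨hc.2, hc.1⟩ }

omit [Finite F] in
theorem nd_aux {i j : Fin 2} (hij : i ≠ j) {s t : SignType} (hs : s ≠ 0) (ht : t ≠ 0) {x : G} (hx : x ∈ Q i s)
    (hx' : x ∈ Q j t) (hc : ∀ y ∈ Q i s, y ∈ Q j (-t) → x * y = y * x) : x = 1 := by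
  have Fr := H.fr
  refine H.nd i j hij s t hs ht x hx hx' fun v hv => ?_
  have key : ∀ β, β ∈ Q i s → β ∈ Q j t → x * β = β * x := by
    intro β h1 h2
    rw [← commutatorElement_eq_one_iff_mul_comm]
    exact Fr.X_disj i j hij s t hs ht _ (Fr.Q_der i s hs x hx β h1) (Fr.Q_der j t ht x hx' β h2)
  obtain ⟨α, hα, β, hβ, γ, hγ, e1⟩ := (H.split hij.symm hs).exists_mul hv
  have c1 : Commute x α := Fr.Q_cent i s hs x hx α hα
  have c2 : Commute x β := by
    rcases FrameOf.sign_cases ht with rfl | rfl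
    · exact key β hβ.1 hβ.2
    · exact hc β hβ.1 (by rw [neg_neg]; exact hβ.2)
  have c3 : Commute x γ := by
    rcases FrameOf.sign_cases ht with rfl | rfl
    · exact hc γ hγ.1 hγ.2
    · exact key γ hγ.1 hγ.2
  rw [e1]
  exact (c1.mul_right c2).mul_right c3

omit [Finite F] in
/-- **The configuration.** -/
theorem four : Four (ofEquiv (e 0)) (ofEquiv (e 1)) (z 0) := by
  have h1 : (1 : SignType) ≠ 0 := by decide
  have h1' : (-1 : SignType) ≠ 0 := by decide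
  have h01 : (0 : Fin 2) ≠ 1 := by decide
  exact
    { s1 := by rw [H.S_A 1]; exact H.side h01 h1
      s1' := by rw [H.S_A' 1]; exact H.side h01 h1'
      s2 := by rw [H.S_A 0]; exact H.side h01.symm h1
      s2' := by rw [H.S_A' 0]; exact H.side h01.symm h1'
      nd1 := by
        rw [H.S_A, H.S_A, H.S_A']
        intro x hx hc
        rw [H.mem_MM h01 h1 h1] at hx
        refine H.nd_aux h01 h1 h1 hx.1 hx.2 fun y hy hy' => hc y ?_
        rw [H.mem_MM h01 h1 h1']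
        exact ⟨hy, hy'⟩
      nd2 := by
        rw [H.S_A, H.S_A, H.S_A']
        intro x hx hc
        rw [H.mem_MM h01 h1 h1] at hx
        refine H.nd_aux h01.symm h1 h1 hx.2 hx.1 fun y hy hy' => hc y ?_
        rw [H.mem_MM h01 h1' h1]
        exact ⟨hy', hy⟩ }

omit [Finite F] in
theorem MG_eq : Four.MG (ofEquiv (e 0)) (ofEquiv (e 1)) (z 0) = Q 0 1 ⊓ Q 1 1 := by
  have h1 : (1 : SignType) ≠ 0 := by decide
  have h01 : (0 : Fin 2) ≠ 1 := by decide
  ext x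
  rw [H.four.mem, H.S_A, H.S_A, H.mem_MM h01 h1 h1, Subgroup.mem_inf]

theorem card_MG : Nat.card (Four.MG (ofEquiv (e 0)) (ofEquiv (e 1)) (z 0)) = Nat.card F ^ m := by
  rw [H.MG_eq]
  exact H.card_inf (by decide) (by decide) (by decide)

/-- The splitting of a `K l`-invariant subgroup of `Q i s`. -/
theorem splitV {i l : Fin 2} (hil : l ≠ i) {s : SignType} (hs : s ≠ 0) {V : Subgroup G} (hV : V ≤ Q i s)
    (hn : ∀ k ∈ K l, ∀ v ∈ V, k * v * k⁻¹ ∈ V) :
    Split V (V ⊓ X i s) (X l 1) (X l (-1)) (V ⊓ Q l 1) (V ⊓ Q l (-1)) (z l) := by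
  have Fr := H.fr
  have hz : z i = z l := by rw [H.zi i, H.zi l]
  have hK := Fr.K_eq l
  have hmem : ∀ t : SignType, t ≠ 0 → ∀ v, v ∈ V ⊓ Q l t ↔ v ∈ V ∧ (∀ x ∈ X l t, v * x = x * v) ∧
      z l * v * z l = v⁻¹ := by
    intro t ht v
    constructor
    · rintro ⟨h1, h2⟩
      exact ⟨h1, Fr.Q_cent l t ht v h2, inv_two Fr hil hz.symm ht hs h2 (hV h1)⟩
    · rintro ⟨h1, h2, h3⟩
      exact ⟨h1, H.max l t ht v h2 h3 (Fr.odd_order hs (hV h1))⟩
  have hquad : ∀ t : SignType, t ≠ 0 → ∀ v ∈ V, ∀ x ∈ X l t, ∀ y ∈ X l t, ⁅⁅v, x⁆, y⁆ ∈ V ⊓ X i s := by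
    intro t ht v hv x hx y hy
    refine ⟨?_, H.quad i l hil.symm s t hs ht v (hV hv) x hx y hy⟩
    have hc : ∀ v ∈ V, ∀ x ∈ X l t, ⁅v, x⁆ ∈ V := by
      intro v hv x hx
      have h1 := mul_mem hv (hn x (Fr.X_le_K l ht hx) v⁻¹ (inv_mem hv))
      have : v * (x * v⁻¹ * x⁻¹) = ⁅v, x⁆ := by rw [commutatorElement_def]; group
      rwa [this] at h1
    exact hc _ (hc v hv x hx) y hy
  have h1 : (1 : SignType) ≠ 0 := by decide
  have h1' : (-1 : SignType) ≠ 0 := by decide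
  have hcomm : ∀ a ∈ V, ∀ b ∈ V, ⁅a, b⁆ ∈ V := by
    intro a ha b hb
    rw [commutatorElement_def]
    exact mul_mem (mul_mem (mul_mem ha hb) (inv_mem ha)) (inv_mem hb)
  exact
    { odd := Odd.of_dvd_nat (Fr.Q_odd i s hs) (Subgroup.card_dvd_of_le hV)
      Z_le := inf_le_left
      Z_cent := fun a ha b hb => (Fr.Q_cent i s hs b (hV hb) a ha.2).symm
      der := fun a ha b hb => ⟨hcomm a ha b hb, Fr.Q_der i s hs a (hV ha) b (hV hb)⟩
      fix := fun v hv h => ⟨hv, Fr.Q_fix i s hs v (hV hv) (by rw [hz]; exact h)⟩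
      z_sq := Fr.z_sq l
      z_mem := by rw [← hK]; exact Fr.z_mem l
      z_cent := by rw [← hK]; exact Fr.z_cent l
      norm := by rw [← hK]; exact hn
      ZK := by
        rw [← hK]
        intro a ha k hk
        exact Fr.comm i l hil.symm a (Fr.X_le_K i hs ha.2) k hk
      quadp := hquad 1 h1
      quadm := hquad (-1) h1'
      mem_Pp := hmem 1 h1
      mem_Pm := hmem (-1) h1' }

theorem card_infV {i l : Fin 2} (hil : l ≠ i) {s t : SignType} (hs : s ≠ 0) (ht : t ≠ 0) {V : Subgroup G}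
    (hV : V ≤ Q i s) (hX : X i s ≤ V) (hn : ∀ k ∈ K l, ∀ v ∈ V, k * v * k⁻¹ ∈ V) {n : ℕ}
    (hc : Nat.card V = Nat.card F ^ (2 * n + 1)) : Nat.card (V ⊓ Q l t : Subgroup G) = Nat.card F ^ n := by
  have hS := H.splitV hil hs hV hn
  have hw : (ofEquiv (e l)).w ∈ X l 1 ⊔ X l (-1) := by rw [← H.fr.K_eq]; exact w_mem (e l)
  have h2 : Nat.card (V ⊓ Q l 1 : Subgroup G) = Nat.card (V ⊓ Q l (-1) : Subgroup G) := by
    refine hS.card_swap hw ?_ ?_
    · intro x hx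
      have h1 : x ∈ (ofEquiv (e l)).opp.A := by rw [← H.S_A' l] at hx; exact hx
      have h2 := (ofEquiv (e l)).opp.n_A one_ne_zero h1
      rw [(ofEquiv (e l)).opp.h_one, one_mul] at h2
      have h3 : ac (ofEquiv (e l)).w⁻¹ x ∈ (ofEquiv (e l)).A := by
        have : (ofEquiv (e l)).opp.A' = (ofEquiv (e l)).A := by
          unfold SLSys.A'; rw [SLSys.opp_opp_eq]
        rw [this] at h2
        exact h2
      rw [H.S_A] at h3
      unfold ac at h3
      rwa [inv_inv] at h3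
    · intro x hx
      have h1 : x ∈ (ofEquiv (e l)).A := by rw [← H.S_A l] at hx; exact hx
      have h2 := (ofEquiv (e l)).n_A one_ne_zero h1
      rw [(ofEquiv (e l)).h_one, one_mul, H.S_A'] at h2
      exact h2
  have h1 := hS.card_eq
  rw [inf_eq_right.2 hX, H.card_X i hs, hc] at h1
  have hq : 0 < Nat.card F := Nat.card_pos
  have key : ∀ c : ℕ, Nat.card F ^ (2 * n + 1) = Nat.card F * (c * c) → c = Nat.card F ^ n := by
    intro c hc
    have h3 : Nat.card F * (Nat.card F ^ n * Nat.card F ^ n) = Nat.card F * (c * c) := by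
      rw [← hc]; ring
    have h4 := Nat.eq_of_mul_eq_mul_left hq h3
    exact (Nat.mul_self_inj.1 h4).symm
  rcases FrameOf.sign_cases ht with rfl | rfl
  · rw [← h2] at h1
    exact key _ h1
  · rw [h2] at h1
    exact key _ h1

/-- `|C_M(u)|` from `|C_{Q i s}(u)|`. -/
theorem card_inf_u {i l : Fin 2} (hil : l ≠ i) {s t : SignType} (hs : s ≠ 0) (ht : t ≠ 0) {u : G}
    (hu : ∀ i, ∀ k ∈ K i, u * k = k * u) {n : ℕ}
    (hc : Nat.card (Q i s ⊓ centralizer {u} : Subgroup G) = Nat.card F ^ (2 * n + 1)) :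
    Nat.card (Q i s ⊓ Q l t ⊓ centralizer {u} : Subgroup G) = Nat.card F ^ n := by
  have Fr := H.fr
  have h1 := H.card_infV hil hs ht (V := Q i s ⊓ centralizer {u}) inf_le_left ?_ ?_ hc
  · rw [← h1]
    congr 2
    ext x
    simp only [Subgroup.mem_inf]
    tauto
  · intro x hx
    exact ⟨Fr.X_le_Q i s hs hx, mem_centralizer_singleton_iff.2 (hu i x (Fr.X_le_K i hs hx)).symm⟩
  · rintro k hk v ⟨hv1, hv2⟩
    refine ⟨conj_mem_Q Fr hil hs hk hv1, mem_centralizer_singleton_iff.2 ?_⟩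
    have e1 := mem_centralizer_singleton_iff.1 hv2
    have c1 : Commute u k := hu l k hk
    have c2 : Commute u v := e1.symm
    exact (((c1.mul_right c2).mul_right c1.inv_right).eq).symm

end InB

namespace Prov

variable {Om : Set (Subgroup G)} [Finite G] [Fintype F] {p na nv : ℕ} {a : G} {La Lv : Subgroup G}
  (P : Prov Om F p na nv K X a La Lv)

include P

theorem uniq_i (i : Fin 2) : ∀ x ∈ X i 1 ⊔ X i (-1), x * x = 1 → x = 1 ∨ x = zz (K 0) := by
  intro x hx hxx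
  rw [← P.dat.K_eq i] at hx
  by_cases h1 : x = 1
  · exact Or.inl h1
  · exact Or.inr ((P.dat.hyp.eq_zz (P.dat.mem i) hx hxx h1).trans (P.zi i))

theorem cen_i (i : Fin 2) : ∀ x, Odd (orderOf x) → zz (K 0) * x = x * zz (K 0) → (∀ a ∈ X i 1, a * x = x * a) →
    ∃ a ∈ X i 1, ∀ b ∈ X i 1 ⊔ X i (-1), b * (a⁻¹ * x) = (a⁻¹ * x) * b := by
  intro x _ hxz hxX
  have hl := P.dat.long P.odd i (one_ne_zero (α := SignType))
  obtain ⟨b, hb, h1⟩ := hl.exists_of_commute (by rw [P.zi i]; exact hxz.symm) fun y hy => (hxX y hy).symm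
  refine ⟨b, hb, fun k hk => ?_⟩
  rw [← P.dat.K_eq i] at hk
  exact (h1 k hk).symm

/-- **The remaining local facts.** -/
theorem inp (h1 : ∀ i, X i 1 = root (e i)) (h2 : ∀ i, X i (-1) = rootOp (e i)) :
    Mu.Inp (ofEquiv (e 0)) (ofEquiv (e 1)) (zz (K 0)) where
  uniq1 := by rw [A_eq, A'_eq, ← h1, ← h2]; exact P.uniq_i 0
  uniq2 := by rw [A_eq, A'_eq, ← h1, ← h2]; exact P.uniq_i 1
  cen1 := by rw [A_eq, A'_eq, ← h1, ← h2]; exact P.cen_i 0
  cen2 := by rw [A_eq, A'_eq, ← h1, ← h2]; exact P.cen_i 1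

variable [CharP F p]

/-- `C_M(u)` lies in the piece `L` of `C(u)`, it is `VV r ∩ VV r'`. -/
theorem mem_L {u : G} {L : Subgroup G} {n : ℕ} (U : LocU Om p (Nat.card F) n K u L) {i : Fin 2} {s : SignType}
    (hs : s ≠ 0) {x : G} (hx : x ∈ FrameOf.QF K X i s) (hxu : x * u = u * x) : x ∈ L := by
  have h1 : x ∈ FrameOf.QF K X i s ⊓ centralizer {u} := ⟨hx, mem_centralizer_singleton_iff.2 hxu⟩
  rw [P.inf_t_eq hs U.piece (U.le i)] at h1
  exact h1.2

end Prov

end Cfsg.Agent.Cit.OmB3.Sup
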