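import Cfsg.Agent.Cit.OmB3.Out

/-!
# The table of root groups
-/

set_option autoImplicit false
set_option linter.unusedSectionVars false
set_option linter.unusedVariables false
set_option linter.dupNamespace false

namespace Cfsg.Agent.Cit.OmB3.Table

open scoped commutatorElement
open Module
open CoxeterSystem Cfsg.Agent.ChevalleyStructure.CoxeterGeom Cfsg.Agent.Tits.Roots
  Cfsg.Agent.Nodes.TypeC Cfsg.Agent.Nodes.TypeCForm Cfsg.Agent.Nodes.Reps
  Cfsg.Agent.Nodes.BNOf Cfsg.Agent.Nodes.Chart Cfsg.Agent.Nodes.RGDLib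
  Cfsg.Agent.Nodes.Comb Cfsg.Agent.Nodes.KindBC
open Cfsg.Agent.RootAmalgam (Onto Maps PairData mu_unique RD)
open Cfsg.Agent.Cit.LemmaATwo Cfsg.Agent.Cit.OmB3.Side
  Cfsg.Agent.Cit.OmB3.Form Cfsg.Agent.Cit.OmB3.Big Cfsg.Agent.Cit.OmB3.Split
  Cfsg.Agent.Cit.OmB3.Third Cfsg.Agent.Cit.OmB3.Atwo Cfsg.Agent.Cit.OmB3.Mu
  Cfsg.Agent.Cit.OmB3.Zthree Cfsg.Agent.Cit.OmB3.Short Cfsg.Agent.Cit.OmB3.Ethree
  Cfsg.Agent.Cit.OmB3.Pairs Cfsg.Agent.Cit.OmB3.Rgd Cfsg.Agent.Cit.OmB3.Torus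
  Cfsg.Agent.Cit.OmB3.Out
open Cfsg.Agent.Cit.OmB3.Form.Four (MG)

variable {G : Type*} [Group G] {F : Type*} [Field F]
variable {p m : ℕ} {S1 S2 : SLSys F G} {z z3 : G} {Y Y' : Subgroup G}
  [Finite G] [Finite F] [Fact p.Prime] [CharP F p]

/-- The exchanging elements for `e₂ - e₃` are the elements `Nel`. -/
theorem nel_of_swap (C : Cfg p m S1 S2 z z3 Y Y') {n : G}
    (hn : SwapMu (PP (MG S1.opp S2 z) Y') (PP (MG S1 S2.opp z) Y) n) : Nel S1 S2 z Y Y' n := by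
  obtain ⟨a, ha, ha1, x, hx, y, hy, rfl⟩ := hn.form
  obtain ⟨e, he, hN⟩ := exists_nel C.D C.h2 ha ha1
  have hbot : PP (MG S1 S2.opp z) Y ≠ ⊥ := by
    rw [Subgroup.ne_bot_iff_exists_ne_one]
    exact ⟨⟨a, ha⟩, fun h => ha1 (congrArg Subtype.val h)⟩
  obtain ⟨e1, e2⟩ := mu_unique (X := PP (MG S1.opp S2 z) Y') (Xn := PP (MG S1 S2.opp z) Y)
    (fun a ha ha1 => by
      obtain ⟨e, he, hN⟩ := exists_nel C.D C.h2 ha ha1
      exact ⟨e, he, e, he, hN.b, hN.bb⟩) (ne_B C.D C.h2) hbot he he hx hy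
    ⟨hN.b, hN.bb⟩ ⟨hn.pos, hn.neg⟩
  rw [e1, e2]
  exact hN

/-- The exchanging elements of `S₁`. -/
structure N0 (S1 S2 : SLSys F G) (z n : G) : Prop where
  a : Onto n S1.A S1.A'
  a' : Onto n S1.A' S1.A
  cc : ∀ x ∈ CC S1 S2, n * x = x * n
  b : ∀ x ∈ S2.A, n * x = x * n
  b' : ∀ x ∈ S2.A', n * x = x * n
  z : ac n z = z

theorem n0_of_swap (D : Big p m S1 S2 z Y Y') (h2 : (2 : F) ≠ 0) {n : G}
    (hn : SwapMu S1.A S1.A' n) : N0 S1 S2 z n := by
  obtain ⟨t, ht, rfl⟩ := sl_swap S1 (A_ne D h2) hn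
  have key : ∀ x, (∀ t, S1.xp t * x = x * S1.xp t) → (∀ t, S1.xm t * x = x * S1.xm t) →
      S1.h t * S1.w⁻¹ * x = x * (S1.h t * S1.w⁻¹) := by
    intro x h1 h3
    have e1 : Commute (S1.h t) x := comm_h S1 h1 h3 ht
    have e2 : Commute S1.w x := comm_w S1 h1 h3
    exact e1.mul_left e2.inv_left
  refine ⟨hn.pos, hn.neg, fun x hx => key x hx.1 hx.2.1, fun x hx => key x (D.four.s1.commp x hx)
    (D.four.s1.commm x hx), fun x hx => key x (D.four.s1'.commp x hx) (D.four.s1'.commm x hx), ?_⟩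
  rw [← ac_ac]
  have h1 : ac S1.w⁻¹ z = z := by
    nth_rewrite 1 [← D.four.s1.w_z]
    exact ac_inv_ac _ _
  rw [h1, D.four.s1.h_z ht]

namespace N0

variable {n : G} (h : N0 S1 S2 z n) (D : Big p m S1 S2 z Y Y')

include h D

theorem m1 : Onto n (MG S1.opp S2 z) (MG S1 S2 z) := by
  intro x
  rw [D.four.mem, D.four.opp1.mem]
  exact mem_MM_ac h.a' (onto_of_comm h.b) h.z

theorem m2 : Onto n (MG S1 S2.opp z) (MG S1.opp S2.opp z) := by
  intro x
  rw [D.four.opp2.mem, D.four.opp1.opp2.mem]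
  exact mem_MM_ac h.a (onto_of_comm h.b') h.z

theorem y : Onto n Y Y := onto_of_comm fun x hx => h.cc x (D.Yc hx)

end N0

/-- The four groups `M`. -/
def Mv (S1 S2 : SLSys F G) (z : G) (a : Fin 3 × Bool) : Subgroup G :=
  if a = (0, true) then MG S1 S2 z else if a = (1, true) then MG S1.opp S2 z
  else if a = (1, false) then MG S1 S2.opp z else MG S1.opp S2.opp z

theorem Mv0t (S1 S2 : SLSys F G) (z : G) : Mv S1 S2 z (0, true) = MG S1 S2 z := rfl
theorem Mv1t (S1 S2 : SLSys F G) (z : G) : Mv S1 S2 z (1, true) = MG S1.opp S2 z := rfl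
theorem Mv1f (S1 S2 : SLSys F G) (z : G) : Mv S1 S2 z (1, false) = MG S1 S2.opp z := rfl
theorem Mv0f (S1 S2 : SLSys F G) (z : G) : Mv S1 S2 z (0, false) = MG S1.opp S2.opp z := rfl

/-- The table. -/
structure Tab (S1 S2 : SLSys F G) (z z3 : G) (Y Y' : Subgroup G)
    (X : (Fin 3 → ℤ) → Subgroup G) : Prop where
  k1 : X (rt (0, true) (1, false)) = S1.A
  k1' : X (rt (0, false) (1, true)) = S1.A'
  k2 : X (rt (0, true) (1, true)) = S2.A
  k2' : X (rt (0, false) (1, false)) = S2.A'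
  p1 : X (rt (0, true) (2, true)) = PP (MG S1 S2 z) Y
  p1' : X (rt (0, true) (2, false)) = PP (MG S1 S2 z) Y'
  p2 : X (rt (1, true) (2, true)) = PP (MG S1.opp S2 z) Y
  p2' : X (rt (1, true) (2, false)) = PP (MG S1.opp S2 z) Y'
  q2 : X (rt (1, false) (2, true)) = PP (MG S1 S2.opp z) Y
  q2' : X (rt (1, false) (2, false)) = PP (MG S1 S2.opp z) Y'
  q1 : X (rt (0, false) (2, true)) = PP (MG S1.opp S2.opp z) Y
  q1' : X (rt (0, false) (2, false)) = PP (MG S1.opp S2.opp z) Y'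
  s1 : X (rt (0, true) (0, true)) = MZ (MG S1 S2 z) Y Y'
  s2 : X (rt (1, true) (1, true)) = MZ (MG S1.opp S2 z) Y Y'
  s2' : X (rt (1, false) (1, false)) = MZ (MG S1 S2.opp z) Y Y'
  s1' : X (rt (0, false) (0, false)) = MZ (MG S1.opp S2.opp z) Y Y'
  s3 : X (rt (2, true) (2, true)) = XX3 S1 S2 z Y (z3 * z)
  s3' : X (rt (2, false) (2, false)) = XX3 S1 S2 z Y' (z3 * z)

theorem nx0 : nx (0 : Fin 3) = (1, false) := by decide
theorem nx1 : nx (1 : Fin 3) = (2, false) := by decide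
theorem nx2 : nx (2 : Fin 3) = (2, true) := by decide

theorem sr0 : (sr 0 : Fin 3 → ℤ) = rt (0, true) (1, false) := by rw [sr_eq_rt, nx0]
theorem sr1 : (sr 1 : Fin 3 → ℤ) = rt (1, true) (2, false) := by rw [sr_eq_rt, nx1]
theorem sr2 : (sr 2 : Fin 3 → ℤ) = rt (2, true) (2, true) := by rw [sr_eq_rt, nx2]

theorem nsr0 : -(sr 0 : Fin 3 → ℤ) = rt (0, false) (1, true) := by rw [sr0, ← rt_ng]; rfl
theorem nsr1 : -(sr 1 : Fin 3 → ℤ) = rt (1, false) (2, true) := by rw [sr1, ← rt_ng]; rfl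
theorem nsr2 : -(sr 2 : Fin 3 → ℤ) = rt (2, false) (2, false) := by rw [sr2, ← rt_ng]; rfl

section

variable {W : Type*} [Group W] [Finite W] {cs : CoxeterSystem (CoxeterMatrix.B 3) W}

theorem rep_rt (i : Fin 3) (a b : Fin 3 × Bool) :
    rep cs (Nodes.TypeC.isCartan 3) (cs.simple i) (rt a b) = rt (sg i a) (sg i b) := by
  apply eq_rt
  rw [rep_simple]
  exact ee_refl_of (ee_rt a b)

variable {T : Subgroup G} {n : Fin 3 → G} {X : (Fin 3 → ℤ) → Subgroup G}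
  (R : RGD cs (Nodes.TypeC.isCartan 3) p T n X)

include R

theorem step (i : Fin 3) {a b a' b' : Fin 3 × Bool} (h : Ok a b) (ha : sg i a = a')
    (hb : sg i b = b') {P Q : Subgroup G} (hP : X (rt a b) = P) (hQ : Onto (n i) P Q) :
    X (rt a' b') = Q := by
  have h1 := R.conj i (rt a b) (isRoot_rt cs h)
  rw [rep_rt, ha, hb, hP] at h1
  rw [← h1]
  exact cj_eq_of_onto hQ

end

/-- **The table of root groups.** -/
theorem tab (C : Cfg p m S1 S2 z z3 Y Y') {W : Type*} [Group W] [Finite W]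
    {cs : CoxeterSystem (CoxeterMatrix.B 3) W} {T : Subgroup G} {n : Fin 3 → G}
    {X : (Fin 3 → ℤ) → Subgroup G} (R : RGD cs (Nodes.TypeC.isCartan 3) p T n X)
    (hp : ∀ i, X (sr i) = Xp S1 S2 z z3 Y Y' i) (hm : ∀ i, X (-sr i) = Xm S1 S2 z z3 Y Y' i)
    (hn : ∀ i, SwapMu (Xp S1 S2 z z3 Y Y' i) (Xm S1 S2 z z3 Y Y' i) (n i)) :
    Tab S1 S2 z z3 Y Y' X := by
  have n0 : N0 S1 S2 z (n 0) := n0_of_swap C.D C.h2 (hn 0)
  have n1 : Nel S1 S2 z Y Y' (n 1) := nel_of_swap C (hn 1)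
  have n2 : Cfg.N3 S1 S2 z z3 Y Y' (n 2) := (Ker.swap_N3 C (hn 2)).1
  have k1 : X (rt (0, true) (1, false)) = S1.A := by rw [← sr0]; exact hp 0
  have k1' : X (rt (0, false) (1, true)) = S1.A' := by rw [← nsr0]; exact hm 0
  have p2' : X (rt (1, true) (2, false)) = PP (MG S1.opp S2 z) Y' := by rw [← sr1]; exact hp 1
  have q2 : X (rt (1, false) (2, true)) = PP (MG S1 S2.opp z) Y := by rw [← nsr1]; exact hm 1
  have s3 : X (rt (2, true) (2, true)) = XX3 S1 S2 z Y (z3 * z) := by rw [← sr2]; exact hp 2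
  have s3' : X (rt (2, false) (2, false)) = XX3 S1 S2 z Y' (z3 * z) := by rw [← nsr2]; exact hm 2
  have p2 : X (rt (1, true) (2, true)) = PP (MG S1.opp S2 z) Y :=
    step R 2 (a := (1, true)) (b := (2, false)) (Or.inl (by decide)) (by decide) (by decide) p2' n2.a'
  have q2' : X (rt (1, false) (2, false)) = PP (MG S1 S2.opp z) Y' :=
    step R 2 (a := (1, false)) (b := (2, true)) (Or.inl (by decide)) (by decide) (by decide) q2
      (C.N3_c n2)
  have p1 : X (rt (0, true) (2, true)) = PP (MG S1 S2 z) Y :=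
    step R 0 (a := (1, true)) (b := (2, true)) (Or.inl (by decide)) (by decide) (by decide) p2
      (onto_PP (n0.m1 C.D) (n0.y C.D))
  have p1' : X (rt (0, true) (2, false)) = PP (MG S1 S2 z) Y' :=
    step R 0 (a := (1, true)) (b := (2, false)) (Or.inl (by decide)) (by decide) (by decide) p2'
      (onto_PP (n0.m1 C.D) (n0.y C.D.symm))
  have q1 : X (rt (0, false) (2, true)) = PP (MG S1.opp S2.opp z) Y :=
    step R 0 (a := (1, false)) (b := (2, true)) (Or.inl (by decide)) (by decide) (by decide) q2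
      (onto_PP (n0.m2 C.D) (n0.y C.D))
  have q1' : X (rt (0, false) (2, false)) = PP (MG S1.opp S2.opp z) Y' :=
    step R 0 (a := (1, false)) (b := (2, false)) (Or.inl (by decide)) (by decide) (by decide) q2'
      (onto_PP (n0.m2 C.D) (n0.y C.D.symm))
  have s2 : X (rt (1, true) (1, true)) = MZ (MG S1.opp S2 z) Y Y' :=
    step R 1 (a := (2, true)) (b := (2, true)) (Or.inr rfl) (by decide) (by decide) s3
      (onto_e3_e2 C.Z C.D C.h2 C.I n1)
  have s2' : X (rt (1, false) (1, false)) = MZ (MG S1 S2.opp z) Y Y' :=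
    step R 1 (a := (2, false)) (b := (2, false)) (Or.inr rfl) (by decide) (by decide) s3'
      (C.onto_m3_m2 n1)
  exact {
    k1 := k1
    k1' := k1'
    k2 := step R 1 (a := (0, true)) (b := (2, true)) (Or.inl (by decide)) (by decide) (by decide) p1
      n1.a2b
    k2' := step R 1 (a := (0, false)) (b := (2, false)) (Or.inl (by decide)) (by decide) (by decide)
      q1' n1.a2'b
    p1 := p1
    p1' := p1'
    p2 := p2
    p2' := p2'
    q2 := q2
    q2' := q2'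
    q1 := q1
    q1' := q1'
    s1 := step R 0 (a := (1, true)) (b := (1, true)) (Or.inr rfl) (by decide) (by decide) s2
      (onto_MZ (n0.m1 C.D) (n0.y C.D) (n0.y C.D.symm))
    s2 := s2
    s2' := s2'
    s1' := step R 0 (a := (1, false)) (b := (1, false)) (Or.inr rfl) (by decide) (by decide) s2'
      (onto_MZ (n0.m2 C.D) (n0.y C.D) (n0.y C.D.symm))
    s3 := s3
    s3' := s3' }

end Cfsg.Agent.Cit.OmB3.Table
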