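import Cfsg.Agent.Cit.OmB3.Split

/-!
# Siegel elements in the centraliser of the two `SL₂`'s, group level
-/

set_option autoImplicit false
set_option linter.unusedSectionVars false
set_option linter.unusedVariables false
set_option linter.dupNamespace false

namespace Cfsg.Agent.Cit.OmB3.Third

open scoped commutatorElement
open Module
open Cfsg.Agent.RootAmalgam (Onto Maps PairData)
open Cfsg.Agent.Cit.LemmaATwo Cfsg.Agent.Cit.OmB3.Side Cfsg.Agent.Cit.OmB3.Siegel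
  Cfsg.Agent.Cit.OmB3.Form Cfsg.Agent.Cit.OmB3.Big Cfsg.Agent.Cit.OmB3.Split
open Cfsg.Agent.Cit.OmB3.Form.Four (MG)

variable {G : Type*} [Group G] {F : Type*} [Field F]
variable {p m : ℕ} {S1 S2 : SLSys F G} {z : G} {Y Y' : Subgroup G}
  [Finite G] [Finite F] [Fact p.Prime] [CharP F p] {D : Big p m S1 S2 z Y Y'} {h2 : (2 : F) ≠ 0}
  {f f' : D.four.V}

/-- A `p`-element of the centraliser commuting with `PP M Y` is a Siegel element. -/
theorem siegel_of_comm (R : D.Pr h2 f f') {g : G} (hg : g ∈ CC S1 S2) {k : ℕ} (hk : g ^ p ^ k = 1)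
    (hc : ∀ x ∈ PP (MG S1 S2 z) Y, g * x = x * g) :
    IsSiegel (D.four.beta h2) f f' (rho D.four ⟨g, hg⟩) := by
  have hd : finrank F D.four.V ≤ 4 := by
    rw [D.finrank_V]
    have := D.hm
    omega
  refine isSiegel (k := k) (p := p) (D.four.frm h2) R.hyp h2 hd (rho_isom D.four h2 _) ?_ ?_
  · apply D.four.s1.dil.el_inj
    rw [el_rho]
    exact ac_of_comm (hc _ ((mem_PP_iff R).2 ⟨1, by rw [one_smul]⟩))
  · rw [← map_pow]
    have : (⟨g, hg⟩ : CC S1 S2) ^ p ^ k = 1 := Subtype.ext hk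
    rw [this, map_one]

theorem act_MZ (R : D.Pr h2 f f') {g : G} (hg : g ∈ CC S1 S2) {k : ℕ} (hk : g ^ p ^ k = 1)
    (hc : ∀ x ∈ PP (MG S1 S2 z) Y, g * x = x * g) {b : G} (hb : b ∈ MZ (MG S1 S2 z) Y Y') :
    ∃ a ∈ PP (MG S1 S2 z) Y, ac g b = b * a := by
  have hS := siegel_of_comm R hg hk hc
  obtain ⟨v, hv, rfl⟩ := (mem_MZ_iff R).1 hb
  have h1 := hS.apply_V0 (D.four.frm h2) R.hyp hv
  refine ⟨D.four.s1.dil.el (-(D.four.beta h2 v (wv (D.four.beta h2) f f' (rho D.four ⟨g, hg⟩))) • f),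
    (mem_PP_iff R).2 ⟨_, rfl⟩, ?_⟩
  rw [← Dil.el_add, neg_smul, ← sub_eq_add_neg, ← h1]
  rfl

theorem act_PP' (R : D.Pr h2 f f') {g : G} (hg : g ∈ CC S1 S2) {k : ℕ} (hk : g ^ p ^ k = 1)
    (hc : ∀ x ∈ PP (MG S1 S2 z) Y, g * x = x * g) {c : G} (hcc : c ∈ PP (MG S1 S2 z) Y') :
    ∃ b ∈ MZ (MG S1 S2 z) Y Y', ∃ a ∈ PP (MG S1 S2 z) Y, ac g c = c * b * a := by
  have hS := siegel_of_comm R hg hk hc
  obtain ⟨u, rfl⟩ := (mem_PP_iff' R).1 hcc
  have h1 := hS.apply_f' (D.four.frm h2) R.hyp h2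
  have hw := hS.wv_mem (D.four.frm h2) R.hyp
  refine ⟨D.four.s1.dil.el (u • wv (D.four.beta h2) f f' (rho D.four ⟨g, hg⟩)),
    (mem_MZ_iff R).2 ⟨_, Submodule.smul_mem _ _ hw, rfl⟩,
    D.four.s1.dil.el (-(u * ((2 : F)⁻¹ * D.four.beta h2 (wv (D.four.beta h2) f f'
      (rho D.four ⟨g, hg⟩)) (wv (D.four.beta h2) f f' (rho D.four ⟨g, hg⟩)))) • f),
    (mem_PP_iff R).2 ⟨_, rfl⟩, ?_⟩
  have e : ac g (D.four.s1.dil.el (u • f')) = D.four.s1.dil.el (rho D.four ⟨g, hg⟩ (u • f')) := rfl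
  rw [e, map_smul, h1, ← Dil.el_add, ← Dil.el_add]
  congr 1
  module

theorem onto_span (R : D.Pr h2 f f') {g : G} (hg : g ∈ CC S1 S2) {c : F} (hc : c ≠ 0)
    (hf : rho D.four ⟨g, hg⟩ f = c • f') :
    Onto g (PP (MG S1 S2 z) Y) (PP (MG S1 S2 z) Y') := by
  intro x
  rw [mem_PP_iff R, mem_PP_iff' R]
  constructor
  · rintro ⟨a, ha⟩
    refine ⟨a / c, ?_⟩
    apply ac_inj (g := g)
    have e : ac g (D.four.s1.dil.el ((a / c) • f)) = D.four.s1.dil.el (rho D.four ⟨g, hg⟩ ((a / c) • f)) := rfl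
    rw [e, map_smul, hf, smul_smul, div_mul_cancel₀ _ hc, ha]
    rfl
  · rintro ⟨a, rfl⟩
    refine ⟨a * c, ?_⟩
    show _ = ac g (D.four.s1.dil.el (a • f))
    have e : ac g (D.four.s1.dil.el (a • f)) = D.four.s1.dil.el (rho D.four ⟨g, hg⟩ (a • f)) := rfl
    rw [e, map_smul, hf, smul_smul]

theorem onto_V0 (R : D.Pr h2 f f') {g : G} (hg : g ∈ CC S1 S2)
    (hV : ∀ v ∈ V0 (D.four.beta h2) f f', rho D.four ⟨g, hg⟩ v ∈ V0 (D.four.beta h2) f f') :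
    Onto g (MZ (MG S1 S2 z) Y Y') (MZ (MG S1 S2 z) Y Y') := by
  have hle : ∀ x ∈ MZ (MG S1 S2 z) Y Y', g * x * g⁻¹ ∈ MZ (MG S1 S2 z) Y Y' := by
    intro x hx
    obtain ⟨v, hv, rfl⟩ := (mem_MZ_iff R).1 hx
    exact (mem_MZ_iff R).2 ⟨_, hV v hv, rfl⟩
  intro x
  refine ⟨fun hx => ?_, hle x⟩
  -- finiteness
  have hbij : Function.Bijective (fun x : MZ (MG S1 S2 z) Y Y' =>
      (⟨g * x * g⁻¹, hle x x.2⟩ : MZ (MG S1 S2 z) Y Y')) := by
    rw [← Finite.injective_iff_bijective]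
    intro a b hab
    have h1 : g * (a : G) * g⁻¹ = g * (b : G) * g⁻¹ :=
      congrArg (fun x : MZ (MG S1 S2 z) Y Y' => (x : G)) hab
    apply Subtype.ext
    exact mul_left_cancel (mul_right_cancel h1)
  obtain ⟨⟨y, hy⟩, hyx⟩ := hbij.2 ⟨_, hx⟩
  have h1 : g * y * g⁻¹ = g * x * g⁻¹ := congrArg (fun x : MZ (MG S1 S2 z) Y Y' => (x : G)) hyx
  rw [← mul_left_cancel (mul_right_cancel h1)]
  exact hy

/-- The Weyl elements of the third factor. -/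
theorem exists_mu (R : D.Pr h2 f f') {E E' : Subgroup G} (hE : E ≤ CC S1 S2) (hE' : E' ≤ CC S1 S2)
    (hEp : IsPGroup p E) (hEp' : IsPGroup p E')
    (hEc : ∀ e ∈ E, ∀ x ∈ PP (MG S1 S2 z) Y, e * x = x * e)
    (hEc' : ∀ e ∈ E', ∀ x ∈ PP (MG S1 S2 z) Y', e * x = x * e)
    (hEf : ∀ e ∈ E, (∀ x ∈ MG S1 S2 z, e * x = x * e) → e = 1)
    (hEf' : ∀ e ∈ E', (∀ x ∈ MG S1 S2 z, e * x = x * e) → e = 1)
    (hcard : Nat.card F ^ (m - 2) ≤ Nat.card E) {e' : G} (he' : e' ∈ E') (he1 : e' ≠ 1) :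
    ∃ e ∈ E, Onto (e * e' * e) (PP (MG S1 S2 z) Y) (PP (MG S1 S2 z) Y') ∧
      Onto (e * e' * e) (PP (MG S1 S2 z) Y') (PP (MG S1 S2 z) Y) ∧
      Onto (e * e' * e) (MZ (MG S1 S2 z) Y Y') (MZ (MG S1 S2 z) Y Y') := by
  have hB := D.four.frm h2
  have hd : finrank F D.four.V ≤ 4 := by
    rw [D.finrank_V]
    have := D.hm
    omega
  let rE : E →* Module.End F D.four.V := (rho D.four).comp (Subgroup.inclusion hE)
  have hrE : ∀ (e : E) (v : D.four.V), D.four.s1.dil.el (rE e v) = ac (e : G) (D.four.s1.dil.el v) :=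
    fun _ _ => rfl
  have hinj : Function.Injective rE := by
    rw [injective_iff_map_eq_one]
    intro e he
    apply Subtype.ext
    apply hEf e e.2
    intro x hx
    obtain ⟨v, rfl⟩ := D.four.s1.dil.exists_el hx
    have h3 : D.four.s1.dil.el (rE e v) = D.four.s1.dil.el v := by rw [he]; rfl
    rw [hrE] at h3
    exact comm_of_ac h3
  have hfix : ∀ e : E, rE e f = f := by
    intro e
    apply D.four.s1.dil.el_inj
    rw [hrE]
    exact ac_of_comm (hEc e e.2 _ ((mem_PP_iff R).2 ⟨1, by rw [one_smul]⟩))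
  obtain ⟨k', hk'⟩ := hEp' ⟨e', he'⟩
  have hk' : e' ^ p ^ k' = 1 := congrArg (fun x : E' => (x : G)) hk'
  have hS' : IsSiegel (D.four.beta h2) f' f (rho D.four ⟨e', hE' he'⟩) :=
    siegel_of_comm (pr_symm R) (hE' he') hk' (hEc' e' he')
  set w' := wv (D.four.beta h2) f' f (rho D.four ⟨e', hE' he'⟩) with hw'
  have hw'm : w' ∈ V0 (D.four.beta h2) f f' := by
    rw [← V0_swap hB R.hyp]
    exact hS'.wv_mem hB (R.hyp.symm hB)
  have hw'0 : w' ≠ 0 := by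
    intro h0
    apply he1
    apply hEf' e' he'
    intro x hx
    obtain ⟨v, rfl⟩ := D.four.s1.dil.exists_el hx
    have h3 := hS'.sub_apply hB (R.hyp.symm hB) h2 v
    rw [← hw', h0, smul_zero, map_zero, map_zero, mul_zero, mul_zero, add_zero, zero_smul,
      sub_zero, sub_eq_zero] at h3
    have h4 := congrArg D.four.s1.dil.el h3
    rw [el_rho] at h4
    exact comm_of_ac h4
  have hq : D.four.beta h2 w' w' ≠ 0 := fun h => hw'0 (R.aniso w' hw'm h)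
  set c : F := (2 : F)⁻¹ * D.four.beta h2 w' w' with hc
  have hc0 : c ≠ 0 := mul_ne_zero (inv_ne_zero h2) hq
  have hc2 : D.four.beta h2 w' w' = 2 * c := by rw [hc]; field_simp
  obtain ⟨e, he⟩ := exists_wv rE hB h2 hd hEp hinj (fun g => rho_isom D.four h2 _)
    (by rw [D.finrank_V]; exact hcard) R.hyp hfix
    (Submodule.smul_mem _ c⁻¹ hw'm)
  obtain ⟨k, hk⟩ := hEp e
  have hk : (e : G) ^ p ^ k = 1 := congrArg (fun x : E => (x : G)) hk
  have hS : IsSiegel (D.four.beta h2) f f' (rho D.four ⟨e, hE e.2⟩) :=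
    siegel_of_comm R (hE e.2) hk (hEc e e.2)
  obtain ⟨m1, m2, m3⟩ := mu hB R.hyp h2 hS hS' hc0 hc2 he
  have hn : (e : G) * e' * e ∈ CC S1 S2 := mul_mem (mul_mem (hE e.2) (hE' he')) (hE e.2)
  have hrn : rho D.four ⟨(e : G) * e' * e, hn⟩ =
      rho D.four ⟨e, hE e.2⟩ * rho D.four ⟨e', hE' he'⟩ * rho D.four ⟨e, hE e.2⟩ := by
    rw [← map_mul, ← map_mul]; rfl
  refine ⟨e, e.2, ?_, ?_, ?_⟩
  · apply onto_span R hn (c := -c) (neg_ne_zero.2 hc0)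
    rw [hrn, m1, neg_smul]
  · apply onto_span (pr_symm R) hn (c := -c⁻¹) (neg_ne_zero.2 (inv_ne_zero hc0))
    show rho D.four ⟨(e : G) * e' * e, hn⟩ f' = _
    rw [hrn, m2, neg_smul]
  · apply onto_V0 R hn
    intro v hv
    rw [hrn]
    exact m3 v hv

end Cfsg.Agent.Cit.OmB3.Third
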