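import Cfsg.Agent.Cit.OmB3.Rgd

/-!
# The torus part of the node `e₃`
-/

set_option autoImplicit false
set_option linter.unusedSectionVars false
set_option linter.unusedVariables false
set_option linter.dupNamespace false

namespace Cfsg.Agent.Cit.OmB3.Torus

open scoped commutatorElement
open Module
open Cfsg.Agent.RootAmalgam (Onto Maps PairData mu_unique RD)
open Cfsg.Agent.Cit.LemmaATwo Cfsg.Agent.Cit.OmB3.Side Cfsg.Agent.Cit.OmB3.Siegel
  Cfsg.Agent.Cit.OmB3.Form Cfsg.Agent.Cit.OmB3.Big Cfsg.Agent.Cit.OmB3.Split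
  Cfsg.Agent.Cit.OmB3.Third Cfsg.Agent.Cit.OmB3.Atwo Cfsg.Agent.Cit.OmB3.Mu
  Cfsg.Agent.Cit.OmB3.Zthree Cfsg.Agent.Cit.OmB3.Short Cfsg.Agent.Cit.OmB3.Ethree
  Cfsg.Agent.Cit.OmB3.Pairs Cfsg.Agent.Cit.OmB3.Rgd
open Cfsg.Agent.Cit.OmB3.Form.Four (MG)

/-- A subgroup generated by elements inverted by `g`, such that its `p`-elements are central and commute
with `g`, has order prime to `p`. -/
theorem coprime_of_gen {G : Type*} [Group G] [Finite G] {p : ℕ} [Fact p.Prime] (hp2 : p ≠ 2)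
    (T : Subgroup G) (g : G) (S : Set G) (hT : T = Subgroup.closure S)
    (hg : ∀ s ∈ S, g * s * g⁻¹ = s⁻¹)
    (hc : ∀ x ∈ T, (∃ k, x ^ p ^ k = 1) → ∀ y ∈ T, x * y = y * x)
    (hfix : ∀ x ∈ T, (∃ k, x ^ p ^ k = 1) → g * x = x * g) : (Nat.card T).Coprime p := by
  have hmap : ∀ x ∈ T, g * x * g⁻¹ ∈ T := by
    intro x hx
    have h1 : T ≤ T.comap (MulAut.conj g).toMonoidHom := by
      conv_lhs => rw [hT]
      rw [Subgroup.closure_le]
      intro s hs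
      show g * s * g⁻¹ ∈ T
      rw [hg s hs, hT]
      exact inv_mem (Subgroup.subset_closure hs)
    exact h1 hx
  let σ : T →* T :=
    { toFun := fun x => ⟨g * x * g⁻¹, hmap x x.2⟩
      map_one' := Subtype.ext (by show g * 1 * g⁻¹ = 1; group)
      map_mul' := fun x y => Subtype.ext (by show g * (x * y) * g⁻¹ = g * x * g⁻¹ * (g * y * g⁻¹); group) }
  have hpow : ∀ x : T, (∃ k, x ^ p ^ k = 1) → ∃ k, (x : G) ^ p ^ k = 1 := by
    rintro x ⟨k, hk⟩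
    exact ⟨k, congrArg Subtype.val hk⟩
  refine coprime_of_inv hp2 (fun x hx => ?_) σ {x : T | (x : G) ∈ S} ?_ ?_ ?_
  · rw [Subgroup.mem_center_iff]
    intro y
    exact Subtype.ext (hc x x.2 (hpow x hx) y y.2).symm
  · rw [eq_top_iff]
    rintro ⟨x, hx⟩ -
    have h1 : Subgroup.closure S ≤ (Subgroup.closure {x : T | (x : G) ∈ S}).map T.subtype := by
      rw [Subgroup.closure_le]
      intro s hs
      have hsT : s ∈ T := by rw [hT]; exact Subgroup.subset_closure hs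
      exact ⟨⟨s, hsT⟩, Subgroup.subset_closure hs, rfl⟩
    have hx' := hx
    rw [hT] at hx'
    obtain ⟨y, hy, hyx⟩ := h1 hx'
    have : y = ⟨x, hx⟩ := Subtype.ext hyx
    rw [← this]
    exact hy
  · intro s hs
    exact Subtype.ext (hg s hs)
  · intro x hx
    apply Subtype.ext
    show g * (x : G) * g⁻¹ = x
    rw [hfix x x.2 (hpow x hx), mul_inv_cancel_right]

variable {G : Type*} [Group G] {F : Type*} [Field F]
variable {p m : ℕ} {S1 S2 : SLSys F G} {z z3 : G} {Y Y' : Subgroup G}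
  [Finite G] [Finite F] [Fact p.Prime] [CharP F p]

/-- A `p`-element of `CC` normalising the two lines is trivial on a line. -/
theorem comm_line {D : Big p m S1 S2 z Y Y'} {h2 : (2 : F) ≠ 0} {f f' : D.four.V}
    (R : D.Pr h2 f f') {x : G} (hx : x ∈ CC S1 S2) {k : ℕ} (hk : x ^ p ^ k = 1)
    (h : Onto x (PP (MG S1 S2 z) Y) (PP (MG S1 S2 z) Y)) : rho D.four ⟨x, hx⟩ f = f := by
  have h1 : x * D.four.s1.dil.el f * x⁻¹ ∈ PP (MG S1 S2 z) Y :=
    h.mem ((mem_PP_iff R).2 ⟨1, by rw [one_smul]⟩)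
  obtain ⟨c, hc⟩ := (mem_PP_iff R).1 h1
  have h3 : rho D.four ⟨x, hx⟩ f = c • f := by
    apply D.four.s1.dil.el_inj
    rw [hc]; rfl
  have h4 : ∀ n : ℕ, (rho D.four ⟨x, hx⟩ ^ n) f = c ^ n • f := by
    intro n
    induction n with
    | zero => rw [pow_zero, pow_zero, one_smul]; rfl
    | succ n ih =>
      rw [pow_succ', Module.End.mul_apply, ih, map_smul, h3, smul_smul, ← pow_succ]
  have h5 : rho D.four ⟨x, hx⟩ ^ p ^ k = 1 := by
    rw [← map_pow]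
    have : (⟨x, hx⟩ : CC S1 S2) ^ p ^ k = 1 := Subtype.ext hk
    rw [this, map_one]
  have h6 := h4 (p ^ k)
  rw [h5, Module.End.one_apply] at h6
  have h7 : (c ^ p ^ k - 1) • f = 0 := by rw [sub_smul, one_smul, ← h6, sub_self]
  have h8 : c ^ p ^ k = 1 := sub_eq_zero.1 ((smul_eq_zero.1 h7).resolve_right (f_ne R))
  rw [h3, scalar_eq_one h8, one_smul]

/-- A `p`-element of `CC` normalising the two lines centralises `M`. -/
theorem comm_of_lines (D : Big p m S1 S2 z Y Y') (h2 : (2 : F) ≠ 0) {x : G} (hx : x ∈ CC S1 S2)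
    {k : ℕ} (hk : x ^ p ^ k = 1) (h : Onto x (PP (MG S1 S2 z) Y) (PP (MG S1 S2 z) Y))
    (h' : Onto x (PP (MG S1 S2 z) Y') (PP (MG S1 S2 z) Y')) : ∀ y ∈ MG S1 S2 z, x * y = y * x := by
  obtain ⟨f, f', R⟩ := D.exists_pr h2
  have hB := D.four.frm h2
  have e1 := comm_line R hx hk h
  have e2 : rho D.four ⟨x, hx⟩ f' = f' := comm_line (pr_symm R) hx hk h'
  have hd : finrank F D.four.V ≤ 4 := by
    rw [D.finrank_V]
    have := D.hm
    omega
  have h5 : rho D.four ⟨x, hx⟩ ^ p ^ k = 1 := by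
    rw [← map_pow]
    have : (⟨x, hx⟩ : CC S1 S2) ^ p ^ k = 1 := Subtype.ext hk
    rw [this, map_one]
  have hiso := rho_isom D.four h2 ⟨x, hx⟩
  have e3 : ∀ v ∈ V0 (D.four.beta h2) f f', rho D.four ⟨x, hx⟩ v = v := by
    intro v hv
    have h6 := unip hB R.hyp h2 hd hiso e1 h5 hv
    have h7 : D.four.beta h2 (rho D.four ⟨x, hx⟩ v) f' = 0 := by
      have := hiso v f'
      rw [e2] at this
      rw [this]; exact hv.2
    rw [h7, zero_smul, add_zero] at h6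
    exact h6
  have e4 : ∀ v, rho D.four ⟨x, hx⟩ v = v := by
    intro v
    have hd := decomp (B := D.four.beta h2) (f := f) (f' := f') v
    conv_lhs => rw [hd]
    rw [map_add, map_add, map_smul, map_smul, e1, e2, e3 _ (pr_mem hB R.hyp v)]
    exact hd.symm
  intro y hy
  obtain ⟨v, rfl⟩ := D.four.s1.dil.exists_el hy
  apply comm_of_ac
  rw [← el_rho D.four ⟨x, hx⟩, e4]

theorem card_F_lt (D : Big p m S1 S2 z Y Y') : 1 < Nat.card F ^ (m - 2) := by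
  apply Nat.one_lt_pow _ Finite.one_lt_card
  have := D.hm
  omega

namespace Ker

variable (C : Cfg p m S1 S2 z z3 Y Y')

include C

/-- Elements of `CC` centralising `M` commute with everything. -/
theorem comm_all {x : G} (hx : x ∈ CC S1 S2) (h : ∀ y ∈ MG S1 S2 z, x * y = y * x) :
    (∀ y ∈ MG S1.opp S2 z, y * x = x * y) ∧ (∀ y ∈ MG S1 S2.opp z, y * x = x * y) ∧
      z3 * z * x = x * (z3 * z) := by
  obtain ⟨n, hn⟩ := exists_n C.D C.h2
  have hw1 : ac S1.w x = x := ac_of_comm (w1_CC hx)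
  have hw2 : ac S2.w x = x := ac_of_comm (w2_CC hx)
  have k1 : ∀ y ∈ MG S1.opp S2 z, y * x = x * y := by
    have h5 := (comm_onto (onto_w1 C.D) (x := x)).2 fun y hy => (h y hy).symm
    rwa [hw1] at h5
  have k2 : ∀ y ∈ MG S1 S2.opp z, y * x = x * y := by
    have h5 := (comm_onto (onto_w2_M C.D) (x := x)).2 fun y hy => (h y hy).symm
    rwa [hw2] at h5
  refine ⟨k1, k2, ?_⟩
  have hnx : n * x = x * n := by
    have hle : PP (MG S1.opp S2 z) Y' ⊔ PP (MG S1 S2.opp z) Y ≤ Subgroup.centralizer {x} := by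
      apply sup_le
      · intro y hy
        rw [Subgroup.mem_centralizer_singleton_iff]
        exact k1 y (PP_le _ _ hy)
      · intro y hy
        rw [Subgroup.mem_centralizer_singleton_iff]
        exact k2 y (PP_le _ _ hy)
    exact Subgroup.mem_centralizer_singleton_iff.1 (hle hn.mem)
  rw [← C.Z.nn C.D C.h2 hn]
  exact Commute.mul_left (show Commute n x from hnx) hnx

/-- They commute with `X_{e₃}`. -/
theorem comm_XX3 {x : G} (hx : x ∈ CC S1 S2) (h : ∀ y ∈ MG S1 S2 z, x * y = y * x) {e : G}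
    (he : e ∈ XX3 S1 S2 z Y (z3 * z)) : x * e = e * x := by
  have heC := XX3_le _ _ _ _ _ he
  obtain ⟨k, hk⟩ : ∃ k, k = ⁅x, e⁆ := ⟨_, rfl⟩
  have hkC : k ∈ CC S1 S2 := by
    rw [hk, commutatorElement_def]
    exact mul_mem (mul_mem (mul_mem hx heC) (inv_mem hx)) (inv_mem heC)
  have hkM : ∀ y ∈ MG S1 S2 z, k * y = y * k := by
    intro y hy
    have h1 : ac (x⁻¹) (ac e⁻¹ y) = ac e⁻¹ y := by
      apply ac_of_comm
      have h3 : ac e⁻¹ y ∈ MG S1 S2 z := (ac_mem C.D.four (inv_mem heC)).2 hy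
      have h4 : Commute x (ac e⁻¹ y) := h _ h3
      exact h4.inv_left
    have h3 : ac x y = y := ac_of_comm (h y hy)
    apply comm_of_ac
    rw [hk, commutatorElement_def]
    rw [← ac_ac, ← ac_ac, ← ac_ac, h1, ac_ac_inv, h3]
  have z1 := (comm_all C hx h).2.2
  have z2 := (comm_all C hkC hkM).2.2
  have ez : ac (z3 * z) e = e⁻¹ := XX3_inv C.Z C.D C.h2 C.I he
  have h1 : ⁅x, e⁻¹⁆ = k := by
    have h3 := congrArg (ac (z3 * z)) hk
    rw [ac_comm, ac_of_comm z1, ez, ac_of_comm z2] at h3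
    exact h3.symm
  -- `x e x⁻¹ = k e`, `x e⁻¹ x⁻¹ = k e⁻¹`
  have h3 : x * e * x⁻¹ = k * e := by rw [hk, commutatorElement_def]; group
  have h4 : x * e⁻¹ * x⁻¹ = k * e⁻¹ := by rw [← h1, commutatorElement_def]; group
  have h5 : k * e * (k * e⁻¹) = 1 := by rw [← h3, ← h4]; group
  have h6 : x * (e * e) * x⁻¹ = e * e := by
    have e1 : x * (e * e) * x⁻¹ = (k * e) * (k * e) := by rw [← h3]; group
    have e2 : k * e * (k * e) = k * e * (k * e⁻¹) * (e * e) := by group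
    rw [e1, e2, h5, one_mul]
  have h7 : Commute x (e ^ 2) := by
    rw [pow_two]
    show x * (e * e) = e * e * x
    calc x * (e * e) = x * (e * e) * x⁻¹ * x := by group
      _ = _ := by rw [h6]
  obtain ⟨g, hg⟩ := exists_gel C.Z C.D C.h2 C.I
  have hodd : Odd (orderOf e) := ((mem_XX3 C.D C.h2 hg).1 he).1.1
  have h8 : (orderOf e).Coprime 2 := by
    rw [Nat.coprime_comm, Nat.coprime_two_left]
    exact hodd
  obtain ⟨j, hj⟩ := exists_pow_eq_self_of_coprime (n := 2) h8.symm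
  rw [← hj]
  exact h7.pow_right j

theorem XX3_ne_bot : ∃ e ∈ XX3 S1 S2 z Y (z3 * z), e ≠ 1 := by
  by_contra hcon
  push Not at hcon
  have h1 : XX3 S1 S2 z Y (z3 * z) = ⊥ := (Subgroup.eq_bot_iff_forall _).2 hcon
  have h3 := XX3_card C.Z C.D C.h2 C.I
  rw [h1, Subgroup.card_bot] at h3
  have := card_F_lt C.D
  omega

theorem XX3_ne : XX3 S1 S2 z Y (z3 * z) ≠ XX3 S1 S2 z Y' (z3 * z) := by
  intro heq
  obtain ⟨e, he, he1⟩ := XX3_ne_bot C
  apply he1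
  apply XX3_faithful C.Z C.D C.h2 C.I he
  have he' := he
  rw [heq] at he'
  refine comm_of_lines C.D C.h2 (XX3_le _ _ _ _ _ he) (k := 1)
    (by rw [pow_one]; exact XX3_pow C.Z C.D C.h2 C.I he) ?_ ?_
  · exact onto_of_comm fun y hy => ((XX3_comm C.Z C.D C.h2 C.I he).1 y hy).symm
  · exact onto_of_comm fun y hy => ((XX3_comm C.symm.Z C.symm.D C.h2 C.I he').1 y hy).symm

theorem hmu : ∀ a ∈ XX3 S1 S2 z Y' (z3 * z), a ≠ 1 → ∃ x ∈ XX3 S1 S2 z Y (z3 * z),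
    ∃ y ∈ XX3 S1 S2 z Y (z3 * z),
      Onto (x * a * y) (XX3 S1 S2 z Y (z3 * z)) (XX3 S1 S2 z Y' (z3 * z)) ∧
      Onto (x * a * y) (XX3 S1 S2 z Y' (z3 * z)) (XX3 S1 S2 z Y (z3 * z)) := by
  intro a ha ha1
  obtain ⟨e, he, hn⟩ := C.exists_N3 ha ha1
  exact ⟨e, he, e, he, C.N3_e hn, C.N3_e' hn⟩

/-- The exchanging elements. -/
theorem swap_N3 {n : G} (hn : SwapMu (XX3 S1 S2 z Y (z3 * z)) (XX3 S1 S2 z Y' (z3 * z)) n) :
    Cfg.N3 S1 S2 z z3 Y Y' n ∧ ac (z3 * z) n = n⁻¹ ∧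
      ∀ x, (∀ e ∈ XX3 S1 S2 z Y (z3 * z), x * e = e * x) →
        (∀ e ∈ XX3 S1 S2 z Y' (z3 * z), x * e = e * x) → x * n = n * x := by
  obtain ⟨a, ha, ha1, x, hx, y, hy, rfl⟩ := hn.form
  obtain ⟨e, he, hN⟩ := C.exists_N3 ha ha1
  have hbot : XX3 S1 S2 z Y' (z3 * z) ≠ ⊥ := by
    rw [Subgroup.ne_bot_iff_exists_ne_one]
    exact ⟨⟨a, ha⟩, fun h => ha1 (congrArg Subtype.val h)⟩
  obtain ⟨e1, e2⟩ := mu_unique (hmu C) (XX3_ne C) hbot he he hx hy
    ⟨C.N3_e hN, C.N3_e' hN⟩ ⟨hn.pos, hn.neg⟩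
  rw [e1, e2]
  refine ⟨hN, ?_, ?_⟩
  · rw [ac_mul, ac_mul, XX3_inv C.Z C.D C.h2 C.I he, XX3_inv C.symm.Z C.symm.D C.h2 C.I ha]
    group
  · intro u h1 h3
    have c1 : Commute u e := h1 e he
    have c2 : Commute u a := h3 a ha
    exact (c1.mul_right c2).mul_right c1

omit C in
theorem SwapMu_inv {X Xn : Subgroup G} {n : G} (h : SwapMu X Xn n) : SwapMu X Xn n⁻¹ where
  form := by
    obtain ⟨a, ha, ha1, x, hx, y, hy, rfl⟩ := h.form
    exact ⟨a⁻¹, inv_mem ha, inv_ne_one.2 ha1, y⁻¹, inv_mem hy, x⁻¹, inv_mem hx, by group⟩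
  pos := h.neg.inv
  neg := h.pos.inv

/-- **The torus part of the node `e₃` has order prime to `p`.** -/
theorem TM_XX3 (hp2 : p ≠ 2) :
    (Nat.card (TM (XX3 S1 S2 z Y (z3 * z)) (XX3 S1 S2 z Y' (z3 * z)))).Coprime p := by
  obtain ⟨a, ha, ha1⟩ := XX3_ne_bot C.symm
  obtain ⟨e, he, hN⟩ := C.exists_N3 ha ha1
  set n0 := e * a * e with hn0
  have hS0 : SwapMu (XX3 S1 S2 z Y (z3 * z)) (XX3 S1 S2 z Y' (z3 * z)) n0 :=
    ⟨⟨a, ha, ha1, e, he, e, he, rfl⟩, C.N3_e hN, C.N3_e' hN⟩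
  set E := XX3 S1 S2 z Y (z3 * z) with hE
  set E' := XX3 S1 S2 z Y' (z3 * z) with hE'
  -- the elements of `TM` preserve the two lines
  have key : ∀ x ∈ TM E E', x ∈ CC S1 S2 ∧ Onto x (PP (MG S1 S2 z) Y) (PP (MG S1 S2 z) Y) ∧
      Onto x (PP (MG S1 S2 z) Y') (PP (MG S1 S2 z) Y') ∧
      ∀ u, (∀ e ∈ E, u * e = e * u) → (∀ e ∈ E', u * e = e * u) → u * x = x * u := by
    intro x hx
    refine Subgroup.closure_induction (p := fun x _ => x ∈ CC S1 S2 ∧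
      Onto x (PP (MG S1 S2 z) Y) (PP (MG S1 S2 z) Y) ∧
      Onto x (PP (MG S1 S2 z) Y') (PP (MG S1 S2 z) Y') ∧
      ∀ u, (∀ e ∈ E, u * e = e * u) → (∀ e ∈ E', u * e = e * u) → u * x = x * u) ?_ ?_ ?_ ?_ hx
    · rintro _ ⟨n, n', h, h', rfl⟩
      obtain ⟨k1, k2, k3⟩ := swap_N3 C h
      obtain ⟨l1, l2, l3⟩ := swap_N3 C h'
      have tr : ∀ {n : G}, Cfg.N3 S1 S2 z z3 Y Y' n →
          Onto n (PP (MG S1 S2 z) Y) (PP (MG S1 S2 z) Y') ∧
          Onto n (PP (MG S1 S2 z) Y') (PP (MG S1 S2 z) Y) := by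
        intro n hn
        have hw : S1.w * n = n * S1.w := w1_CC hn.cc
        exact ⟨Cfg.onto_conj hw hn.a (onto_PP (onto_w1' C.D) (onto_w1_Y C.D))
            (onto_PP (onto_w1' C.D) (onto_w1_Y C.D.symm)),
          Cfg.onto_conj hw hn.a' (onto_PP (onto_w1' C.D) (onto_w1_Y C.D.symm))
            (onto_PP (onto_w1' C.D) (onto_w1_Y C.D))⟩
      refine ⟨mul_mem (inv_mem k1.cc) l1.cc, (tr k1).1.inv.mul (tr l1).1,
        (tr k1).2.inv.mul (tr l1).2, fun u hu hu' => ?_⟩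
      have c1 : Commute u n := k3 u hu hu'
      have c2 : Commute u n' := l3 u hu hu'
      exact c1.inv_right.mul_right c2
    · exact ⟨one_mem _, Onto.one, Onto.one, fun u _ _ => by rw [mul_one, one_mul]⟩
    · rintro x y - - ⟨h1, h3, h4, h5⟩ ⟨k1, k3, k4, k5⟩
      refine ⟨mul_mem h1 k1, h3.mul k3, h4.mul k4, fun u hu hu' => ?_⟩
      have c1 : Commute u x := h5 u hu hu'
      have c2 : Commute u y := k5 u hu hu'
      exact c1.mul_right c2
    · rintro x - ⟨h1, h3, h4, h5⟩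
      refine ⟨inv_mem h1, h3.inv, h4.inv, fun u hu hu' => ?_⟩
      have c1 : Commute u x := h5 u hu hu'
      exact c1.inv_right
  have hker : ∀ x ∈ TM E E', (∃ k, x ^ p ^ k = 1) → z3 * z * x = x * (z3 * z) ∧
      (∀ e ∈ E, x * e = e * x) ∧ ∀ e ∈ E', x * e = e * x := by
    rintro x hx ⟨k, hk⟩
    obtain ⟨h1, h3, h4, h5⟩ := key x hx
    have hM := comm_of_lines C.D C.h2 h1 hk h3 h4
    exact ⟨(comm_all C h1 hM).2.2, fun e he => comm_XX3 C h1 hM he,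
      fun e he => comm_XX3 C.symm h1 hM he⟩
  refine coprime_of_gen hp2 (TM E E') (n0⁻¹ * (z3 * z)) {y | ∃ n', SwapMu E E' n' ∧ y = n0⁻¹ * n'}
    ?_ ?_ ?_ ?_
  · apply le_antisymm
    · unfold TM
      rw [Subgroup.closure_le]
      rintro _ ⟨n, n', h, h', rfl⟩
      have e1 : n⁻¹ * n' = (n0⁻¹ * n)⁻¹ * (n0⁻¹ * n') := by group
      rw [e1]
      exact mul_mem (inv_mem (Subgroup.subset_closure ⟨n, h, rfl⟩)) (Subgroup.subset_closure ⟨n', h', rfl⟩)
    · rw [Subgroup.closure_le]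
      rintro _ ⟨n', h', rfl⟩
      exact Subgroup.subset_closure ⟨n0, n', hS0, h', rfl⟩
  · rintro _ ⟨n', h', rfl⟩
    have e1 : ac (z3 * z) n0 = n0⁻¹ := (swap_N3 C hS0).2.1
    have e2 : ac (z3 * z) n' = n'⁻¹ := (swap_N3 C h').2.1
    have e3 : n0⁻¹ * (z3 * z) * (n0⁻¹ * n') * (n0⁻¹ * (z3 * z))⁻¹ =
        n0⁻¹ * ((ac (z3 * z) n0)⁻¹ * ac (z3 * z) n') * n0 := by unfold ac; group
    rw [e3, e1, e2]; group
  · intro x hx hk y hy
    obtain ⟨h1, h3, h4⟩ := hker x hx hk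
    exact (key y hy).2.2.2 x h3 h4
  · intro x hx hk
    obtain ⟨h1, h3, h4⟩ := hker x hx hk
    have c1 : Commute (z3 * z) x := h1
    have c2 : Commute x n0 := (swap_N3 C hS0).2.2 x h3 h4
    exact c2.symm.inv_left.mul_left c1

end Ker

end Cfsg.Agent.Cit.OmB3.Torus
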