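import Cfsg.Agent.Cit.OmB3.Mu

/-!
# The involutions `z₃` and `z' = z₃ z`; the second frame; `z'` inverts the short root group `e₂`
-/

set_option autoImplicit false
set_option linter.unusedSectionVars false
set_option linter.unusedVariables false
set_option linter.dupNamespace false

namespace Cfsg.Agent.Cit.OmB3.Zthree

open scoped commutatorElement
open Module
open Cfsg.Agent.RootAmalgam (Onto Maps PairData mu_unique)
open Cfsg.Agent.Cit.LemmaATwo Cfsg.Agent.Cit.OmB3.Side Cfsg.Agent.Cit.OmB3.Siegel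
  Cfsg.Agent.Cit.OmB3.Form Cfsg.Agent.Cit.OmB3.Big Cfsg.Agent.Cit.OmB3.Split
  Cfsg.Agent.Cit.OmB3.Third Cfsg.Agent.Cit.OmB3.Atwo Cfsg.Agent.Cit.OmB3.Mu
open Cfsg.Agent.Cit.OmB3.Form.Four (MG)

variable {G : Type*} [Group G] {F : Type*} [Field F]
variable {p m : ℕ} {S1 S2 : SLSys F G} {z z3 : G} {Y Y' : Subgroup G}
  [Finite G] [Finite F] [Fact p.Prime] [CharP F p]

section conj

variable {X X1 : Subgroup G} {n : G}

theorem inv_conj (h : Onto n X X1) (hz : ac n z = z3) (hi : ∀ x ∈ X, ac z x = x⁻¹) :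
    ∀ x ∈ X1, ac z3 x = x⁻¹ := by
  intro x hx
  have h1 := hi _ (h.mem_inv hx)
  rw [← hz]
  have h3 : ac (ac n z) x = ac n (ac z (n⁻¹ * x * n)) := by unfold ac; group
  rw [h3, h1]
  unfold ac; group

theorem com_conj (h : Onto n X X1) (hz : ac n z = z3) (hi : ∀ x ∈ X, z * x = x * z) :
    ∀ x ∈ X1, z3 * x = x * z3 := by
  intro x hx
  apply comm_of_ac
  have h1 := ac_of_comm (hi _ (h.mem_inv hx))
  rw [← hz]
  have h3 : ac (ac n z) x = ac n (ac z (n⁻¹ * x * n)) := by unfold ac; group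
  rw [h3, h1]
  unfold ac; group

theorem onto_of_inv (h : ∀ x ∈ X, ac n x = x⁻¹) : Onto n X X := by
  have hle : ∀ x ∈ X, ac n x ∈ X := fun x hx => by rw [h x hx]; exact inv_mem hx
  intro x
  constructor
  · intro hx
    have h1 := h _ (inv_mem hx)
    have h3 : ac n x = n * x * n⁻¹ := rfl
    rw [← h3, inv_inv] at h1
    have h4 : (ac n x)⁻¹ = x := by
      have h5 : ac n ((ac n x)⁻¹) = ac n x := h1
      exact ac_inj h5
    rw [← h4]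
    exact inv_mem hx
  · exact hle x

end conj

theorem onto_w1 (D : Big p m S1 S2 z Y Y') : Onto S1.w (MG S1 S2 z) (MG S1.opp S2 z) :=
  fun _ => Big.w1_mem D.four

theorem onto_w1' (D : Big p m S1 S2 z Y Y') : Onto S1.w (MG S1.opp S2 z) (MG S1 S2 z) := by
  intro x
  rw [D.four.mem, D.four.opp1.mem]
  exact D.four.s1.ac_w_B

theorem onto_w1_Y (D : Big p m S1 S2 z Y Y') : Onto S1.w Y Y :=
  onto_of_comm fun y hy => w1_CC (D.Yc hy)

/-- The involution `z₃` of `K_{e₁ - e₃}` and `K_{e₁ + e₃}`. -/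
structure Z3 (S1 S2 : SLSys F G) (z : G) (Y Y' : Subgroup G) (z3 : G) : Prop where
  nz : ∀ n, Nel S1 S2 z Y Y' n → ac n z = z3
  nz' : ∀ n, Nel S1 S2 z Y' Y n → ac n z = z3

theorem exists_z3 (D : Big p m S1 S2 z Y Y') (h2 : (2 : F) ≠ 0) (I : Inp S1 S2 z) :
    ∃ z3, Z3 S1 S2 z Y Y' z3 := by
  obtain ⟨a, ha, ha1⟩ := PP_ne_bot D.opp2 h2
  obtain ⟨a', ha', ha1'⟩ := PP_ne_bot D.opp2.symm h2
  obtain ⟨x, hx, hn⟩ := exists_nel D h2 ha ha1
  obtain ⟨x', hx', hn'⟩ := exists_nel D.symm h2 ha' ha1'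
  refine ⟨ac (x * a * x) z, fun n h => ?_, fun n h => (z3_eq D h2 I hn h).symm⟩
  rw [z3_eq D h2 I hn hn', ← z3_eq D h2 I h hn']

theorem exists_n (D : Big p m S1 S2 z Y Y') (h2 : (2 : F) ≠ 0) : ∃ n, Nel S1 S2 z Y Y' n := by
  obtain ⟨a, ha, ha1⟩ := PP_ne_bot D.opp2 h2
  obtain ⟨x, hx, hn⟩ := exists_nel D h2 ha ha1
  exact ⟨_, hn⟩

namespace Z3

theorem symm (Z : Z3 S1 S2 z Y Y' z3) : Z3 S1 S2 z Y' Y z3 := ⟨Z.nz', Z.nz⟩

variable (Z : Z3 S1 S2 z Y Y' z3) (D : Big p m S1 S2 z Y Y') (h2 : (2 : F) ≠ 0)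

include Z D h2

theorem sq : z3 * z3 = 1 := by
  obtain ⟨n, hn⟩ := exists_n D h2
  rw [← Z.nz n hn, ← ac_mul, z_sq D.four, ac_one]

theorem i1 : ∀ x ∈ S1.A, ac z3 x = x⁻¹ := by
  obtain ⟨n, hn⟩ := exists_n D h2
  exact inv_conj hn.a1b (Z.nz n hn) fun x hx => MG_z D (PP_le _ _ hx)

theorem i1' : ∀ x ∈ S1.A', ac z3 x = x⁻¹ := by
  obtain ⟨n, hn⟩ := exists_n D h2
  exact inv_conj hn.a1'b (Z.nz n hn) fun x hx => MG_z D.opp1.opp2 (PP_le _ _ hx)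

theorem i2 : ∀ x ∈ S2.A, ac z3 x = x⁻¹ := by
  obtain ⟨n, hn⟩ := exists_n D h2
  exact inv_conj hn.a2b (Z.nz n hn) fun x hx => MG_z D (PP_le _ _ hx)

theorem i2' : ∀ x ∈ S2.A', ac z3 x = x⁻¹ := by
  obtain ⟨n, hn⟩ := exists_n D h2
  exact inv_conj hn.a2'b (Z.nz n hn) fun x hx => MG_z D.opp1.opp2 (PP_le _ _ hx)

theorem iB : ∀ x ∈ PP (MG S1.opp S2 z) Y', ac z3 x = x⁻¹ := by
  obtain ⟨n, hn⟩ := exists_n D h2
  exact inv_conj hn.bb (Z.nz n hn) fun x hx => MG_z D.opp2 (PP_le _ _ hx)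

theorem iBm : ∀ x ∈ PP (MG S1 S2.opp z) Y, ac z3 x = x⁻¹ := by
  obtain ⟨n, hn⟩ := exists_n D h2
  exact inv_conj hn.b (Z.nz n hn) fun x hx => MG_z D.opp1 (PP_le _ _ hx)

theorem iBp : ∀ x ∈ PP (MG S1.opp S2 z) Y, ac z3 x = x⁻¹ := Z.symm.iB D.symm h2

theorem iBpm : ∀ x ∈ PP (MG S1 S2.opp z) Y', ac z3 x = x⁻¹ := Z.symm.iBm D.symm h2

theorem cp' : ∀ x ∈ PP (MG S1 S2 z) Y', z3 * x = x * z3 := by
  obtain ⟨n, hn⟩ := exists_n D h2
  exact com_conj hn.a1 (Z.nz n hn) fun x hx => D.four.s2.z_comm hx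

theorem cm : ∀ x ∈ PP (MG S1.opp S2.opp z) Y, z3 * x = x * z3 := by
  obtain ⟨n, hn⟩ := exists_n D h2
  exact com_conj hn.a1' (Z.nz n hn) fun x hx => D.four.s2'.z_comm hx

theorem cp : ∀ x ∈ PP (MG S1 S2 z) Y, z3 * x = x * z3 := Z.symm.cp' D.symm h2

theorem cm' : ∀ x ∈ PP (MG S1.opp S2.opp z) Y', z3 * x = x * z3 := Z.symm.cm D.symm h2

theorem comm : z3 * z = z * z3 := by
  have hw : ac z3 S1.w = S1.w⁻¹ := by
    conv_lhs => rw [w_eq]
    rw [ac_mul, ac_mul, Z.i1' D h2 _ (S1.xm_mem _), Z.i1 D h2 _ (S1.xp_mem _)]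
    rw [w_eq]; group
  apply comm_of_ac
  rw [← D.four.s1.hz]
  nth_rewrite 1 [← S1.w_sq]
  rw [ac_mul, hw, ← mul_inv_rev, S1.w_sq, D.four.s1.hz]
  exact inv_eq_of_mul_eq_one_right (z_sq D.four)

theorem nn {n : G} (hn : Nel S1 S2 z Y Y' n) : n * n = z3 * z := by
  rw [← Z.nz n hn]
  have h1 := hn.inv
  unfold ac at h1 ⊢
  have hzi : z⁻¹ = z := inv_eq_of_mul_eq_one_right (z_sq D.four)
  have h3 : n⁻¹ = z * n * z := by rw [← h1, hzi]
  have h4 : n * z * n⁻¹ * z = n * (z * z) * n * (z * z) := by rw [h3]; group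
  rw [h4, z_sq D.four, mul_one, mul_one]

/-- `z' = z₃ z` inverts what exactly one of the two inverts. -/
theorem zp_of_inv {x : G} (h : ac z3 x = x⁻¹) (h' : ac z x = x) : ac (z3 * z) x = x⁻¹ := by
  rw [← ac_ac, h', h]

theorem zp_of_inv' {x : G} (h : ac z3 x = x) (h' : ac z x = x⁻¹) : ac (z3 * z) x = x⁻¹ := by
  rw [← ac_ac, h', ac_inv, h]

theorem zp_of_inv2 {x : G} (h : ac z3 x = x⁻¹) (h' : ac z x = x⁻¹) : ac (z3 * z) x = x := by
  rw [← ac_ac, h', ac_inv, h, inv_inv]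

theorem zp_sq : z3 * z * (z3 * z) = 1 := by
  have h1 := Z.comm D h2
  calc z3 * z * (z3 * z) = z3 * (z * z3) * z := by group
    _ = (z3 * z3) * (z * z) := by rw [← h1]; group
    _ = 1 := by rw [Z.sq D h2, z_sq D.four, one_mul]

theorem zp_z : ac (z3 * z) z = z := by
  apply ac_of_comm
  have h1 := Z.comm D h2
  rw [h1, mul_assoc, h1]

theorem zp_ne : z3 * z ≠ 1 := by
  intro h
  have h1 : z3 = z := by
    have := Z.comm D h2
    calc z3 = z3 * z * z⁻¹ := by group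
      _ = z⁻¹ := by rw [h, one_mul]
      _ = z := inv_eq_of_mul_eq_one_right (z_sq D.four)
  have h3 := Z.i1 D h2 (S1.xp 1) (S1.xp_mem 1)
  rw [h1] at h3
  have h4 : ac z (S1.xp 1) = S1.xp 1 := ac_of_comm (D.four.s2.z_comm (S1.xp_mem 1))
  rw [h4, ← S1.xp_neg] at h3
  have h5 := S1.xp_injective h3
  apply h2
  have : (1 : F) + 1 = 0 := by nth_rewrite 2 [h5]; ring
  rw [← this]; norm_num

/-- `z'` on the root groups of `S₁`, `S₂`: inversion. -/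
theorem zp_1 : ∀ x ∈ S1.A, ac (z3 * z) x = x⁻¹ := fun x hx =>
  Z.zp_of_inv D h2 (Z.i1 D h2 x hx) (ac_of_comm (D.four.s2.z_comm hx))
theorem zp_1' : ∀ x ∈ S1.A', ac (z3 * z) x = x⁻¹ := fun x hx =>
  Z.zp_of_inv D h2 (Z.i1' D h2 x hx) (ac_of_comm (D.four.s2'.z_comm hx))
theorem zp_2 : ∀ x ∈ S2.A, ac (z3 * z) x = x⁻¹ := fun x hx =>
  Z.zp_of_inv D h2 (Z.i2 D h2 x hx) (ac_of_comm (D.four.s1.z_comm hx))
theorem zp_2' : ∀ x ∈ S2.A', ac (z3 * z) x = x⁻¹ := fun x hx =>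
  Z.zp_of_inv D h2 (Z.i2' D h2 x hx) (ac_of_comm (D.four.s1'.z_comm hx))

theorem zp_B : ∀ x ∈ PP (MG S1.opp S2 z) Y', ac (z3 * z) x = x := fun x hx =>
  Z.zp_of_inv2 D h2 (Z.iB D h2 x hx) (MG_z D.opp1 (PP_le _ _ hx))
theorem zp_Bm : ∀ x ∈ PP (MG S1 S2.opp z) Y, ac (z3 * z) x = x := fun x hx =>
  Z.zp_of_inv2 D h2 (Z.iBm D h2 x hx) (MG_z D.opp2 (PP_le _ _ hx))
theorem zp_Bp : ∀ x ∈ PP (MG S1.opp S2 z) Y, ac (z3 * z) x = x := Z.symm.zp_B D.symm h2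
theorem zp_Bpm : ∀ x ∈ PP (MG S1 S2.opp z) Y', ac (z3 * z) x = x := Z.symm.zp_Bm D.symm h2

theorem zp_p : ∀ x ∈ PP (MG S1 S2 z) Y, ac (z3 * z) x = x⁻¹ := fun x hx =>
  Z.zp_of_inv' D h2 (ac_of_comm (Z.cp D h2 x hx)) (MG_z D (PP_le _ _ hx))
theorem zp_p' : ∀ x ∈ PP (MG S1 S2 z) Y', ac (z3 * z) x = x⁻¹ := Z.symm.zp_p D.symm h2

/-- `X_{e₂ - e₃}` and `X_{-e₂ - e₃}` commute. -/
theorem comm_BB {x y : G} (hx : x ∈ PP (MG S1.opp S2 z) Y') (hy : y ∈ PP (MG S1 S2.opp z) Y') :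
    x * y = y * x := by
  obtain ⟨n, hn⟩ := exists_n D h2
  have hz := Z.nz n hn
  have H1 := HH.conj hn.a1 hz D.four.s1.hA
  have H2 := HH.conj hn.a2' hz D.four.s2.hA'
  have ox := MG_odd D.opp1 (PP_le _ _ hx)
  have oy := MG_odd D.opp2 (PP_le _ _ hy)
  have ix := Z.iB D h2 x hx
  have iy := Z.iBpm D h2 y hy
  have c1 : ∀ a ∈ PP (MG S1 S2 z) Y', a * x = x * a := fun a ha => comm_pp2 D.symm h2 ha hx
  have c2 : ∀ a ∈ PP (MG S1 S2 z) Y', a * y = y * a := fun a ha => comm_pp1 D.symm h2 ha hy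
  have c3 : ∀ a ∈ PP (MG S1.opp S2.opp z) Y', a * x = x * a := fun a ha =>
    (comm_pp1 D.opp1.symm h2 hx ha).symm
  have c4 : ∀ a ∈ PP (MG S1.opp S2.opp z) Y', a * y = y * a := fun a ha =>
    (comm_pp2 D.opp2.symm h2 hy ha).symm
  have m1 := H1 x y ox oy c1 c2 ix iy
  have m2 := H2 x y ox oy c3 c4 ix iy
  rw [← commutatorElement_eq_one_iff_mul_comm]
  -- intersection of `M(+,+)` and `M(-,-)`
  have k1 := D.four.mem.1 (PP_le _ _ m1)
  have k2 := D.opp1.opp2.four.mem.1 (PP_le _ _ m2)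
  apply inv_of_comm_inv k1.1 k1.2.2.2
  rw [← D.four.s1.hz]
  exact comm_h S1 (fun t => k1.2.1 _ (S1.xp_mem t)) (fun t => k2.2.1 _ (S1.xm_mem t))
    (neg_ne_zero.2 one_ne_zero)

/-- `K_{e₂ - e₃}` and `K_{e₂ + e₃}` commute. -/
theorem comm_K {x y : G} (hx : x ∈ PP (MG S1.opp S2 z) Y' ⊔ PP (MG S1 S2.opp z) Y)
    (hy : y ∈ PP (MG S1.opp S2 z) Y ⊔ PP (MG S1 S2.opp z) Y') : x * y = y * x := by
  have h1 : PP (MG S1.opp S2 z) Y' ⊔ PP (MG S1 S2.opp z) Y ≤ Subgroup.centralizer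
      ((PP (MG S1.opp S2 z) Y ⊔ PP (MG S1 S2.opp z) Y' : Subgroup G) : Set G) := by
    rw [← Subgroup.le_centralizer_iff]
    apply sup_le
    · rw [Subgroup.le_centralizer_iff]
      apply sup_le
      · intro a ha
        rw [Subgroup.mem_centralizer_iff]
        intro b hb
        exact MG_ab D.opp1 (PP_le _ _ hb) (PP_le _ _ ha)
      · intro a ha
        rw [Subgroup.mem_centralizer_iff]
        intro b hb
        exact Z.symm.comm_BB D.symm h2 hb ha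
    · rw [Subgroup.le_centralizer_iff]
      apply sup_le
      · intro a ha
        rw [Subgroup.mem_centralizer_iff]
        intro b hb
        exact (Z.comm_BB D h2 ha hb).symm
      · intro a ha
        rw [Subgroup.mem_centralizer_iff]
        intro b hb
        exact MG_ab D.opp2 (PP_le _ _ hb) (PP_le _ _ ha)
  exact ((Subgroup.mem_centralizer_iff.1 (h1 hx)) y hy).symm

end Z3

/-- The element `g` which moves the first frame to the second one. -/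
structure Gel (S1 S2 : SLSys F G) (z : G) (Y Y' : Subgroup G) (z3 g : G) : Prop where
  a1 : Onto g S1.A (PP (MG S1.opp S2 z) Y')
  a1' : Onto g S1.A' (PP (MG S1 S2.opp z) Y)
  a2 : Onto g S2.A (PP (MG S1.opp S2 z) Y)
  a2' : Onto g S2.A' (PP (MG S1 S2.opp z) Y')
  z : ac g z = z3 * z

theorem exists_gel (Z : Z3 S1 S2 z Y Y' z3) (D : Big p m S1 S2 z Y Y') (h2 : (2 : F) ≠ 0)
    (I : Inp S1 S2 z) : ∃ g, Gel S1 S2 z Y Y' z3 g := by
  obtain ⟨n, hn⟩ := exists_n D h2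
  have a1 : Onto (S1.w * n) S1.A (PP (MG S1.opp S2 z) Y') :=
    (onto_PP (onto_w1 D) (onto_w1_Y D.symm)).mul hn.a1
  have a1' : Onto (S1.w * n) S1.A' (PP (MG S1 S2.opp z) Y) :=
    (onto_PP (onto_w1' D.opp2) (onto_w1_Y D)).mul hn.a1'
  have a2 : Onto (S1.w * n) S2.A (PP (MG S1.opp S2 z) Y) :=
    (onto_PP (onto_w1 D) (onto_w1_Y D)).mul hn.a2
  have a2' : Onto (S1.w * n) S2.A' (PP (MG S1 S2.opp z) Y') :=
    (onto_PP (onto_w1' D.opp2) (onto_w1_Y D.symm)).mul hn.a2'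
  refine ⟨S1.w * n, a1, a1', a2, a2', ?_⟩
  have hu := uniq_conj a1 a1' rfl I.uniq1
  rcases hu (z3 * z) (by rw [← Z.nn D h2 hn]; exact mul_mem hn.mem hn.mem) (Z.zp_sq D h2) with h | h
  · exact absurd h (Z.zp_ne D h2)
  · exact h.symm

theorem inf_PZ (D : Big p m S1 S2 z Y Y') (h2 : (2 : F) ≠ 0) {a c : G} (ha : a ∈ PP (MG S1 S2 z) Y)
    (hc : c ∈ PP (MG S1 S2 z) Y') (hac : a * c ∈ MZ (MG S1 S2 z) Y Y') : a = 1 ∧ c = 1 := by
  obtain ⟨f, f', R⟩ := D.exists_pr h2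
  obtain ⟨u, rfl⟩ := (mem_PP_iff R).1 ha
  obtain ⟨v, rfl⟩ := (mem_PP_iff' R).1 hc
  obtain ⟨w, hw, he⟩ := (mem_MZ_iff R).1 hac
  rw [← Dil.el_add] at he
  have h1 := D.four.s1.dil.el_inj he
  have e1 := hw.1
  have e2 := hw.2
  rw [h1] at e1 e2
  simp only [map_add, map_smul, LinearMap.add_apply, LinearMap.smul_apply, R.hyp.ff, R.hyp.ff',
    R.hyp.f'f', f'f (D.four.frm h2) R.hyp, smul_eq_mul, mul_zero, mul_one, zero_add, add_zero] at e1 e2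
  rw [e1, e2, zero_smul, zero_smul]
  exact ⟨rfl, rfl⟩

/-- membership in the middle part of `M(-,+)` -/
theorem mem_MZ_opp1 (D : Big p m S1 S2 z Y Y') (h2 : (2 : F) ≠ 0) {x : G}
    (hx : x ∈ MG S1.opp S2 z) (h1 : ∀ y ∈ PP (MG S1 S2 z) Y, x * y = y * x)
    (h3 : ∀ y ∈ PP (MG S1 S2 z) Y', x * y = y * x) : x ∈ MZ (MG S1.opp S2 z) Y Y' := by
  obtain ⟨f, f', R⟩ := D.opp1.swap.exists_pr h2
  have h4 := mem_MZ_of_comm R (x := x) (by rw [Big.MG_swap]; exact hx)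
    (by
      intro y hy
      apply h1
      rw [← Big.MG_swap S1 S2 z]
      exact hy)
    (by
      intro y hy
      apply h3
      rw [← Big.MG_swap S1 S2 z]
      exact hy)
  rw [Big.MG_swap] at h4
  exact h4

theorem MZ_le' (D : Big p m S1 S2 z Y Y') (h2 : (2 : F) ≠ 0) : MZ (MG S1 S2 z) Y Y' ≤ MG S1 S2 z := by
  obtain ⟨f, f', R⟩ := D.exists_pr h2
  exact MZ_le R

/-- An element of the middle part commuting with `z'` is trivial. -/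
theorem eq_one_of_comm_zp (Z : Z3 S1 S2 z Y Y' z3) (D : Big p m S1 S2 z Y Y') (h2 : (2 : F) ≠ 0)
    (I : Inp S1 S2 z) {e : G} (he : e ∈ MZ (MG S1.opp S2 z) Y Y') (hz : z3 * z * e = e * (z3 * z)) :
    e = 1 := by
  obtain ⟨g, hg⟩ := exists_gel Z D h2 I
  obtain ⟨n, hn⟩ := exists_n D h2
  obtain ⟨n', hn'⟩ := exists_n D.symm h2
  have heM := MZ_le' D.opp1 h2 he
  have heo := MG_odd D.opp1 heM
  obtain ⟨a, ha, hac⟩ := cen_conj hg.a1 hg.a1' hg.z I.cen1 e heo hz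
    fun x hx => MG_ab D.opp1 (PP_le _ _ hx) heM
  obtain ⟨b, hb, hbc⟩ := cen_conj hg.a2 hg.a2' hg.z I.cen2 e heo hz
    fun x hx => MG_ab D.opp1 (PP_le _ _ hx) heM
  have haM := PP_le _ _ ha
  have hbM := PP_le _ _ hb
  set m0 := b⁻¹ * (a⁻¹ * e) with hm0
  have hm0' : m0 = a⁻¹ * (b⁻¹ * e) := by
    rw [hm0, ← mul_assoc, ← mul_assoc, MG_ab D.opp1 (inv_mem hbM) (inv_mem haM)]
  have hm0M : m0 ∈ MG S1.opp S2 z := mul_mem (inv_mem hbM) (mul_mem (inv_mem haM) heM)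
  have hK : ∀ x ∈ PP (MG S1.opp S2 z) Y' ⊔ PP (MG S1 S2.opp z) Y, x * m0 = m0 * x := by
    intro x hx
    have c1 : Commute x b := Z.comm_K D h2 hx (Subgroup.mem_sup_left hb)
    have c2 : Commute x (a⁻¹ * e) := hac x hx
    exact (c1.inv_right).mul_right c2
  have hK' : ∀ x ∈ PP (MG S1.opp S2 z) Y ⊔ PP (MG S1 S2.opp z) Y', x * m0 = m0 * x := by
    intro x hx
    have c1 : Commute x a := (Z.comm_K D h2 (Subgroup.mem_sup_left ha) hx).symm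
    have c2 : Commute x (b⁻¹ * e) := hbc x hx
    rw [hm0']
    exact (c1.inv_right).mul_right c2
  have hm0Z : m0 ∈ MZ (MG S1.opp S2 z) Y Y' := by
    apply mem_MZ_opp1 D h2 hm0M
    · intro y hy
      have h1 : ac n m0 = m0 := ac_of_comm (hK n hn.mem)
      have h3 := (comm_onto hn.a2 (x := m0)).2 fun a ha => MG_A2 D.opp1 hm0M ha
      rw [h1] at h3
      exact (h3 y hy).symm
    · intro y hy
      have h1 : ac n' m0 = m0 := ac_of_comm (hK' n' hn'.mem)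
      have h3 := (comm_onto hn'.a2 (x := m0)).2 fun a ha => MG_A2 D.opp1 hm0M ha
      rw [h1] at h3
      exact (h3 y hy).symm
  have hab : b * a ∈ MZ (MG S1.opp S2 z) Y Y' := by
    have h1 : b * a = e * m0⁻¹ := by
      have h3 : m0⁻¹ * e = b * a := by
        have h4 : m0⁻¹ * e = e⁻¹ * (a * b * e) := by rw [hm0]; group
        rw [h4, MG_ab D.opp1 (mul_mem haM hbM) heM, inv_mul_cancel_left]
        exact MG_ab D.opp1 haM hbM
      rw [← h3]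
      exact MG_ab D.opp1 (inv_mem hm0M) heM
    rw [h1]
    exact mul_mem he (inv_mem hm0Z)
  obtain ⟨hb1, ha1⟩ := inf_PZ D.opp1 h2 hb ha hab
  have hm0e : m0 = e := by rw [hm0, ha1, hb1, inv_one, one_mul, one_mul]
  rw [hm0e] at hK
  -- `e` commutes with `S₁`
  have h1 : ac n e = e := ac_of_comm (hK n hn.mem)
  have h3 := (comm_onto hn.a1b (x := e)).2 fun a ha => comm_pz2 D.symm h2 ha (by
    rw [MZ_symm]; exact he)
  rw [h1] at h3
  apply inv_of_comm_inv heo (MG_z D.opp1 heM)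
  rw [← D.four.s1.hz]
  exact comm_h S1 (fun t => h3 _ (S1.xp_mem t)) (fun t => MG_A1 D.opp1 heM (S1.xm_mem t))
    (neg_ne_zero.2 one_ne_zero)

/-- `z'` inverts the short root group `e₂`. -/
theorem zp_MZ (Z : Z3 S1 S2 z Y Y' z3) (D : Big p m S1 S2 z Y Y') (h2 : (2 : F) ≠ 0)
    (I : Inp S1 S2 z) {e : G} (he : e ∈ MZ (MG S1.opp S2 z) Y Y') : ac (z3 * z) e = e⁻¹ := by
  have heM := MZ_le' D.opp1 h2 he
  have hM : ac (z3 * z) e ∈ MG S1.opp S2 z := by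
    rw [D.opp1.four.mem] at heM ⊢
    refine (mem_MM_ac ?_ ?_ (Z.zp_z D h2)).2 heM
    · exact onto_of_inv (Z.zp_1' D h2)
    · exact onto_of_inv (Z.zp_2 D h2)
  have hp : Onto (z3 * z) (PP (MG S1 S2 z) Y) (PP (MG S1 S2 z) Y) := onto_of_inv (Z.zp_p D h2)
  have hp' : Onto (z3 * z) (PP (MG S1 S2 z) Y') (PP (MG S1 S2 z) Y') := onto_of_inv (Z.zp_p' D h2)
  have hMZ : ac (z3 * z) e ∈ MZ (MG S1.opp S2 z) Y Y' := by
    apply mem_MZ_opp1 D h2 hM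
    · intro y hy
      exact ((comm_onto hp (x := e)).2 (fun a ha => comm_pz2 D h2 ha he) y hy).symm
    · intro y hy
      exact ((comm_onto hp' (x := e)).2 (fun a ha => comm_pz2 D.symm h2 ha (by
        rw [MZ_symm]; exact he)) y hy).symm
  have h1 : e * ac (z3 * z) e = 1 := by
    apply eq_one_of_comm_zp Z D h2 I (mul_mem he hMZ)
    apply comm_of_ac
    rw [ac_mul, ac_ac, Z.zp_sq D h2, one_ac]
    exact MG_ab D.opp1 hM heM
  exact (inv_eq_of_mul_eq_one_right h1).symm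

end Cfsg.Agent.Cit.OmB3.Zthree
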